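import Cfsg.Agent.Lib.OddBase.Basic
import Cfsg.Agent.Lib.FormRep.SelfDual

/-!
# Pairs of vectors for coprime solvable linear groups: basic notions
-/

set_option autoImplicit false

universe u v

namespace CfsgLib.CoprimeBase

open CfsgLib.OddBase (Inv CR HasBase)

/-- The induction hypothesis: solvable coprime groups on smaller elementary modules have a base of
size two. -/
def SmallBaseC (n : ℕ) : Prop :=
  ∀ (Y : Type u) [Group Y] [Finite Y], Group.IsSolvable Y →
    ∀ (W : Type v) [AddCommGroup W] [Finite W], Nat.card W < n →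
      ∀ p : ℕ, p.Prime → (∀ x : W, p • x = 0) → ¬ p ∣ Nat.card Y →
        ∀ σ : Y →* AddMonoid.End W, HasBase σ

theorem SmallBaseC.mono {n m : ℕ} (h : SmallBaseC.{u, v} n) (hm : m ≤ n) : SmallBaseC.{u, v} m :=
  fun Y _ _ hY W _ _ hW p hp h1 h2 σ => h Y hY W (lt_of_lt_of_le hW hm) p hp h1 h2 σ

variable {X : Type u} [Group X] {V : Type v} [AddCommGroup V]

theorem cr_of_coprime_aux [Finite X] {p : ℕ} [hp : Fact p.Prime] [Module (ZMod p) V]
    (hc : ¬ p ∣ Nat.card X) (ρ : X →* AddMonoid.End V) : CR ρ := by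
  let ρ' : Representation (ZMod p) X V :=
    { toFun := fun g => AddMonoidHom.toZModLinearMap p (ρ g)
      map_one' := LinearMap.ext fun x => by
        show ρ 1 x = x
        rw [map_one]; rfl
      map_mul' := fun g h => LinearMap.ext fun x => by
        show ρ (g * h) x = ρ g (ρ h x)
        rw [map_mul]; rfl }
  intro U hU
  obtain ⟨D, hD, hDi⟩ := CfsgLib.SelfDual.exists_inv_compl ρ'
    (fun h => hc ((ZMod.natCast_eq_zero_iff _ p).1 h)) (X := AddSubgroup.toZModSubmodule p U) hU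
  refine ⟨D.toAddSubgroup, hDi, ?_, ?_⟩
  · refine (AddSubgroup.eq_bot_iff_forall _).2 fun x hx => ?_
    exact Submodule.disjoint_def.1 hD.disjoint x hx.1 hx.2
  · refine eq_top_iff.2 fun x _ => ?_
    obtain ⟨a, ha, b, hb, rfl⟩ := Submodule.mem_sup.1 (hD.sup_eq_top ▸ Submodule.mem_top :
      x ∈ AddSubgroup.toZModSubmodule p U ⊔ D)
    exact AddSubgroup.mem_sup.2 ⟨a, ha, b, hb, rfl⟩

/-- A coprime action on an elementary module is completely reducible. -/
theorem cr_of_coprime [Finite X] {p : ℕ} [hp : Fact p.Prime] (hV : ∀ x : V, p • x = 0)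
    (hc : ¬ p ∣ Nat.card X) (ρ : X →* AddMonoid.End V) : CR ρ :=
  @cr_of_coprime_aux _ _ _ _ _ p hp (AddCommGroup.zmodModule hV) hc ρ

/-- A base can be taken with a non-zero first vector. -/
theorem exists_base_ne_zero [Nontrivial V] {ρ : X →* AddMonoid.End V} (h : HasBase ρ) :
    ∃ a b : V, a ≠ 0 ∧ ∀ g, ρ g a = a → ρ g b = b → ρ g = 1 := by
  obtain ⟨a, b, h⟩ := h
  by_cases ha : a = 0
  · by_cases hb : b = 0
    · obtain ⟨x, hx⟩ := exists_ne (0 : V)
      exact ⟨x, 0, hx, fun g _ _ => h g (by rw [ha, map_zero]) (by rw [hb, map_zero])⟩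
    · exact ⟨b, a, hb, fun g h1 h2 => h g h2 h1⟩
  · exact ⟨a, b, ha, h⟩

/-- An element of order prime to `p` whose image has `p`-th power one has trivial image. -/
theorem eq_one_of_pow_prime [Finite X] {M : Type*} [Monoid M] (f : X →* M) {p : ℕ}
    (hp : p.Prime) (hc : ¬ p ∣ Nat.card X) {g : X} (h : f g ^ p = 1) : f g = 1 := by
  have h1 : f g ^ Nat.card X = 1 := by rw [← map_pow, pow_card_eq_one', map_one]
  have h2 := pow_gcd_eq_one.2 ⟨h, h1⟩
  rwa [(hp.coprime_iff_not_dvd.2 hc).gcd_eq_one, pow_one] at h2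

end CfsgLib.CoprimeBase
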