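import Cfsg.Agent.Lib.CoprimeBase.Rigid

/-!
# Computing with additive bijections of a small binary space
-/

set_option autoImplicit false

namespace CfsgLib.CoprimeBase

variable {s : ℕ}

/-- The vector of the bits of a number. -/
def bitVec (s n : ℕ) : Fin s → ZMod 2 := fun i => if n.testBit i then 1 else 0

theorem bitVec_xor (x y : ℕ) : bitVec s (x ^^^ y) = bitVec s x + bitVec s y := by
  funext i
  simp only [bitVec, Pi.add_apply, Nat.testBit_xor]
  cases x.testBit i <;> cases y.testBit i <;> decide

theorem bitVec_zero : bitVec s 0 = 0 := by funext i; simp [bitVec]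

theorem bitVec_two_pow (j : Fin s) : bitVec s (2 ^ (j : ℕ)) = Pi.single j 1 := by
  funext i
  by_cases h : i = j
  · subst h; simp [bitVec]
  · simp [bitVec, Nat.testBit_two_pow, h, Fin.val_inj, Ne.symm h]

theorem bitVec_injOn {x y : ℕ} (hx : x < 2 ^ s) (hy : y < 2 ^ s) (h : bitVec s x = bitVec s y) :
    x = y := by
  refine Nat.eq_of_testBit_eq fun i => ?_
  rcases Nat.lt_or_ge i s with hi | hi
  · have := congrFun h ⟨i, hi⟩
    simp only [bitVec] at this
    cases ha : x.testBit i <;> cases hb : y.testBit i <;> simp [ha, hb] at this ⊢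
  · rw [Nat.testBit_lt_two_pow (hx.trans_le (Nat.pow_le_pow_right two_pos hi)),
      Nat.testBit_lt_two_pow (hy.trans_le (Nat.pow_le_pow_right two_pos hi))]

theorem exists_code (c : Fin s → ZMod 2) : ∃ x, x < 2 ^ s ∧ bitVec s x = c := by
  obtain ⟨x, hx⟩ := (Fintype.bijective_iff_injective_and_card
    fun x : Fin (2 ^ s) => bitVec s x).2
      ⟨fun x y e => Fin.ext (bitVec_injOn x.2 y.2 e), by simp⟩ |>.2 c
  exact ⟨x, x.2, hx⟩

/-- The number of a vector. -/
noncomputable def code (c : Fin s → ZMod 2) : ℕ := (exists_code c).choose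

theorem code_lt (c : Fin s → ZMod 2) : code c < 2 ^ s := (exists_code c).choose_spec.1

theorem bitVec_code (c : Fin s → ZMod 2) : bitVec s (code c) = c := (exists_code c).choose_spec.2

theorem code_bitVec {x : ℕ} (hx : x < 2 ^ s) : code (bitVec s x) = x :=
  bitVec_injOn (code_lt _) hx (bitVec_code _)

theorem code_add (c d : Fin s → ZMod 2) : code (c + d) = code c ^^^ code d :=
  bitVec_injOn (code_lt _) (Nat.xor_lt_two_pow (code_lt _) (code_lt _))
    (by rw [bitVec_code, bitVec_xor, bitVec_code, bitVec_code])

theorem code_injective : Function.Injective (code (s := s)) := fun a b e => by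
  rw [← bitVec_code a, e, bitVec_code]

/-- The table of an additive map. -/
noncomputable def table (h : (Fin s → ZMod 2) →+ (Fin s → ZMod 2)) : List ℕ :=
  (List.range (2 ^ s)).map fun n => code (h (bitVec s n))

theorem table_getD (h : (Fin s → ZMod 2) →+ (Fin s → ZMod 2)) {x : ℕ} (hx : x < 2 ^ s) :
    (table h).getD x 0 = code (h (bitVec s x)) := by
  simp [table, List.getD_eq_getElem?_getD, hx]

/-- Composition of tables. -/
def cmp (a b : List ℕ) : List ℕ := b.map fun x => a.getD x 0

/-- Powers of a table. -/
def pw (s : ℕ) (a : List ℕ) : ℕ → List ℕ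
  | 0 => List.range (2 ^ s)
  | k + 1 => cmp a (pw s a k)

/-- The table has an element of order three among its powers. -/
def hasThree (s : ℕ) (a : List ℕ) : Bool :=
  [1, 2, 5].any fun k => !(pw s a k == List.range (2 ^ s)) && pw s a (3 * k) == List.range (2 ^ s)

theorem table_comp (h k : (Fin s → ZMod 2) →+ (Fin s → ZMod 2)) :
    table (h.comp k) = cmp (table h) (table k) := by
  rw [cmp]
  conv_rhs => rw [show table k = (List.range (2 ^ s)).map fun n => code (k (bitVec s n)) from rfl,
    List.map_map]
  refine List.map_congr_left fun n _ => ?_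
  rw [Function.comp_apply, table_getD h (code_lt _), bitVec_code]
  rfl

theorem table_id : table (AddMonoidHom.id (Fin s → ZMod 2)) = List.range (2 ^ s) := by
  conv_rhs => rw [← List.map_id (List.range (2 ^ s))]
  exact List.map_congr_left fun n hn => code_bitVec (List.mem_range.1 hn)

theorem table_eq_range {h : (Fin s → ZMod 2) →+ (Fin s → ZMod 2)} :
    table h = List.range (2 ^ s) ↔ ∀ c, h c = c := by
  refine ⟨fun e c => ?_, fun e => ?_⟩
  · have := table_getD h (code_lt c)
    rw [e, bitVec_code] at this
    simp [List.getD_eq_getElem?_getD, code_lt] at this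
    exact code_injective this.symm
  · rw [show h = AddMonoidHom.id _ from AddMonoidHom.ext e, table_id]

/-- A closed set of additive bijections without elements of order three. -/
structure NoThree (P : Set ((Fin s → ZMod 2) →+ (Fin s → ZMod 2))) : Prop where
  inj : ∀ h ∈ P, Function.Injective h
  comp : ∀ h ∈ P, ∀ k ∈ P, h.comp k ∈ P
  three : ∀ h ∈ P, (∀ c, h (h (h c)) = c) → ∀ c, h c = c

theorem pow_mem {P : Set ((Fin s → ZMod 2) →+ (Fin s → ZMod 2))} (hP : NoThree P)
    {h : (Fin s → ZMod 2) →+ (Fin s → ZMod 2)} (hh : h ∈ P) :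
    ∀ k, ∃ m : (Fin s → ZMod 2) →+ (Fin s → ZMod 2),
      (0 < k → m ∈ P) ∧ table m = pw s (table h) k ∧ ∀ c, m c = h^[k] c := by
  intro k
  induction k with
  | zero => exact ⟨AddMonoidHom.id _, fun h => absurd h (lt_irrefl 0), table_id, fun c => rfl⟩
  | succ k ih =>
    obtain ⟨m, hm, e1, e2⟩ := ih
    refine ⟨h.comp m, fun _ => ?_, by rw [table_comp, e1]; rfl, fun c => ?_⟩
    · rcases Nat.eq_zero_or_pos k with rfl | hk
      · rwa [show m = AddMonoidHom.id _ from AddMonoidHom.ext e2]
      · exact hP.comp h hh m (hm hk)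
    · rw [Function.iterate_succ_apply', AddMonoidHom.comp_apply, e2]

theorem not_hasThree {P : Set ((Fin s → ZMod 2) →+ (Fin s → ZMod 2))} (hP : NoThree P)
    {h : (Fin s → ZMod 2) →+ (Fin s → ZMod 2)} (hh : h ∈ P) : hasThree s (table h) = false := by
  rw [← Bool.not_eq_true]
  intro hb
  simp only [hasThree, List.any_eq_true, Bool.and_eq_true, Bool.not_eq_true', beq_eq_false_iff_ne,
    beq_iff_eq] at hb
  obtain ⟨k, hk, h1, h3⟩ := hb
  have hk0 : 0 < k := by fin_cases hk <;> omega
  obtain ⟨m, hm, e1, e2⟩ := pow_mem hP hh k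
  obtain ⟨m', -, e1', e2'⟩ := pow_mem hP hh (3 * k)
  rw [← e1, Ne, table_eq_range] at h1
  rw [← e1', table_eq_range] at h3
  refine h1 (hP.three m (hm hk0) fun c => ?_)
  rw [e2 (m (m c)), e2 (m c), e2 c, ← Function.iterate_add_apply, ← Function.iterate_add_apply,
    show k + k + k = 3 * k by ring, ← e2', h3]

/-- Search through all colour preserving bijections, level by level. -/
def search (s : ℕ) (col : ℕ → ℕ) (ok : List ℕ → Bool) : ℕ → List ℕ → Bool
  | 0, cur => ok cur
  | f + 1, cur => (List.range (2 ^ s)).all fun m =>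
      cur.contains m ||
      !(decide ((cur.map fun x => col (m ^^^ x)) =
          (List.range cur.length).map fun j => col (cur.length + j))) ||
      search s col ok f (cur ++ cur.map fun x => m ^^^ x)

theorem search_sound (col : ℕ → ℕ) (ok : List ℕ → Bool) {h : (Fin s → ZMod 2) →+ (Fin s → ZMod 2)}
    (hinj : Function.Injective h) (hcol : ∀ c, col (code (h c)) = col (code c))
    (hs : search s col ok s [0] = true) : ok (table h) = true := by
  have key : ∀ f j, j + f = s →
      search s col ok f ((List.range (2 ^ j)).map fun n => code (h (bitVec s n))) = true →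
      ok (table h) = true := by
    intro f
    induction f with
    | zero =>
      intro j hj hs
      obtain rfl : j = s := by omega
      exact hs
    | succ f ih =>
      intro j hj hs
      have hjs : j < s := by omega
      have hlt : 2 ^ j < 2 ^ s := Nat.pow_lt_pow_right (by norm_num) hjs
      simp only [search, List.all_eq_true, List.mem_range] at hs
      have hm := hs (code (h (bitVec s (2 ^ j)))) (code_lt _)
      simp only [Bool.or_eq_true, List.contains_iff_mem, Bool.not_eq_true', decide_eq_false_iff_not,
        List.map_map, List.length_map, List.length_range] at hm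
      have hsplit : ∀ n, n < 2 ^ j →
          code (h (bitVec s (2 ^ j))) ^^^ code (h (bitVec s n)) = code (h (bitVec s (2 ^ j + n))) := by
        intro n hn
        rw [← code_add, ← map_add, ← bitVec_xor]
        congr 3
        refine Nat.eq_of_testBit_eq fun i => ?_
        rw [Nat.testBit_xor, Nat.testBit_two_pow]
        rcases Nat.lt_trichotomy i j with hi | rfl | hi
        · rw [Nat.testBit_two_pow_add_gt hi]; simp [hi.ne']
        · rw [Nat.testBit_two_pow_add_eq, Nat.testBit_lt_two_pow hn]; simp
        · rw [Nat.testBit_lt_two_pow (hn.trans (Nat.pow_lt_pow_right (by norm_num) hi)),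
            Nat.testBit_lt_two_pow]
          · simp [hi.ne]
          · calc 2 ^ j + n < 2 ^ j + 2 ^ j := by omega
              _ = 2 ^ (j + 1) := by ring
              _ ≤ 2 ^ i := Nat.pow_le_pow_right two_pos hi
      rcases hm with (hmem | hne) | hrec
      · obtain ⟨n, hn, e⟩ := List.mem_map.1 hmem
        rw [List.mem_range] at hn
        have := bitVec_injOn (hn.trans hlt) hlt (hinj (code_injective e))
        omega
      · refine absurd (List.map_congr_left fun n hn => ?_) hne
        rw [List.mem_range] at hn
        have hn' : 2 ^ j + n < 2 ^ s := by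
          calc 2 ^ j + n < 2 ^ j + 2 ^ j := by omega
            _ = 2 ^ (j + 1) := by ring
            _ ≤ 2 ^ s := Nat.pow_le_pow_right two_pos hjs
        simp only [Function.comp_apply]
        rw [hsplit n hn, hcol, code_bitVec hn']
      · refine ih (j + 1) (by omega) ?_
        convert hrec using 2
        rw [show 2 ^ (j + 1) = 2 ^ j + 2 ^ j by ring, List.range_add, List.map_append, List.map_map]
        congr 1
        exact List.map_congr_left fun n hn => (hsplit n (List.mem_range.1 hn)).symm
  refine key s 0 (zero_add s) ?_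
  convert hs using 2
  have h0 : code (h (bitVec s 0)) = 0 := by
    rw [bitVec_zero, map_zero, ← bitVec_zero (s := s), code_bitVec (Nat.two_pow_pos s)]
  simp [h0]

/-- A colouring with trivial stabilizer. -/
theorem eq_id_of_search (col : ℕ → ℕ) {h : (Fin s → ZMod 2) →+ (Fin s → ZMod 2)}
    (hinj : Function.Injective h) (hcol : ∀ c, col (code (h c)) = col (code c))
    (hs : search s col (fun t => decide (t = List.range (2 ^ s))) s [0] = true) : ∀ c, h c = c :=
  table_eq_range.1 (of_decide_eq_true (search_sound col _ hinj hcol hs))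

/-- No tuple of stabilising elements, one from each list, avoids an element of order three. -/
def noTuple (s : ℕ) : List (List (List ℕ)) → List (List ℕ) → Bool
  | [], _ => false
  | L :: rest, ch => L.all fun g =>
      ch.any (fun x => hasThree s (cmp x g) || hasThree s (cmp x (cmp x g)) ||
        hasThree s (cmp x (cmp g g))) || noTuple s rest (g :: ch)

theorem noTuple_sound {P : Set ((Fin s → ZMod 2) →+ (Fin s → ZMod 2))} (hP : NoThree P) :
    ∀ (Ls : List (List (List ℕ))) (ch : List (List ℕ)),
      (∀ L ∈ Ls, ∃ h ∈ P, table h ∈ L) → (∀ x ∈ ch, ∃ h ∈ P, table h = x) →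
      noTuple s Ls ch = false := by
  intro Ls
  induction Ls with
  | nil => exact fun ch _ _ => rfl
  | cons L rest ih =>
    intro ch hLs hch
    obtain ⟨h, hh, hL⟩ := hLs L List.mem_cons_self
    rw [← Bool.not_eq_true]
    intro hb
    simp only [noTuple, List.all_eq_true, Bool.or_eq_true, List.any_eq_true] at hb
    rcases hb _ hL with ⟨x, hx, hb⟩ | hb
    · obtain ⟨k, hk, rfl⟩ := hch x hx
      rw [← table_comp, ← table_comp, ← table_comp, ← table_comp,
        not_hasThree hP (hP.comp k hk h hh), not_hasThree hP (hP.comp k hk _ (hP.comp k hk h hh)),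
        not_hasThree hP (hP.comp k hk _ (hP.comp h hh h hh))] at hb
      simp at hb
    · rw [ih (table h :: ch) (fun L hL => hLs L (List.mem_cons_of_mem _ hL)) fun x hx => by
        rcases List.mem_cons.1 hx with rfl | hx
        exacts [⟨h, hh, rfl⟩, hch x hx]] at hb
      exact Bool.false_ne_true hb

/-- The acceptance test used with `noTuple`. -/
def okTest (s : ℕ) (L : List (List ℕ)) (t : List ℕ) : Bool :=
  t == List.range (2 ^ s) || L.contains t || hasThree s t

/-- A certificate yields a colouring with trivial stabilizer. -/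
theorem exists_of_cert {ι : Type*} (cols : ι → ℕ → ℕ) (L : ι → List (List ℕ)) (idx : List ι)
    (h1 : ∀ i ∈ idx, search s (cols i) (okTest s (L i)) s [0] = true)
    (h2 : noTuple s (idx.map L) [] = true)
    {P : Set ((Fin s → ZMod 2) →+ (Fin s → ZMod 2))} (hP : NoThree P) :
    ∃ i ∈ idx, ∀ h ∈ P, (∀ c, cols i (code (h c)) = cols i (code c)) → ∀ c, h c = c := by
  by_contra hcon
  push Not at hcon
  refine Bool.false_ne_true (((noTuple_sound hP _ _) ?_ (by simp)).symm.trans h2)
  intro M hM
  obtain ⟨i, hi, rfl⟩ := List.mem_map.1 hM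
  obtain ⟨h, hh, hc, c, hne⟩ := hcon i hi
  refine ⟨h, hh, ?_⟩
  have hok := search_sound (cols i) _ (hP.inj h hh) hc (h1 i hi)
  simp only [okTest, Bool.or_eq_true, beq_iff_eq, List.contains_iff_mem, not_hasThree hP hh,
    Bool.false_eq_true, or_false] at hok
  exact hok.resolve_left fun e => hne (table_eq_range.1 e c)

end CfsgLib.CoprimeBase
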