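import Cfsg.Agent.Lib.CoprimeBase.Bits

/-!
# Colourings of small binary spaces
-/

set_option autoImplicit false

namespace CfsgLib.CoprimeBase

/-- Colourings of the binary space of dimension 2. -/
def sub2Col : List (List ℕ) :=
  [[0, 0, 1, 0],
   [0, 0, 1, 1]]

/-- The stabilising elements of order prime to three. -/
def sub2Stab : List (List (List ℕ)) :=
  [[[0, 3, 2, 1]],
   [[0, 1, 3, 2]]]

/-- Colourings of the binary space of dimension 3. -/
def sub3Col : List (List ℕ) :=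
  [[0, 1, 0, 0, 1, 1, 0, 1],
   [0, 0, 1, 0, 0, 0, 1, 1],
   [0, 1, 0, 0, 1, 0, 1, 0],
   [0, 1, 0, 1, 1, 0, 0, 0],
   [0, 1, 1, 0, 1, 0, 1, 0],
   [0, 0, 1, 1, 1, 0, 0, 1]]

/-- The stabilising elements of order prime to three. -/
def sub3Stab : List (List (List ℕ)) :=
  [[[0, 1, 3, 2, 5, 4, 6, 7], [0, 4, 2, 6, 1, 5, 3, 7], [0, 5, 6, 3, 4, 1, 2, 7]],
   [[0, 1, 2, 3, 5, 4, 7, 6], [0, 4, 7, 3, 1, 5, 6, 2], [0, 5, 6, 3, 4, 1, 2, 7]],
   [[0, 1, 2, 3, 6, 7, 4, 5], [0, 4, 7, 3, 1, 5, 6, 2], [0, 6, 5, 3, 4, 2, 1, 7]],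
   [[0, 1, 5, 4, 3, 2, 6, 7], [0, 3, 2, 1, 4, 7, 6, 5], [0, 4, 7, 3, 1, 5, 6, 2]],
   [[0, 1, 2, 3, 6, 7, 4, 5], [0, 1, 4, 5, 2, 3, 6, 7], [0, 1, 6, 7, 4, 5, 2, 3]],
   [[0, 1, 2, 3, 7, 6, 5, 4], [0, 5, 2, 7, 4, 1, 6, 3], [0, 6, 2, 4, 3, 5, 1, 7]]]

/-- Colourings of the binary space of dimension 4. -/
def sub4Col : List (List ℕ) :=
  [[0, 1, 0, 0, 0, 0, 1, 0, 0, 1, 0, 0, 1, 1, 1, 1],
   [0, 0, 0, 0, 1, 0, 0, 1, 1, 1, 0, 1, 0, 1, 1, 1],
   [0, 1, 0, 0, 0, 1, 1, 1, 0, 1, 0, 1, 1, 0, 0, 1],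
   [0, 0, 0, 0, 1, 0, 1, 0, 1, 1, 1, 0, 1, 1, 0, 0]]

/-- The stabilising elements of order prime to three. -/
def sub4Stab : List (List (List ℕ)) :=
  [[[0, 1, 2, 3, 11, 10, 9, 8, 7, 6, 5, 4, 12, 13, 14, 15], [0, 1, 3, 2, 5, 4, 6, 7, 8, 9, 11, 10, 13, 12, 14, 15], [0, 1, 3, 2, 10, 11, 9, 8, 7, 6, 4, 5, 13, 12, 14, 15], [0, 15, 7, 8, 10, 5, 13, 2, 3, 12, 4, 11, 9, 6, 14, 1], [0, 15, 7, 8, 11, 4, 12, 3, 2, 13, 5, 10, 9, 6, 14, 1], [0, 15, 8, 7, 4, 11, 12, 3, 2, 13, 10, 5, 6, 9, 14, 1], [0, 15, 8, 7, 5, 10, 13, 2, 3, 12, 11, 4, 6, 9, 14, 1]],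
   [[0, 1, 2, 3, 4, 5, 6, 7, 14, 15, 12, 13, 10, 11, 8, 9], [0, 2, 1, 3, 7, 5, 6, 4, 11, 9, 10, 8, 12, 14, 13, 15], [0, 2, 1, 3, 7, 5, 6, 4, 13, 15, 12, 14, 10, 8, 11, 9], [0, 10, 12, 6, 15, 5, 3, 9, 13, 7, 1, 11, 2, 8, 14, 4], [0, 10, 12, 6, 15, 5, 3, 9, 14, 4, 2, 8, 1, 11, 13, 7], [0, 12, 10, 6, 9, 5, 3, 15, 8, 4, 2, 14, 1, 13, 11, 7], [0, 12, 10, 6, 9, 5, 3, 15, 11, 7, 1, 13, 2, 14, 8, 4]],
   [[0, 1, 3, 2, 4, 5, 7, 6, 13, 12, 14, 15, 9, 8, 10, 11], [0, 5, 8, 13, 4, 1, 12, 9, 2, 7, 10, 15, 6, 3, 14, 11], [0, 5, 13, 8, 4, 1, 9, 12, 3, 6, 14, 11, 7, 2, 10, 15], [0, 11, 3, 8, 4, 15, 7, 12, 13, 6, 14, 5, 9, 2, 10, 1], [0, 11, 8, 3, 4, 15, 12, 7, 2, 9, 10, 1, 6, 13, 14, 5], [0, 15, 2, 13, 4, 11, 6, 9, 8, 7, 10, 5, 12, 3, 14, 1], [0, 15, 13, 2, 4, 11, 9, 6, 3, 12, 14, 1, 7, 8, 10, 5]],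
   [[0, 1, 14, 15, 4, 5, 10, 11, 8, 9, 6, 7, 12, 13, 2, 3], [0, 2, 1, 3, 12, 14, 13, 15, 8, 10, 9, 11, 4, 6, 5, 7], [0, 2, 5, 7, 12, 14, 9, 11, 8, 10, 13, 15, 4, 6, 1, 3], [0, 5, 2, 7, 4, 1, 6, 3, 8, 13, 10, 15, 12, 9, 14, 11], [0, 5, 14, 11, 4, 1, 10, 15, 8, 13, 6, 3, 12, 9, 2, 7], [0, 14, 1, 15, 12, 2, 13, 3, 8, 6, 9, 7, 4, 10, 5, 11], [0, 14, 5, 11, 12, 2, 9, 7, 8, 6, 13, 3, 4, 10, 1, 15]]]

/-- Colourings of the binary space of dimension 2. -/
def two2Col : List (List ℕ) :=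
  [[0, 1, 1, 2],
   [0, 2, 1, 2]]

/-- The stabilising elements of order prime to three. -/
def two2Stab : List (List (List ℕ)) :=
  [[[0, 2, 1, 3]],
   [[0, 3, 2, 1]]]

/-- Colourings of the binary space of dimension 3. -/
def two3Col : List (List ℕ) :=
  [[0, 2, 1, 2, 2, 1, 0, 2],
   [0, 1, 2, 1, 1, 1, 0, 2]]

/-- The stabilising elements of order prime to three. -/
def two3Stab : List (List (List ℕ)) :=
  [[[0, 1, 5, 4, 3, 2, 6, 7]],
   [[0, 4, 7, 3, 1, 5, 6, 2]]]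

/-- Colourings of the binary space of dimension 4. -/
def two4Col : List (List ℕ) :=
  [[0, 1, 1, 2, 2, 1, 0, 1, 1, 2, 2, 0, 2, 1, 0, 0]]

/-- The stabilising elements of order prime to three. -/
def two4Stab : List (List (List ℕ)) :=
  [[]]

/-- A colour from a table. -/
def colOf (l : List ℕ) (n : ℕ) : ℕ := l.getD n 0

/-- The pins condition, computed. -/
def pinsB (s : ℕ) (z : ℕ → Bool) : Bool :=
  decide (∀ i : Fin s, (∃ c < 2 ^ s, z c = false ∧ z (c ^^^ 2 ^ (i : ℕ)) = false) ∧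
    ∀ k < 2 ^ s, k = 0 ∨ ∀ b : ZMod 2, ∃ c < 2 ^ s, z c = false ∧ z (c ^^^ 2 ^ (i : ℕ)) = false ∧
      CfsgLib.OddBase.Heis.dot (bitVec s k) (bitVec s c) ≠ b)

theorem pins_of_pinsB {s : ℕ} {z : ℕ → Bool} (h : pinsB s z = true) :
    Pins {c : Fin s → ZMod 2 | z (code c) = true} := by
  have h' := of_decide_eq_true h
  intro i
  obtain ⟨⟨c, hc, a1, a2⟩, hk⟩ := h' i
  have key : ∀ c, c < 2 ^ s → z c = false → z (c ^^^ 2 ^ (i : ℕ)) = false →
      bitVec s c ∉ {c : Fin s → ZMod 2 | z (code c) = true} ∧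
      bitVec s c + Pi.single i 1 ∉ {c : Fin s → ZMod 2 | z (code c) = true} := by
    intro c hc a1 a2
    rw [← bitVec_two_pow, ← bitVec_xor]
    simp only [Set.mem_ofPred_eq, code_bitVec hc,
      code_bitVec (Nat.xor_lt_two_pow hc (Nat.pow_lt_pow_right (by norm_num) i.2)), a1, a2]
    simp
  refine ⟨⟨_, (key c hc a1 a2).1, (key c hc a1 a2).2⟩, fun k b hb => ?_⟩
  rcases hk (code k) (code_lt k) with e | e
  · rw [← bitVec_code k, e, bitVec_zero]
  · obtain ⟨d, hd, b1, b2, hne⟩ := e b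
    rw [bitVec_code] at hne
    exact absurd (hb _ (key d hd b1 b2).1 (key d hd b1 b2).2) hne

/-- Three colours and a zero class, dimension two. -/
def three2Col : List ℕ := [0, 1, 2, 3]

/-- Three colours and a zero class, dimension three. -/
def three3Col : List ℕ := [0, 1, 1, 1, 1, 0, 2, 3]

/-- Three colours and a zero class, dimension four. -/
def three4Col : List ℕ := [0, 2, 0, 1, 3, 1, 1, 3, 0, 2, 1, 1, 1, 2, 1, 1]

/-- A rigid set in dimension five. -/
def fiveSet : Finset ℕ := {1, 2, 4, 5, 8, 10, 11, 16, 20, 27, 29, 31}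

/-- The number of lines of the set through a point. -/
def lineCount (x : ℕ) : ℕ := (fiveSet.filter fun y => x ^^^ y ∈ fiveSet).card

/-- A colouring refining the set. -/
def fiveCol (x : ℕ) : ℕ :=
  if x ∈ fiveSet then
    1 + 64 * lineCount x + ∑ y ∈ fiveSet.filter (fun y => x ^^^ y ∈ fiveSet), lineCount y
  else 0

theorem search_sub2 : ∀ i ∈ [0, 1],
    search 2 (colOf (sub2Col.getD i [])) (okTest 2 (sub2Stab.getD i [])) 2 [0] = true := by
  decide +kernel

theorem search_sub3 : ∀ i ∈ [0, 1, 2, 3, 4, 5],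
    search 3 (colOf (sub3Col.getD i [])) (okTest 3 (sub3Stab.getD i [])) 3 [0] = true := by
  decide +kernel

theorem search_sub4 : ∀ i ∈ [0, 1, 2, 3],
    search 4 (colOf (sub4Col.getD i [])) (okTest 4 (sub4Stab.getD i [])) 4 [0] = true := by
  decide +kernel

theorem search_two2 : ∀ i ∈ [0, 1],
    search 2 (colOf (two2Col.getD i [])) (okTest 2 (two2Stab.getD i [])) 2 [0] = true ∧
      pinsB 2 (fun c => decide (0 < c ∧ colOf (two2Col.getD i []) c = 0)) = true := by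
  decide +kernel

theorem search_two3 : ∀ i ∈ [0, 1],
    search 3 (colOf (two3Col.getD i [])) (okTest 3 (two3Stab.getD i [])) 3 [0] = true ∧
      pinsB 3 (fun c => decide (0 < c ∧ colOf (two3Col.getD i []) c = 0)) = true := by
  decide +kernel

theorem search_two4 : ∀ i ∈ [0],
    search 4 (colOf (two4Col.getD i [])) (okTest 4 (two4Stab.getD i [])) 4 [0] = true ∧
      pinsB 4 (fun c => decide (0 < c ∧ colOf (two4Col.getD i []) c = 0)) = true := by
  decide +kernel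

theorem tuple_sub2 : noTuple 2 ([0, 1].map fun i => sub2Stab.getD i []) [] = true := by
  decide +kernel

theorem tuple_sub3 : noTuple 3 ([0, 1, 2, 3, 4, 5].map fun i => sub3Stab.getD i []) [] = true := by
  decide +kernel

theorem tuple_sub4 : noTuple 4 ([0, 1, 2, 3].map fun i => sub4Stab.getD i []) [] = true := by
  decide +kernel

theorem tuple_two2 : noTuple 2 ([0, 1].map fun i => two2Stab.getD i []) [] = true := by
  decide +kernel

theorem tuple_two3 : noTuple 3 ([0, 1].map fun i => two3Stab.getD i []) [] = true := by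
  decide +kernel

theorem tuple_two4 : noTuple 4 ([0].map fun i => two4Stab.getD i []) [] = true := by
  decide +kernel

theorem search_three :
    (search 2 (colOf three2Col) (fun t => decide (t = List.range (2 ^ 2))) 2 [0] = true ∧
      pinsB 2 (fun c => decide (0 < c ∧ colOf three2Col c = 0)) = true) ∧
    (search 3 (colOf three3Col) (fun t => decide (t = List.range (2 ^ 3))) 3 [0] = true ∧
      pinsB 3 (fun c => decide (0 < c ∧ colOf three3Col c = 0)) = true) ∧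
    (search 4 (colOf three4Col) (fun t => decide (t = List.range (2 ^ 4))) 4 [0] = true ∧
      pinsB 4 (fun c => decide (0 < c ∧ colOf three4Col c = 0)) = true) := by
  decide +kernel

theorem search_five :
    search 5 fiveCol (fun t => decide (t = List.range (2 ^ 5))) 5 [0] = true ∧
      pinsB 5 (fun c => decide (c ∈ fiveSet)) = true := by
  decide +kernel

theorem rigid_five :
    Rigid {c : Fin 5 → ZMod 2 | code c ∈ fiveSet} := by
  intro h hinj hpres
  let H : ℕ → ℕ := fun x => code (h (bitVec 5 x))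
  have hlt : ∀ x ∈ fiveSet, x < 2 ^ 5 := by decide
  have hH : ∀ x ∈ fiveSet, H x ∈ fiveSet := fun x hx =>
    hpres (bitVec 5 x) (show code (bitVec 5 x) ∈ fiveSet by rwa [code_bitVec (hlt x hx)])
  have hHinj : Set.InjOn H fiveSet := fun x hx y hy e =>
    bitVec_injOn (hlt x hx) (hlt y hy) (hinj (code_injective e))
  have himg : fiveSet.image H = fiveSet :=
    Finset.eq_of_subset_of_card_le (Finset.image_subset_iff.2 hH)
      (le_of_eq (Finset.card_image_of_injOn hHinj).symm)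
  have hmem : ∀ c, code (h c) ∈ fiveSet ↔ code c ∈ fiveSet := by
    intro c
    refine ⟨fun hc => ?_, fun hc => hpres c hc⟩
    obtain ⟨x, hx, e⟩ := Finset.mem_image.1 (himg.symm ▸ hc : code (h c) ∈ fiveSet.image H)
    rwa [← hinj (code_injective e), code_bitVec (hlt x hx)]
  have hH' : ∀ x ∈ fiveSet, ∀ c, code (h c) ^^^ H x ∈ fiveSet ↔ code c ^^^ x ∈ fiveSet := by
    intro x hx c
    show _ ^^^ code (h (bitVec 5 x)) ∈ fiveSet ↔ _
    rw [← code_add, ← map_add, hmem, code_add, code_bitVec (hlt x hx)]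
  have hfil : ∀ c, (fiveSet.filter fun y => code c ^^^ y ∈ fiveSet).image H =
      fiveSet.filter fun y => code (h c) ^^^ y ∈ fiveSet := by
    intro c
    ext y
    simp only [Finset.mem_image, Finset.mem_filter]
    constructor
    · rintro ⟨x, ⟨hx, hc⟩, rfl⟩
      exact ⟨hH x hx, (hH' x hx c).2 hc⟩
    · rintro ⟨hy, hc⟩
      obtain ⟨x, hx, rfl⟩ := Finset.mem_image.1 (himg.symm ▸ hy : y ∈ fiveSet.image H)
      exact ⟨x, ⟨hx, (hH' x hx c).1 hc⟩, rfl⟩
  have hinj' : ∀ c : Fin 5 → ZMod 2, Set.InjOn H (fiveSet.filter fun y => code c ^^^ y ∈ fiveSet) := fun c =>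
    hHinj.mono (Finset.coe_subset.2 (Finset.filter_subset _ _))
  have hline : ∀ c, lineCount (code (h c)) = lineCount (code c) := fun c => by
    rw [lineCount, lineCount, ← hfil c, Finset.card_image_of_injOn (hinj' c)]
  refine eq_id_of_search fiveCol hinj (fun c => ?_) search_five.1
  by_cases hc : code c ∈ fiveSet
  · rw [fiveCol, fiveCol, if_pos hc, if_pos ((hmem c).2 hc), hline, ← hfil c,
      Finset.sum_image (hinj' c)]
    congr 1
    refine Finset.sum_congr rfl fun y hy => ?_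
    show lineCount (code (h (bitVec 5 y))) = _
    rw [hline, code_bitVec (hlt y (Finset.mem_filter.1 hy).1)]
  · rw [fiveCol, fiveCol, if_neg hc, if_neg fun e => hc ((hmem c).1 e)]

theorem pins_five : Pins {c : Fin 5 → ZMod 2 | code c ∈ fiveSet} := by
  simpa using pins_of_pinsB search_five.2

/-- A rigid set whose complement pins, from dimension five on. -/
theorem exists_rigid_pins {s : ℕ} (hs : 5 ≤ s) :
    ∃ Z : Set (Fin s → ZMod 2), (0 : Fin s → ZMod 2) ∉ Z ∧ Rigid Z ∧ Pins Z := by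
  rcases (show s = 5 ∨ 6 ≤ s by omega) with rfl | hs
  · refine ⟨_, ?_, rigid_five, pins_five⟩
    intro h
    have h' : code (0 : Fin 5 → ZMod 2) ∈ fiveSet := h
    rw [← bitVec_zero (s := 5), code_bitVec (by norm_num)] at h'
    exact absurd h' (by decide)
  · refine ⟨fanSet s, ?_, rigid_fanSet hs, pins_fanSet hs⟩
    rintro (⟨i, hi, e⟩ | ⟨i, hi, e⟩ | e)
    · have := congrFun e ⟨i, hi⟩; simp [bv, ind] at this
    · have := congrFun e ⟨i, by omega⟩; simp [pv, ind] at this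
    · have := congrFun e ⟨0, by omega⟩; simp [xv, ind] at this

theorem code_zero {s : ℕ} : code (0 : Fin s → ZMod 2) = 0 := by
  rw [← bitVec_zero (s := s), code_bitVec (Nat.two_pow_pos s)]

/-- Two classes breaking every group without elements of order three. -/
theorem exists_subset_noThree {s : ℕ} {P : Set ((Fin s → ZMod 2) →+ (Fin s → ZMod 2))}
    (hP : NoThree P) :
    ∃ Z : Set (Fin s → ZMod 2), (0 : Fin s → ZMod 2) ∉ Z ∧
      ∀ h ∈ P, (∀ c, h c ∈ Z ↔ c ∈ Z) → ∀ c, h c = c := by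
  rcases (show s ≤ 1 ∨ s = 2 ∨ s = 3 ∨ s = 4 ∨ 5 ≤ s by omega) with h | rfl | rfl | rfl | h
  · refine ⟨∅, fun h => h, fun g hg _ c => ?_⟩
    by_cases hc : c = 0
    · rw [hc, map_zero]
    · have hgc : g c ≠ 0 := fun e => hc (hP.inj g hg (e.trans (map_zero g).symm))
      funext i
      have key : ∀ d : Fin s → ZMod 2, d ≠ 0 → d i = 1 := by
        intro d hd
        by_contra hne
        refine hd (funext fun j => ?_)
        rw [show j = i from Fin.ext (by omega)]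
        have : ∀ x : ZMod 2, x ≠ 1 → x = 0 := by decide
        exact this _ hne
      rw [key c hc, key _ hgc]
  · obtain ⟨i, hi, hfix⟩ := exists_of_cert (fun i => colOf (sub2Col.getD i []))
      (fun i => sub2Stab.getD i []) [0, 1] search_sub2 tuple_sub2 hP
    refine ⟨{c | colOf (sub2Col.getD i []) (code c) = 1}, ?_, fun h hh hZ => hfix h hh fun c => ?_⟩
    · fin_cases hi <;> simp [code_zero, colOf, sub2Col]
    · have hb : ∀ i ∈ [0, 1], ∀ n < 4, colOf (sub2Col.getD i []) n ≤ 1 := by decide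
      have := hb i hi _ (code_lt c)
      have := hb i hi _ (code_lt (h c))
      have hz : colOf (sub2Col.getD i []) (code (h c)) = 1 ↔
          colOf (sub2Col.getD i []) (code c) = 1 := hZ c
      omega
  · obtain ⟨i, hi, hfix⟩ := exists_of_cert (fun i => colOf (sub3Col.getD i []))
      (fun i => sub3Stab.getD i []) [0, 1, 2, 3, 4, 5] search_sub3 tuple_sub3 hP
    refine ⟨{c | colOf (sub3Col.getD i []) (code c) = 1}, ?_, fun h hh hZ => hfix h hh fun c => ?_⟩
    · fin_cases hi <;> simp [code_zero, colOf, sub3Col]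
    · have hb : ∀ i ∈ [0, 1, 2, 3, 4, 5], ∀ n < 8, colOf (sub3Col.getD i []) n ≤ 1 := by decide
      have := hb i hi _ (code_lt c)
      have := hb i hi _ (code_lt (h c))
      have hz : colOf (sub3Col.getD i []) (code (h c)) = 1 ↔
          colOf (sub3Col.getD i []) (code c) = 1 := hZ c
      omega
  · obtain ⟨i, hi, hfix⟩ := exists_of_cert (fun i => colOf (sub4Col.getD i []))
      (fun i => sub4Stab.getD i []) [0, 1, 2, 3] search_sub4 tuple_sub4 hP
    refine ⟨{c | colOf (sub4Col.getD i []) (code c) = 1}, ?_, fun h hh hZ => hfix h hh fun c => ?_⟩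
    · fin_cases hi <;> simp [code_zero, colOf, sub4Col]
    · have hb : ∀ i ∈ [0, 1, 2, 3], ∀ n < 16, colOf (sub4Col.getD i []) n ≤ 1 := by decide
      have := hb i hi _ (code_lt c)
      have := hb i hi _ (code_lt (h c))
      have hz : colOf (sub4Col.getD i []) (code (h c)) = 1 ↔
          colOf (sub4Col.getD i []) (code c) = 1 := hZ c
      omega
  · obtain ⟨Z, h0, hr, -⟩ := exists_rigid_pins h
    exact ⟨Z, h0, fun g hg hZ => hr g (hP.inj g hg) fun c hc => (hZ c).2 hc⟩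

/-- Two non-zero colours and a zero class, for groups without elements of order three. -/
theorem exists_two_colours {s : ℕ} (hs : 2 ≤ s) (hs4 : s ≤ 4)
    {P : Set ((Fin s → ZMod 2) →+ (Fin s → ZMod 2))} (hP : NoThree P) :
    ∃ κ : (Fin s → ZMod 2) → ℕ, (∀ c, κ c ≤ 2) ∧ Pins {c | c ≠ 0 ∧ κ c = 0} ∧
      ∀ h ∈ P, (∀ c, c ≠ 0 → κ (h c) = κ c) → ∀ c, h c = c := by
  have conv : ∀ {s : ℕ} (l : List ℕ) (P : Set ((Fin s → ZMod 2) →+ (Fin s → ZMod 2)))
      (_ : NoThree P), (∀ n < 2 ^ s, colOf l n ≤ 2) →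
      pinsB s (fun c => decide (0 < c ∧ colOf l c = 0)) = true →
      (∀ h ∈ P, (∀ c, colOf l (code (h c)) = colOf l (code c)) → ∀ c, h c = c) →
      ∃ κ : (Fin s → ZMod 2) → ℕ, (∀ c, κ c ≤ 2) ∧ Pins {c | c ≠ 0 ∧ κ c = 0} ∧
        ∀ h ∈ P, (∀ c, c ≠ 0 → κ (h c) = κ c) → ∀ c, h c = c := by
    intro s l P hP hb hp hfix
    refine ⟨fun c => colOf l (code c), fun c => hb _ (code_lt c), ?_,
      fun h hh hκ => hfix h hh fun c => ?_⟩
    · have hset : {c : Fin s → ZMod 2 | c ≠ 0 ∧ colOf l (code c) = 0} =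
          {c | decide (0 < code c ∧ colOf l (code c) = 0) = true} := Set.ext fun c => by
        have : c ≠ 0 ↔ 0 < code c :=
          ⟨fun h => Nat.pos_of_ne_zero fun e => h (code_injective (e.trans code_zero.symm)),
           fun h e => by rw [e, code_zero] at h; exact lt_irrefl 0 h⟩
        simp [this]
      rw [hset]
      exact pins_of_pinsB hp
    · by_cases hc : c = 0
      · rw [hc, map_zero]
      · exact hκ c hc
  rcases (show s = 2 ∨ s = 3 ∨ s = 4 by omega) with rfl | rfl | rfl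
  · obtain ⟨i, hi, hfix⟩ := exists_of_cert (fun i => colOf (two2Col.getD i []))
      (fun i => two2Stab.getD i []) [0, 1] (fun i hi => (search_two2 i hi).1) tuple_two2 hP
    exact conv _ P hP (by fin_cases hi <;> decide) (search_two2 i hi).2 hfix
  · obtain ⟨i, hi, hfix⟩ := exists_of_cert (fun i => colOf (two3Col.getD i []))
      (fun i => two3Stab.getD i []) [0, 1] (fun i hi => (search_two3 i hi).1) tuple_two3 hP
    exact conv _ P hP (by fin_cases hi <;> decide) (search_two3 i hi).2 hfix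
  · obtain ⟨i, hi, hfix⟩ := exists_of_cert (fun i => colOf (two4Col.getD i []))
      (fun i => two4Stab.getD i []) [0] (fun i hi => (search_two4 i hi).1) tuple_two4 hP
    exact conv _ P hP (by fin_cases hi <;> decide) (search_two4 i hi).2 hfix

/-- Three non-zero colours and a zero class with trivial stabilizer. -/
theorem exists_three_colours {s : ℕ} (hs : 2 ≤ s) (hs4 : s ≤ 4) :
    ∃ κ : (Fin s → ZMod 2) → ℕ, (∀ c, κ c ≤ 3) ∧ Pins {c | c ≠ 0 ∧ κ c = 0} ∧
      ∀ h : (Fin s → ZMod 2) →+ (Fin s → ZMod 2), Function.Injective h →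
        (∀ c, c ≠ 0 → κ (h c) = κ c) → ∀ c, h c = c := by
  have conv : ∀ {s : ℕ} (l : List ℕ), (∀ n < 2 ^ s, colOf l n ≤ 3) →
      pinsB s (fun c => decide (0 < c ∧ colOf l c = 0)) = true →
      search s (colOf l) (fun t => decide (t = List.range (2 ^ s))) s [0] = true →
      ∃ κ : (Fin s → ZMod 2) → ℕ, (∀ c, κ c ≤ 3) ∧ Pins {c | c ≠ 0 ∧ κ c = 0} ∧
        ∀ h : (Fin s → ZMod 2) →+ (Fin s → ZMod 2), Function.Injective h →
          (∀ c, c ≠ 0 → κ (h c) = κ c) → ∀ c, h c = c := by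
    intro s l hb hp hse
    refine ⟨fun c => colOf l (code c), fun c => hb _ (code_lt c), ?_,
      fun h hinj hκ => eq_id_of_search _ hinj (fun c => ?_) hse⟩
    · have hset : {c : Fin s → ZMod 2 | c ≠ 0 ∧ colOf l (code c) = 0} =
          {c | decide (0 < code c ∧ colOf l (code c) = 0) = true} := Set.ext fun c => by
        have : c ≠ 0 ↔ 0 < code c :=
          ⟨fun h => Nat.pos_of_ne_zero fun e => h (code_injective (e.trans code_zero.symm)),
           fun h e => by rw [e, code_zero] at h; exact lt_irrefl 0 h⟩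
        simp [this]
      rw [hset]
      exact pins_of_pinsB hp
    · by_cases hc : c = 0
      · rw [hc, map_zero]
      · exact hκ c hc
  rcases (show s = 2 ∨ s = 3 ∨ s = 4 by omega) with rfl | rfl | rfl
  · exact conv _ (by decide) search_three.1.2 search_three.1.1
  · exact conv _ (by decide) search_three.2.1.2 search_three.2.1.1
  · exact conv _ (by decide) search_three.2.2.2 search_three.2.2.1

end CfsgLib.CoprimeBase
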