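import Cfsg.Agent.Lib.CoprimeBase.Basic
import Cfsg.Agent.Lib.CoprimeBase.SmallPatterns
import Cfsg.Agent.Lib.SolBase.Main

/-!
# Colourings for solvable permutation groups of order prime to three
-/

set_option autoImplicit false

universe u

namespace CfsgLib.CoprimeBase

open CfsgLib.OddBase (Inv CR res res_apply ext_end mul_apply' one_apply')
open CfsgLib.SolBase (resPerm)

/-- A colouring in three colours with trivial stabilizer. -/
def Three {X : Type*} [Group X] {Ω : Type*} (φ : X →* Equiv.Perm Ω) : Prop :=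
  ∃ F : Ω → ZMod 3, ∀ g, (∀ x, F (φ g x) = F x) → φ g = 1

/-- Translates of such a colouring are inequivalent. -/
theorem translate {X : Type*} [Group X] [Finite X] {Ω : Type*} [Nonempty Ω]
    {φ : X →* Equiv.Perm Ω} {F : Ω → ZMod 3} (hF : ∀ g, (∀ x, F (φ g x) = F x) → φ g = 1)
    (h3 : ¬ 3 ∣ Nat.card X) {g : X} {c : ZMod 3} (h : ∀ x, F (φ g x) + c = F x) :
    c = 0 ∧ φ g = 1 := by
  have hg : φ g = 1 := by
    refine eq_one_of_pow_prime φ (by norm_num) h3 ?_
    rw [← map_pow]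
    refine hF _ fun x => ?_
    rw [map_pow]
    show F (φ g (φ g (φ g x))) = F x
    rw [← h x, ← h (φ g x), ← h (φ g (φ g x))]
    have : ∀ a c : ZMod 3, a = a + c + c + c := by decide
    exact this _ _
  refine ⟨?_, hg⟩
  obtain ⟨x⟩ := ‹Nonempty Ω›
  have := h x
  rw [hg, Equiv.Perm.one_apply] at this
  exact left_eq_add.1 this.symm

/-- A binary module: a set with trivial stabilizer in a group of order prime to three. -/
theorem exists_set_two {W : Type*} [AddCommGroup W] [Finite W] (hexp : ∀ w : W, 2 • w = 0)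
    {H : Type*} [Group H] [Finite H] (σ : H →* AddMonoid.End W) (h3 : ¬ 3 ∣ Nat.card H) :
    ∃ S : Set W, (0 : W) ∉ S ∧ ∀ h, (∀ w, σ h w ∈ S ↔ w ∈ S) → σ h = 1 := by
  obtain ⟨e⟩ : Nonempty (Σ d : ℕ, W ≃+ (Fin d → ZMod 2)) := by
    letI : Module (ZMod 2) W := AddCommGroup.zmodModule hexp
    haveI : Module.Finite (ZMod 2) W := Module.Finite.of_finite
    exact ⟨⟨_, (Module.finBasis (ZMod 2) W).equivFun.toAddEquiv⟩⟩
  obtain ⟨d, e⟩ := e
  let P : Set ((Fin d → ZMod 2) →+ (Fin d → ZMod 2)) :=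
    {f | ∃ g : H, ∀ c, f c = e (σ g (e.symm c))}
  have hP : NoThree P := by
    refine ⟨?_, ?_, ?_⟩
    · rintro f ⟨g, hf⟩ a b hab
      rw [hf, hf] at hab
      exact e.symm.injective (CfsgLib.OddBase.apply_injective σ g (e.injective hab))
    · rintro f ⟨g, hf⟩ f' ⟨g', hf'⟩
      refine ⟨g * g', fun c => ?_⟩
      rw [AddMonoidHom.comp_apply, hf, hf', AddEquiv.symm_apply_apply,
        CfsgLib.OddBase.map_mul_apply]
    · rintro f ⟨g, hf⟩ h3c c
      have : σ g = 1 := by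
        refine eq_one_of_pow_prime σ (by norm_num) h3 (ext_end fun w => ?_)
        have := h3c (e w)
        simp only [hf, AddEquiv.symm_apply_apply] at this
        exact e.injective this
      rw [hf, this, one_apply', AddEquiv.apply_symm_apply]
  obtain ⟨Z, h0, hZ⟩ := exists_subset_noThree hP
  refine ⟨{w | e w ∈ Z}, by simpa using h0, fun g hg => ext_end fun w => ?_⟩
  have hgc := hZ ((e.toAddMonoidHom.comp (σ g)).comp e.symm.toAddMonoidHom) ⟨g, fun c => rfl⟩
    (fun c => by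
      show e (σ g (e.symm c)) ∈ Z ↔ c ∈ Z
      simpa using hg (e.symm c)) (e w)
  have hgc' : e (σ g (e.symm (e w))) = e w := hgc
  rw [AddEquiv.symm_apply_apply] at hgc'
  exact e.injective hgc'

section Five

variable {W : Type*} [AddCommGroup W] {r : ℕ}

theorem nsmul_mod (hexp : ∀ w : W, r • w = 0) (n : ℕ) (w : W) : (n % r) • w = n • w := by
  conv_rhs => rw [← Nat.div_add_mod n r, add_smul, mul_smul, hexp, zero_add]

theorem nsmul_inj (hexp : ∀ w : W, r • w = 0) [hr : Fact r.Prime] {b : W} (hb : b ≠ 0) {m n : ℕ}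
    (h : m • b = n • b) : m % r = n % r := by
  have ho : addOrderOf b = r := addOrderOf_eq_prime (hexp b) hb
  have := nsmul_eq_nsmul_iff_modEq.1 h
  rwa [ho] at this

/-- Extending a list of pairwise independent vectors. -/
theorem extend_indep (hexp : ∀ w : W, r • w = 0) [hr : Fact r.Prime] (v : W) {k : ℕ} (b : Fin k → W)
    (h0 : ∀ i, b i ≠ 0) (hne : ∀ i j, i ≠ j → ∀ n : ℕ, n • b i ≠ b j) :
    ∃ k' : ℕ, k' ≤ k + 1 ∧ ∃ b' : Fin k' → W, (∀ i, b' i ≠ 0) ∧
      (∀ i j, i ≠ j → ∀ n : ℕ, n • b' i ≠ b' j) ∧ (∀ i, ∃ j, b' j = b i) ∧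
      (v = 0 ∨ ∃ j, ∃ n : ℕ, v = n • b' j) := by
  by_cases hv : v = 0
  · exact ⟨k, k.le_succ, b, h0, hne, fun i => ⟨i, rfl⟩, Or.inl hv⟩
  by_cases hc : ∃ j, ∃ n : ℕ, v = n • b j
  · exact ⟨k, k.le_succ, b, h0, hne, fun i => ⟨i, rfl⟩, Or.inr hc⟩
  push Not at hc
  have hback : ∀ j, ∀ n : ℕ, n • v ≠ b j := by
    intro j n e
    have hn : ¬ r ∣ n := fun ⟨m, hm⟩ => h0 j (by rw [← e, hm, mul_comm, mul_smul, hexp, smul_zero])
    have hu : (n : ZMod r) ≠ 0 := fun z => hn ((ZMod.natCast_eq_zero_iff _ _).1 z)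
    refine hc j ((n : ZMod r)⁻¹).val ?_
    rw [← e, ← mul_smul, ← nsmul_mod hexp]
    have h1 : ((n : ZMod r)⁻¹).val * n % r = 1 % r := by
      rw [← Nat.ModEq, ← ZMod.natCast_eq_natCast_iff]
      simp [inv_mul_cancel₀ hu]
    rw [h1, nsmul_mod hexp, one_smul]
  refine ⟨k + 1, le_rfl, Fin.snoc b v, fun i => ?_, fun i j hij => ?_,
    fun i => ⟨i.castSucc, Fin.snoc_castSucc _ _ _⟩, Or.inr ⟨Fin.last k, 1, by simp⟩⟩
  · induction i using Fin.lastCases <;> simp [hv, h0]
  · induction i using Fin.lastCases with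
    | last => induction j using Fin.lastCases with
      | last => exact absurd rfl hij
      | cast j => intro n; simpa using hback j n
    | cast i => induction j using Fin.lastCases with
      | last => intro n; simpa using (hc i n).symm
      | cast j => intro n; simpa using hne i j (fun e => hij (congrArg Fin.castSucc e)) n

/-- Asymmetric multiples of three vectors. -/
theorem exists_set_five (hexp : ∀ w : W, r • w = 0) [hr : Fact r.Prime] (h5 : 5 ≤ r) (v w u : W) :
    ∃ S : Set W, (0 : W) ∉ S ∧ ∀ t : AddMonoid.End W, Function.Injective t → (∀ x ∈ S, t x ∈ S) →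
      t v = v ∧ t w = w ∧ t u = u := by
  obtain ⟨k₁, l₁, b₁, a₁, n₁, -, c₁⟩ := extend_indep hexp v (Fin.elim0 : Fin 0 → W)
    (fun i => i.elim0) (fun i => i.elim0)
  obtain ⟨k₂, l₂, b₂, a₂, n₂, s₂, c₂⟩ := extend_indep hexp w b₁ a₁ n₁
  obtain ⟨k, l₃, b, h0, hne, s₃, c₃⟩ := extend_indep hexp u b₂ a₂ n₂
  have hk : k ≤ 3 := by omega
  have huniq : ∀ {i j : Fin k} {m n : ℕ}, ¬ r ∣ m → m • b i = n • b j → i = j := by
    intro i j m n hm e
    by_contra hij
    have hu : (m : ZMod r) ≠ 0 := fun z => hm ((ZMod.natCast_eq_zero_iff _ _).1 z)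
    refine hne j i (Ne.symm hij) (((m : ZMod r)⁻¹).val * n) ?_
    rw [mul_smul, ← e, ← mul_smul, ← nsmul_mod hexp]
    have h1 : ((m : ZMod r)⁻¹).val * m % r = 1 % r := by
      rw [← Nat.ModEq, ← ZMod.natCast_eq_natCast_iff]
      simp [inv_mul_cancel₀ hu]
    rw [h1, nsmul_mod hexp, one_smul]
  refine ⟨{x | ∃ i : Fin k, ∃ m : ℕ, 1 ≤ m ∧ m ≤ (i : ℕ) + 1 ∧ x = m • b i}, ?_, fun t ht hS => ?_⟩
  · rintro ⟨i, m, h1, h2, e⟩
    have := nsmul_inj hexp (h0 i) (m := m) (n := 0) (by rw [zero_smul]; exact e.symm)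
    rw [Nat.zero_mod, Nat.mod_eq_of_lt (by omega)] at this
    omega
  have himg : ∀ i : Fin k, ∃ j : Fin k, ∃ m : ℕ, 1 ≤ m ∧ m ≤ (j : ℕ) + 1 ∧ t (b i) = m • b j :=
    fun i => hS _ ⟨i, 1, le_rfl, by omega, (one_smul ℕ (b i)).symm⟩
  choose π μ hμ1 hμ2 hμ using himg
  have hmul : ∀ (i : Fin k) n, 1 ≤ n → n ≤ (i : ℕ) + 1 →
      1 ≤ n * μ i % r ∧ n * μ i % r ≤ (π i : ℕ) + 1 := by
    intro i n hn hn'
    obtain ⟨j, m, h1, h2, e⟩ := hS _ ⟨i, n, hn, hn', rfl⟩
    rw [map_nsmul, hμ, ← mul_smul] at e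
    have hmr : ¬ r ∣ m := fun h => by have := Nat.le_of_dvd (by omega) h; omega
    obtain rfl := huniq hmr e.symm
    have := nsmul_inj hexp (h0 _) e
    rw [Nat.mod_eq_of_lt (show m < r by omega)] at this
    omega
  have hle : ∀ i : Fin k, (i : ℕ) ≤ π i := by
    intro i
    have hk' := i.2
    have hp := (π i).2
    by_contra hlt
    push Not at hlt
    have n1 := hmul i 1 le_rfl (by omega)
    have n2 := hmul i 2 (by omega) (by omega)
    have hdist : ∀ a b, 1 ≤ a → a < b → b ≤ 3 → a * μ i % r ≠ b * μ i % r := by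
      intro a b ha hab hb3 e
      have h1 : r ∣ b * μ i - a * μ i := (Nat.modEq_iff_dvd' (Nat.mul_le_mul_right _ hab.le)).1 e
      rw [← Nat.sub_mul] at h1
      rcases hr.out.dvd_mul.1 h1 with h | h
      · have := Nat.le_of_dvd (by omega) h; omega
      · have := Nat.le_of_dvd (hμ1 i) h; have := hμ2 i; omega
    have d12 := hdist 1 2 le_rfl one_lt_two (by omega)
    rcases (show (i : ℕ) = 1 ∨ (i : ℕ) = 2 by omega) with hi | hi
    · omega
    · have n3 := hmul i 3 (by omega) (by omega)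
      have := hdist 1 3 le_rfl (by omega) le_rfl
      have := hdist 2 3 (by omega) (by omega) le_rfl
      omega
  have hinj : Function.Injective π := by
    intro i j e
    have hm : ¬ r ∣ μ j := fun h => by
      have := Nat.le_of_dvd (hμ1 j) h; have := hμ2 j; have := (π j).2; omega
    refine huniq (m := μ j) (n := μ i) hm (ht ?_)
    rw [map_nsmul, map_nsmul, hμ, hμ, e, ← mul_smul, ← mul_smul, mul_comm]
  have hπ : ∀ i, π i = i := by
    intro i
    induction h : k - (i : ℕ) using Nat.strong_induction_on generalizing i with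
    | _ n ih =>
    by_contra hne'
    have hlt : (i : ℕ) < π i := lt_of_le_of_ne (hle i) fun e => hne' (Fin.ext e.symm)
    exact hne' (hinj (ih _ (by have := (π i).2; omega) (π i) rfl))
  have hfix : ∀ i, t (b i) = b i := by
    intro i
    rw [hμ, hπ]
    have hk' := i.2
    have a1 := hμ1 i
    have a2 : μ i ≤ (i : ℕ) + 1 := by have := hμ2 i; rwa [hπ] at this
    have key : μ i = 1 := by
      rcases (show μ i = 1 ∨ μ i = 2 ∨ μ i = 3 by omega) with e | e | e
      · exact e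
      · have := (hmul i 2 (by omega) (by omega)).2
        rw [hπ, e] at this
        rw [Nat.mod_eq_of_lt (by omega)] at this
        omega
      · have h2 := (hmul i 2 (by omega) (by omega)).2
        have h3 := (hmul i 3 (by omega) (by omega)).2
        rw [hπ, e] at h2 h3
        rcases (show r = 5 ∨ r = 6 ∨ 7 ≤ r by omega) with rfl | rfl | h7
        · omega
        · exact absurd hr.out (by norm_num)
        · rw [Nat.mod_eq_of_lt (by omega)] at h2
          omega
    rw [key, one_smul]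
  have hcov : ∀ x : W, (x = 0 ∨ ∃ j, ∃ n : ℕ, x = n • b j) → t x = x := by
    rintro x (rfl | ⟨j, n, rfl⟩)
    · exact map_zero t
    · rw [map_nsmul, hfix]
  refine ⟨hcov v ?_, hcov w ?_, hcov u c₃⟩
  · rcases c₁ with e | ⟨j, n, e⟩
    · exact Or.inl e
    · obtain ⟨j', e'⟩ := s₂ j
      obtain ⟨j'', e''⟩ := s₃ j'
      exact Or.inr ⟨j'', n, by rw [e'', e']; exact e⟩
  · rcases c₂ with e | ⟨j, n, e⟩
    · exact Or.inl e
    · obtain ⟨j', e'⟩ := s₃ j
      exact Or.inr ⟨j', n, by rw [e']; exact e⟩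

end Five

/-- The regular case. -/
theorem exists_three_regular {Ω : Type u} [Finite Ω] (G : Subgroup (Equiv.Perm Ω))
    (hsolv : Group.IsSolvable G) (N : Subgroup G) [N.Normal]
    (hab : ∀ a ∈ N, ∀ b ∈ N, a * b = b * a)
    (hmin : ∀ M : Subgroup G, M.Normal → M ≤ N → M = ⊥ ∨ M = N) (a₀ : Ω)
    (htr : ∀ b, ∃ n ∈ N, (n : G).1 a₀ = b) (hne : N ≠ ⊥) (h3 : ¬ 3 ∣ Nat.card G) :
    Three G.subtype := by
  classical
  have hfree : ∀ n m : N, (n : G).1 a₀ = (m : G).1 a₀ → n = m := by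
    intro n m h
    apply Subtype.ext; apply Subtype.ext
    ext b
    obtain ⟨k, hk, rfl⟩ := htr b
    have e1 := hab n n.2 k hk
    have e2 := hab m m.2 k hk
    show ((n : G) * k : G).1 a₀ = ((m : G) * k : G).1 a₀
    rw [e1, e2]
    show k.1 ((n : G).1 a₀) = k.1 ((m : G).1 a₀)
    rw [h]
  have hcard : Nat.card N = Nat.card Ω := by
    refine Nat.card_congr (Equiv.ofBijective (fun n : N => (n : G).1 a₀) ⟨fun n m h => hfree n m h,
      fun b => ?_⟩)
    obtain ⟨n, hn, e⟩ := htr b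
    exact ⟨⟨n, hn⟩, e⟩
  letI : CommGroup N :=
    { (inferInstance : Group N) with mul_comm := fun a b => Subtype.ext (hab a a.2 b b.2) }
  let H : Subgroup G :=
    { carrier := {g | g.1 a₀ = a₀}
      one_mem' := rfl
      mul_mem' := fun {g h} hg hh => by
        show g.1 (h.1 a₀) = a₀
        rw [show h.1 a₀ = a₀ from hh]; exact hg
      inv_mem' := fun {g} hg => by
        show g.1⁻¹ a₀ = a₀
        rw [Equiv.Perm.inv_eq_iff_eq]
        exact (show g.1 a₀ = a₀ from hg).symm }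
  let σ : H →* AddMonoid.End (Additive N) :=
    { toFun := fun h => MonoidHom.toAdditive ((MulAut.conjNormal (h : G) : MulAut N).toMonoidHom)
      map_one' := ext_end fun w => by simp [one_apply']; rfl
      map_mul' := fun g h => ext_end fun w => by simp [mul_apply']; rfl }
  have hσ : ∀ (h : H) (n : N), ((Additive.toMul (σ h (Additive.ofMul n)) : N) : G) =
      (h : G) * n * (h : G)⁻¹ := fun h n => MulAut.conjNormal_apply _ _
  have hirr : ∀ U, Inv σ U → U = ⊥ ∨ U = ⊤ := by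
    intro U hU
    let M : Subgroup G :=
      { carrier := {g | ∃ hg : g ∈ N, Additive.ofMul (⟨g, hg⟩ : N) ∈ U}
        one_mem' := ⟨N.one_mem, U.zero_mem⟩
        mul_mem' := by
          rintro a b ⟨ha, ha'⟩ ⟨hb, hb'⟩
          exact ⟨N.mul_mem ha hb, U.add_mem ha' hb'⟩
        inv_mem' := by
          rintro a ⟨ha, ha'⟩
          exact ⟨N.inv_mem ha, U.neg_mem ha'⟩ }
    have hMn : M.Normal := ⟨fun m hm g => by
      obtain ⟨hm, hm'⟩ := hm
      obtain ⟨k, hk, hka⟩ := htr (g.1 a₀)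
      have hh : k⁻¹ * g ∈ H := by
        show k.1⁻¹ (g.1 a₀) = a₀
        rw [← hka]; simp
      set h : H := ⟨k⁻¹ * g, hh⟩ with hhdef
      have hg : g * m * g⁻¹ = (h : G) * m * (h : G)⁻¹ := by
        have hin := ‹N.Normal›.conj_mem m hm (k⁻¹ * g)
        show g * m * g⁻¹ = k⁻¹ * g * m * (k⁻¹ * g)⁻¹
        calc g * m * g⁻¹ = k * (k⁻¹ * g * m * (k⁻¹ * g)⁻¹) * k⁻¹ := by group
          _ = _ := by rw [hab k hk _ hin, mul_inv_cancel_right]
      refine ⟨‹N.Normal›.conj_mem m hm g, ?_⟩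
      have := hU h _ hm'
      convert this using 1
      exact congrArg Additive.ofMul (Subtype.ext (hg.trans (hσ h ⟨m, hm⟩).symm))⟩
    rcases hmin M hMn (fun g hg => hg.1) with e | e
    · left
      refine (AddSubgroup.eq_bot_iff_forall _).2 fun w hw => ?_
      have : ((Additive.toMul w : N) : G) ∈ M := ⟨(Additive.toMul w).2, hw⟩
      rw [e, Subgroup.mem_bot, OneMemClass.coe_eq_one] at this
      exact congrArg Additive.ofMul this
    · right
      refine eq_top_iff.2 fun w _ => ?_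
      have : ((Additive.toMul w : N) : G) ∈ M := by rw [e]; exact (Additive.toMul w).2
      exact this.2
  haveI : Nontrivial N := (Subgroup.nontrivial_iff_ne_bot N).2 hne
  haveI : Nontrivial (Additive N) := inferInstanceAs (Nontrivial N)
  obtain ⟨r, hr, hexp⟩ := CfsgLib.SolBase.exists_prime_exponent σ hirr
  haveI := Fact.mk hr
  have hr3 : r ≠ 3 := by
    rintro rfl
    obtain ⟨x, hx⟩ := exists_ne (0 : Additive N)
    refine h3 (dvd_trans ?_ (Subgroup.card_subgroup_dvd_card N))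
    have hd : addOrderOf x = 3 := addOrderOf_eq_prime (hexp x) hx
    exact hd ▸ addOrderOf_dvd_natCard x
  have h3H : ¬ 3 ∣ Nat.card H := fun h => h3 (h.trans (Subgroup.card_subgroup_dvd_card H))
  have hsinj : ∀ h, Function.Injective (σ h) := CfsgLib.OddBase.apply_injective σ
  obtain ⟨S, hS0, hS⟩ : ∃ S : Set (Additive N), (0 : Additive N) ∉ S ∧
      ∀ h, (∀ w, σ h w ∈ S ↔ w ∈ S) → σ h = 1 := by
    by_cases hr2 : r = 2
    · subst hr2
      exact exists_set_two hexp σ h3H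
    · have h5 : 5 ≤ r := by
        have := hr.two_le
        have : r ≠ 4 := fun e => by rw [e] at hr; norm_num at hr
        omega
      obtain ⟨v, w, u, hvw⟩ := CfsgLib.SolBase.smallBase3 (Nat.card (Additive N) + 1) H inferInstance
        (Additive N) (Nat.lt_succ_self _) σ (CfsgLib.SolBase.cr_of_irreducible σ hirr)
      obtain ⟨S, h0, hS⟩ := exists_set_five hexp h5 v w u
      refine ⟨S, h0, fun h hh => ?_⟩
      obtain ⟨e1, e2, e3⟩ := hS (σ h) (hsinj h) fun x hx => (hh x).2 hx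
      exact hvw h e1 e2 e3
  let P : N → Ω := fun n => (n : G).1 a₀
  have hPs : ∀ x, ∃ n : N, P n = x := fun x => by
    obtain ⟨n, hn, e⟩ := htr x
    exact ⟨⟨n, hn⟩, e⟩
  choose Q hQ using hPs
  have hQP : ∀ n, Q (P n) = n := fun n => hfree _ _ (hQ _)
  let F : Ω → ZMod 3 := fun x =>
    if x = a₀ then 0 else if Additive.ofMul (Q x) ∈ S then 1 else 2
  have hd01 : (0 : ZMod 3) ≠ 1 := by decide
  have hd02 : (0 : ZMod 3) ≠ 2 := by decide
  have hd12 : (1 : ZMod 3) ≠ 2 := by decide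
  refine ⟨F, fun g hg => ?_⟩
  have hga : g.1 a₀ = a₀ := by
    by_contra hne'
    have := hg a₀
    simp only [Subgroup.coe_subtype, F, if_neg hne', if_pos rfl] at this
    split_ifs at this
    exacts [hd01 this.symm, hd02 this.symm]
  have hone := hS ⟨g, hga⟩ fun w => by
    have hP : g.1 (P (Additive.toMul w)) = P (Additive.toMul (σ ⟨g, hga⟩ w)) := by
      show g.1 (P (Additive.toMul w)) = ((Additive.toMul (σ ⟨g, hga⟩ w) : N) : G).1 a₀
      rw [show w = Additive.ofMul (Additive.toMul w) from rfl, hσ]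
      show _ = g.1 ((Additive.toMul w : N).1.1 (g.1⁻¹ a₀))
      rw [Equiv.Perm.inv_eq_iff_eq.2 hga.symm]
      rfl
    have hF : ∀ w, (w ∈ S ↔ F (P (Additive.toMul w)) = 1) := fun w => by
      by_cases h0 : P (Additive.toMul w) = a₀
      · have : w = 0 := congrArg Additive.ofMul
          (hfree (Additive.toMul w) 1 h0 : Additive.toMul w = 1)
        simp only [F, if_pos h0, iff_false, hd01]
        rw [this]; exact hS0
      · simp only [F, if_neg h0, hQP, ofMul_toMul]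
        by_cases hw : w ∈ S <;> simp [hw, Ne.symm hd12]
    rw [hF, hF, ← hP]
    exact (hg (P (Additive.toMul w))) ▸ Iff.rfl
  ext b
  obtain ⟨n, hn, rfl⟩ := htr b
  have e' := congrArg (fun f : AddMonoid.End (Additive N) =>
    ((Additive.toMul (f (Additive.ofMul ⟨n, hn⟩)) : N) : G)) hone
  simp only [hσ, one_apply', toMul_ofMul] at e'
  show g.1 (n.1 a₀) = n.1 a₀
  conv_rhs => rw [← e']
  show _ = g.1 (n.1 (g.1⁻¹ a₀))
  rw [Equiv.Perm.inv_eq_iff_eq.2 hga.symm]

/-- A solvable permutation group of order prime to three has a colouring in three colours with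
trivial stabilizer. -/
theorem exists_three : ∀ (n : ℕ) (X : Type u) [Group X] [Finite X], Group.IsSolvable X →
    ¬ 3 ∣ Nat.card X →
    ∀ (Ω : Type u) [Finite Ω] [Nonempty Ω], Nat.card Ω ≤ n → ∀ φ : X →* Equiv.Perm Ω, Three φ := by
  intro n
  induction n using Nat.strong_induction_on with
  | _ n ih =>
  intro X _ _ hX h3 Ω _ _ hΩ φ
  classical
  set G : Subgroup (Equiv.Perm Ω) := φ.range with hG
  haveI hGs : Group.IsSolvable G := Group.isSolvable_of_surjective φ.rangeRestrict_surjective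
  suffices h : Three G.subtype by
    obtain ⟨F, hF⟩ := h
    exact ⟨F, fun g hg => hF ⟨φ g, g, rfl⟩ hg⟩
  have h3G : ¬ 3 ∣ Nat.card G := fun h =>
    h3 (h.trans (Subgroup.card_dvd_of_surjective φ.rangeRestrict φ.rangeRestrict_surjective))
  by_cases hbot : ∀ g : G, g = 1
  · exact ⟨fun _ => 0, fun g _ => by rw [hbot g, map_one]⟩
  by_cases hint : ∃ D : Set Ω, D.Nonempty ∧ D ≠ Set.univ ∧ ∀ (g : G) x, g.1 x ∈ D ↔ x ∈ D
  · obtain ⟨D, hDne, hDu, hD⟩ := hint
    have hsum : Nat.card D + Nat.card (Dᶜ : Set Ω) = Nat.card Ω := by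
      rw [Nat.card_coe_set_eq, Nat.card_coe_set_eq, Set.ncard_add_ncard_compl]
    haveI := hDne.to_subtype
    haveI := (Set.nonempty_compl.2 hDu).to_subtype
    have h1 : 0 < Nat.card D := Nat.card_pos
    have h2 : 0 < Nat.card (Dᶜ : Set Ω) := Nat.card_pos
    have hDc : ∀ (g : G) x, G.subtype g x ∈ Dᶜ ↔ x ∈ Dᶜ := fun g x => not_congr (hD g x)
    obtain ⟨FD, hFD⟩ := ih (Nat.card D) (by omega) G hGs h3G D le_rfl
      (resPerm G.subtype D hD)
    obtain ⟨FE, hFE⟩ := ih (Nat.card (Dᶜ : Set Ω)) (by omega) G hGs h3G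
      (Dᶜ : Set Ω) le_rfl (resPerm G.subtype Dᶜ hDc)
    refine ⟨fun x => if h : x ∈ D then FD ⟨x, h⟩ else FE ⟨x, h⟩, fun g hg => ?_⟩
    have e1 := hFD g fun x => by
      have hgx : g.1 x.1 ∈ D := (hD g x.1).2 x.2
      exact (dif_pos hgx).symm.trans ((hg x.1).trans (dif_pos x.2))
    have e2 := hFE g fun x => by
      have hgx : g.1 x.1 ∉ D := fun h => x.2 ((hD g x.1).1 h)
      exact (dif_neg hgx).symm.trans ((hg x.1).trans (dif_neg x.2))
    refine Equiv.ext fun x => ?_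
    by_cases hx : x ∈ D
    · exact congrArg (fun f : Equiv.Perm D => ((f ⟨x, hx⟩ : D) : Ω)) e1
    · exact congrArg (fun f : Equiv.Perm (Dᶜ : Set Ω) => ((f ⟨x, hx⟩ : (Dᶜ : Set Ω)) : Ω)) e2
  push Not at hint
  push Not at hbot
  obtain ⟨g₁, hg₁⟩ := hbot
  haveI : Nontrivial G := ⟨⟨g₁, 1, hg₁⟩⟩
  obtain ⟨N, ⟨hN, hNne⟩, hmin⟩ := (Set.toFinite {N : Subgroup G | N.Normal ∧ N ≠ ⊥}).exists_minimal
    ⟨⊤, inferInstance, top_ne_bot⟩
  haveI := hN
  have hmin' : ∀ M : Subgroup G, M.Normal → M ≤ N → M = ⊥ ∨ M = N := fun M hM hle =>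
    or_iff_not_imp_left.2 fun hMne => le_antisymm hle (hmin ⟨hM, hMne⟩ hle)
  have hab : ∀ a ∈ N, ∀ b ∈ N, a * b = b * a := by
    have h : ⁅N, N⁆ = ⊥ := by
      refine (hmin' _ (Subgroup.commutator_normal N N) (Subgroup.commutator_le_left N N)).resolve_right
        (Group.IsSolvable.commutator_lt_of_ne_bot hNne).ne
    intro a ha b hb
    have := Subgroup.commutator_mem_commutator ha hb
    rw [h, Subgroup.mem_bot] at this
    exact commutatorElement_eq_one_iff_mul_comm.1 this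
  haveI : Nontrivial N := (Subgroup.nontrivial_iff_ne_bot N).2 hNne
  obtain ⟨⟨n₁, hn₁⟩, hn₁1⟩ := exists_ne (1 : N)
  have hn₁' : n₁ ≠ 1 := fun h => hn₁1 (Subtype.ext h)
  obtain ⟨a₀, ha₀⟩ : ∃ a, n₁.1 a ≠ a := by
    by_contra h
    push Not at h
    exact hn₁' (Subtype.ext (Equiv.ext h))
  have htr : ∀ b, ∃ g : G, g.1 a₀ = b := fun b => by
    have := hint {x | ∃ g : G, g.1 a₀ = x} ⟨a₀, 1, rfl⟩
    by_contra hb
    obtain ⟨g, x, hgx⟩ := this fun e => hb (e ▸ Set.mem_univ b : b ∈ {x | ∃ g : G, g.1 a₀ = x})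
    apply hgx.elim
    · rintro ⟨⟨k, hk⟩, hno⟩
      exact hno ⟨g⁻¹ * k, by show g.1⁻¹ (k.1 a₀) = x; rw [hk]; simp⟩
    · rintro ⟨hno, k, hk⟩
      exact hno ⟨g * k, by show g.1 (k.1 a₀) = _; rw [hk]⟩
  let r : Setoid Ω :=
    { r := fun a b => ∃ m ∈ N, m.1 a = b
      iseqv := ⟨fun a => ⟨1, N.one_mem, rfl⟩, fun {a b} ⟨m, hm, e⟩ => ⟨m⁻¹, N.inv_mem hm, by
        show m.1⁻¹ b = a
        rw [← e]; simp⟩, fun {a b c} ⟨m, hm, e⟩ ⟨m', hm', e'⟩ => ⟨m' * m, N.mul_mem hm' hm, by
        show m'.1 (m.1 a) = c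
        rw [e, e']⟩⟩ }
  by_cases hreg : ∀ b, ∃ m ∈ N, m.1 a₀ = b
  · exact exists_three_regular G hGs N hab hmin' a₀ hreg hNne h3G
  push Not at hreg
  obtain ⟨b₀, hb₀⟩ := hreg
  let Q := Quotient r
  let π : Ω → Q := Quotient.mk r
  have hπ : ∀ a b, π a = π b ↔ ∃ m ∈ N, m.1 a = b := fun a b => Quotient.eq
  let ψf : G → Q → Q := fun g => Quotient.map g.1 fun a b => by
    rintro ⟨m, hm, e⟩
    exact ⟨g * m * g⁻¹, hN.conj_mem m hm g, by
      show g.1 (m.1 (g.1⁻¹ (g.1 a))) = g.1 b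
      simp [e]⟩
  have hψf : ∀ g a, ψf g (π a) = π (g.1 a) := fun g a => rfl
  let ψ : G →* Equiv.Perm Q :=
    { toFun := fun g =>
        { toFun := ψf g
          invFun := ψf g⁻¹
          left_inv := fun c => by
            induction c using Quotient.inductionOn with
            | h a => show π ((g⁻¹).1 (g.1 a)) = π a; simp
          right_inv := fun c => by
            induction c using Quotient.inductionOn with
            | h a => show π (g.1 ((g⁻¹).1 a)) = π a; simp }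
      map_one' := Equiv.ext fun c => by
        induction c using Quotient.inductionOn with
        | h a => rfl
      map_mul' := fun g h => Equiv.ext fun c => by
        induction c using Quotient.inductionOn with
        | h a => rfl }
  have hψ : ∀ g a, ψ g (π a) = π (g.1 a) := fun g a => rfl
  haveI : Fintype Ω := Fintype.ofFinite Ω
  have hQlt : Nat.card Q < Nat.card Ω := by
    haveI : Fintype Q := Fintype.ofFinite Q
    rw [Nat.card_eq_fintype_card, Nat.card_eq_fintype_card]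
    exact Fintype.card_lt_of_surjective_not_injective π Quotient.exists_rep fun hinj =>
      ha₀ (hinj ((hπ _ _).2 ⟨n₁, hn₁, rfl⟩)).symm
  haveI : Nonempty Q := ⟨π a₀⟩
  obtain ⟨FQ, hFQ⟩ := ih (Nat.card Q) (by omega) G hGs h3G Q le_rfl ψ
  let D : Set Ω := {x | π x = π a₀}
  have hDlt : Nat.card D < Nat.card Ω := by
    rw [Nat.card_coe_set_eq, ← Set.ncard_univ]
    refine Set.ncard_lt_ncard ⟨Set.subset_univ _, fun h => ?_⟩
    obtain ⟨m, hm, e⟩ := (hπ _ _).1 (h (Set.mem_univ b₀)).symm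
    exact hb₀ m hm e
  let H : Subgroup G :=
    { carrier := {g | ψ g (π a₀) = π a₀}
      one_mem' := by simp
      mul_mem' := fun {g h} hg hh => by
        show ψ (g * h) _ = _
        rw [map_mul, Equiv.Perm.mul_apply, show ψ h _ = _ from hh]; exact hg
      inv_mem' := fun {g} hg => by
        show ψ g⁻¹ _ = _
        rw [map_inv, Equiv.Perm.inv_eq_iff_eq]
        exact (show ψ g _ = _ from hg).symm }
  have hHD : ∀ (h : H) x, (G.subtype.comp H.subtype) h x ∈ D ↔ x ∈ D := fun h x => by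
    show π ((h : G).1 x) = π a₀ ↔ π x = π a₀
    rw [← hψ]
    exact ⟨fun e => (ψ (h : G)).injective (e.trans (show ψ (h : G) _ = _ from h.2).symm),
      fun e => e.symm ▸ h.2⟩
  haveI : Nonempty D := ⟨⟨a₀, rfl⟩⟩
  obtain ⟨FD, hFD⟩ := ih (Nat.card D) (by omega) H inferInstance
    (fun h => h3G (h.trans (Subgroup.card_subgroup_dvd_card H))) D le_rfl
    (resPerm (G.subtype.comp H.subtype) D hHD)
  have hlift : ∀ c : Q, ∃ t : G, π (t.1 a₀) = c := fun c => by
    induction c using Quotient.inductionOn with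
    | h a => obtain ⟨t, ht⟩ := htr a; exact ⟨t, congrArg π ht⟩
  choose t ht using hlift
  have hback : ∀ x, (t (π x)).1⁻¹ x ∈ D := fun x => by
    show π _ = π a₀
    apply (ψ (t (π x))).injective
    rw [hψ, hψ, ht]; simp
  refine ⟨fun x => FD ⟨_, hback x⟩ + FQ (π x), fun g hg => ?_⟩
  have key : ∀ c : Q, ∃ hh : (t (ψ g c))⁻¹ * g * t c ∈ H, FQ c = FQ (ψ g c) ∧
      resPerm (G.subtype.comp H.subtype) D hHD ⟨_, hh⟩ = 1 := by
    intro c
    have hh : (t (ψ g c))⁻¹ * g * t c ∈ H := by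
      show ψ _ (π a₀) = π a₀
      rw [map_mul, map_mul, map_inv, Equiv.Perm.mul_apply, Equiv.Perm.mul_apply, hψ (t c), ht,
        Equiv.Perm.inv_eq_iff_eq, hψ (t (ψ g c)), ht]
    suffices hs : ∀ x, FD (resPerm (G.subtype.comp H.subtype) D hHD ⟨_, hh⟩ x) +
        (FQ (ψ g c) - FQ c) = FD x by
      obtain ⟨hc, h1⟩ := translate hFD (fun h => h3G (h.trans (Subgroup.card_subgroup_dvd_card H))) hs
      exact ⟨hh, (sub_eq_zero.1 hc).symm, h1⟩
    intro x
    have hπx : π ((t c).1 x.1) = c := by rw [← hψ, show π x.1 = π a₀ from x.2, hψ, ht]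
    have hπg : π (g.1 ((t c).1 x.1)) = ψ g c := by rw [← hψ, hπx]
    have h1 := hg ((t c).1 x.1)
    simp only [Subgroup.coe_subtype] at h1
    have ex : (⟨_, hback ((t c).1 x.1)⟩ : D) = x := Subtype.ext (by
      show (t (π _)).1⁻¹ _ = _
      rw [hπx]; simp)
    have eg : (⟨_, hback (g.1 ((t c).1 x.1))⟩ : D) =
        resPerm (G.subtype.comp H.subtype) D hHD ⟨_, hh⟩ x := Subtype.ext (by
      show (t (π _)).1⁻¹ _ = ((t (ψ g c))⁻¹ * g * t c : G).1 x.1
      rw [hπg]; rfl)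
    rw [ex, eg, hπx, hπg] at h1
    rw [← add_sub_assoc, h1, add_sub_cancel_right]
  have hψg := hFQ g fun c => (key c).choose_spec.1.symm
  refine Equiv.ext fun x => ?_
  obtain ⟨hh, -, hid⟩ := key (π x)
  have := congrArg (fun f : Equiv.Perm D => ((f ⟨_, hback x⟩ : D) : Ω)) hid
  simp only [Equiv.Perm.one_apply] at this
  change (t (ψ g (π x))).1⁻¹ (g.1 ((t (π x)).1 ((t (π x)).1⁻¹ x))) = (t (π x)).1⁻¹ x at this
  rw [hψg, Equiv.Perm.one_apply] at this
  simpa using this

end CfsgLib.CoprimeBase
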