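import Cfsg.Agent.Lib.CoprimeBase.Mono
import Cfsg.Agent.Lib.CoprimeBase.Basic

/-!
# Values in the slots that the normalisers cannot confuse
-/

set_option autoImplicit false

universe u

namespace CfsgLib.CoprimeBase

open CfsgLib.OddBase (Heis)
open CfsgLib.OddBase.Heis (comm_apply)
open CfsgLib.SolBase (EMon)

variable {F : Type u} [Field F] {V : Type u} [AddCommGroup V] {q s : ℕ} [hq : Fact q.Prime]
  {D : Heis F V q s} {E : Submonoid (AddMonoid.End V)}

/-- Distinguishable colours `1, …, n`. -/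
def Colours (D : Heis F V q s) (E : Submonoid (AddMonoid.End V)) (a : V) (n : ℕ) : Prop :=
  ∃ val : ℕ → (Fin s → ZMod q) → V, (∀ j c, val j c ∈ D.U ∧ val j c ≠ 0) ∧
    ∀ (G : AddMonoid.End V) (h : (Fin s → ZMod q) →+ (Fin s → ZMod q))
      (R : (Fin s → ZMod q) → AddMonoid.End V), Function.Injective G → Shift D E G h R →
      (∀ u ∈ D.U, G u = u) → ∀ c j k, 0 < j → j ≤ n → 0 < k → k ≤ n →
        R c (val j c) = val k (h c) → j = k ∧ (h c = c → R c a = a)

theorem Colours.mono {a : V} {n m : ℕ} (h : Colours D E a n) (hm : m ≤ n) : Colours D E a m := by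
  obtain ⟨val, h1, h2⟩ := h
  exact ⟨val, h1, fun G g R hG hS hU c j k a1 a2 a3 a4 e =>
    h2 G g R hG hS hU c j k a1 (a2.trans hm) a3 (a4.trans hm) e⟩

/-- One colour is always available. -/
theorem colours_one {a : V} (ha : a ∈ D.U) (ha0 : a ≠ 0) : Colours D E a 1 :=
  ⟨fun _ _ => a, fun _ _ => ⟨ha, ha0⟩, fun G h R _ _ _ c j k h1 h2 h3 h4 e =>
    ⟨by omega, fun _ => e⟩⟩

/-- Vectors in distinct orbits of the extra operators, each without eigen extras. -/
theorem colours_of_orbits {a : V} {n : ℕ} (v : Fin n → V) (hn : 0 < n) (hvU : ∀ j, v j ∈ D.U)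
    (hv0 : ∀ j, v j ≠ 0) (hvE : ∀ j, Eig D E (v j))
    (hsep : ∀ j k, ∀ e ∈ E, e (v j) = v k → j = k) : Colours D E a n := by
  refine ⟨fun j _ => v ⟨min (j - 1) (n - 1), by omega⟩, fun j c => ⟨hvU _, hv0 _⟩,
    fun G h R _ hS _ c j k h1 h2 h3 h4 e => ?_⟩
  have hjk := congrArg Fin.val (hsep _ _ _ (hS.mem c) e)
  simp only at hjk
  obtain rfl : j = k := by omega
  refine ⟨rfl, fun _ => ?_⟩
  have h1 : R c = D.sc 1 := hvE _ _ (hS.mem c) 1 (by rw [D.sc_one_apply]; exact e)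
  rw [h1, D.sc_one_apply]

/-- Scalar multiples of the vector with separated power classes. -/
theorem colours_of_powers [Finite F] (hE : Ops D E) {a : V} (ha : a ∈ D.U) (ha0 : a ≠ 0)
    (hA : Eig D E a) {t n : ℕ} (ht : q ∣ t * (q + 1).choose 2)
    (hn : n * Nat.gcd (q * t) (Nat.card F - 1) ≤ Nat.card F - 1) : Colours D E a n := by
  classical
  haveI : Fintype F := Fintype.ofFinite F
  obtain ⟨γ, hγ⟩ := IsCyclic.exists_generator (α := Fˣ)
  set H : Subgroup Fˣ := (powMonoidHom (q * t) : Fˣ →* Fˣ).range with hH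
  let rep : Fˣ → Fˣ := fun x => (QuotientGroup.mk x : Fˣ ⧸ H).out
  have hrep : ∀ x y : Fˣ, x⁻¹ * y ∈ H → rep x = rep y := fun x y h => by
    simp only [rep, show (QuotientGroup.mk x : Fˣ ⧸ H) = QuotientGroup.mk y from QuotientGroup.eq.2 h]
  have hlam : ∀ x : Fˣ, ∀ j : ℕ, ∃ μ : Fˣ, μ ^ (q * t) * x = rep x * (γ ^ (q * t)) ^ j := by
    intro x j
    have hmem : rep x * (γ ^ (q * t)) ^ j * x⁻¹ ∈ H := by
      have h1 : (rep x)⁻¹ * x ∈ H := QuotientGroup.eq.1 (QuotientGroup.out_eq' _)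
      have h2 : (γ ^ (q * t)) ^ j ∈ H := H.pow_mem ⟨γ, rfl⟩ j
      have := H.mul_mem (H.inv_mem h1) h2
      convert this using 1
      rw [mul_inv_rev, inv_inv]
      ac_rfl
    obtain ⟨μ, hμ⟩ := hmem
    exact ⟨μ, by rw [show μ ^ (q * t) = _ from hμ, inv_mul_cancel_right]⟩
  choose lam hlam using hlam
  let dl : (Fin s → ZMod q) → Fˣ := fun c =>
    Units.mk0 (Delta D c ^ t) (pow_ne_zero _ (Delta_ne_zero D c))
  have hne : ∀ (μ : F), μ ≠ 0 → D.sc μ a ≠ 0 := fun μ hμ e => hμ (D.sc_eq_zero e ha0)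
  refine ⟨fun j c => D.sc (lam (dl c) j : F) a,
    fun j c => ⟨D.sc_mem ha _, hne _ (Units.ne_zero _)⟩, fun G h R hG hS hU c j k h1 h2 h3 h4 e => ?_⟩
  set μ₀ : Fˣ := (lam (dl c) j)⁻¹ * lam (dl (h c)) k with hμ₀
  have hRa : R c a = D.sc (μ₀ : F) a := by
    have h5 := congrArg (D.sc ((lam (dl c) j)⁻¹ : Fˣ).val) e
    simp only at h5
    rw [← comm_apply (hE.comm_sc _ (hS.mem c) _),
      ← D.sc_apply_mul, ← D.sc_apply_mul, ← Units.val_mul, inv_mul_cancel, Units.val_one,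
      D.sc_one_apply] at h5
    rw [h5, hμ₀, Units.val_mul]
  have hpow := scalar_pow hE ha ha0 hA hS hU hG ht hRa
  have hU' : μ₀ ^ (q * t) * dl (h c) = dl c := Units.ext (by simpa [dl] using hpow)
  have hcls : rep (dl (h c)) = rep (dl c) := hrep _ _ ⟨μ₀, by
    rw [← hU']
    show μ₀ ^ (q * t) = _
    rw [mul_comm (μ₀ ^ (q * t)), inv_mul_cancel_left]⟩
  have hjk : (γ ^ (q * t)) ^ k = (γ ^ (q * t)) ^ j := by
    have e1 := hlam (dl (h c)) k
    have e2 := hlam (dl c) j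
    rw [hcls] at e1
    have e3 : lam (dl (h c)) k = lam (dl c) j * μ₀ := by rw [hμ₀, mul_inv_cancel_left]
    rw [e3, mul_pow, mul_assoc, hU', e2] at e1
    exact mul_left_cancel e1.symm
  have ho : n ≤ orderOf (γ ^ (q * t)) := by
    rw [orderOf_pow, orderOf_eq_card_of_forall_mem_zpowers hγ, Nat.card_units, Nat.gcd_comm]
    exact (Nat.le_div_iff_mul_le (Nat.gcd_pos_of_pos_right _ (by
      have := Finite.one_lt_card (α := F); omega))).2 hn
  obtain rfl : j = k := by
    have := pow_eq_pow_iff_modEq.1 hjk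
    have hjm : (k : ℤ) - j = 0 := by
      have hd : (orderOf (γ ^ (q * t)) : ℤ) ∣ (j : ℤ) - k := by
        have := (Nat.modEq_iff_dvd).1 this
        simpa using this
      rcases eq_or_ne ((j : ℤ) - k) 0 with h0 | h0
      · omega
      · exfalso
        have := Int.natAbs_le_of_dvd_ne_zero hd h0
        omega
    omega
  refine ⟨rfl, fun hc => ?_⟩
  rw [hRa, hμ₀, hc, inv_mul_cancel, Units.val_one, D.sc_one_apply]

/-- The vector built from a colouring. -/
theorem exists_vector [Finite V] (hE : Ops D E) {a : V} (ha : a ∈ D.U) (ha0 : a ≠ 0)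
    (hA : Eig D E a) {n : ℕ} (hC : Colours D E a n) (κ : (Fin s → ZMod q) → ℕ) (hκ : ∀ c, κ c ≤ n)
    (hpins : Pins {c : Fin s → ZMod q | c ≠ 0 ∧ κ c = 0}) {b : V} (hb : b ∈ D.U) :
    ∃ w : V, ∀ (G : AddMonoid.End V) (α : F → F), Function.Injective G →
      (∀ r, G * D.sc r = D.sc (α r) * G) → (∀ i, ∃ f L, EMon D E f L ∧ G * D.x i = f * G) →
      (∀ i, ∃ f L, EMon D E f L ∧ G * D.z i = f * G) → G a = a → G w = w →
      (∀ u ∈ D.U, G u ∈ D.U) ∧ G b = b ∧ ((∀ u ∈ D.U, G u = u) → ∃ h R, Shift D E G h R ∧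
        (∀ c, c ≠ 0 → κ (h c) = κ c) ∧ ((∀ c, h c = c) → G = 1)) := by
  classical
  obtain ⟨val, hval, hsep⟩ := hC
  let f : (Fin s → ZMod q) → V := fun c => if c = 0 then b else if κ c = 0 then 0 else val (κ c) c
  have hfU : ∀ c, f c ∈ D.U := fun c => by
    simp only [f]; split_ifs
    exacts [hb, D.U.zero_mem, (hval _ c).1]
  refine ⟨∑ c, D.slot c (f c), fun G α hG hGsc hGx hGz hGa hGw => ?_⟩
  have hK := diag hE ha ha0 hA hGx hGa
  obtain ⟨hUmap, -⟩ := U_map hG hK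
  obtain ⟨h, R, hS⟩ := exists_shift hE ha ha0 hG hK hGz hGa
  have hcomp := components hE hS hUmap hfU hGw
  have hGb : G b = b := by
    have e1 := hcomp 0
    simp only [f, map_zero, if_pos] at e1
    have e3 := hS.slot 0 b hb
    rw [map_zero, D.slot_zero, e1] at e3
    simpa [CfsgLib.OddBase.one_apply'] using e3
  refine ⟨hUmap, hGb, fun hU => ⟨h, R, hS, ?_, ?_⟩⟩
  · intro c hc
    have hhc : h c ≠ 0 := fun e => hc (hS.inj (e.trans (map_zero h).symm))
    have e := hcomp c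
    simp only [f, if_neg hc, if_neg hhc] at e
    by_cases h0 : κ c = 0
    · by_contra hne
      rw [if_pos h0, map_zero, map_zero, if_neg (fun e' => hne (e'.trans h0.symm))] at e
      exact (hval _ _).2 e.symm
    · rw [if_neg h0, hU _ (hval _ c).1] at e
      by_cases h1 : κ (h c) = 0
      · exfalso
        rw [if_pos h1] at e
        refine (hval (κ c) c).2 (D.slot_injective c (hG ?_))
        rw [hS.slot c _ (hval _ c).1, hU _ (hval _ c).1, e, map_zero, map_zero]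
      · rw [if_neg h1] at e
        exact ((hsep G h R hG hS hU c _ _ (Nat.pos_of_ne_zero h0) (hκ c) (Nat.pos_of_ne_zero h1)
          (hκ _) e).1).symm
  · intro hid
    refine eq_one_of_pins hE ha ha0 hA hGsc hS hU hid hpins fun c hc => ?_
    by_cases hc0 : c = 0
    · subst hc0
      have e3 := hS.slot 0 a ha
      rw [map_zero, D.slot_zero, hU a ha] at e3
      have e4 : G a = R 0 a := e3
      rw [hU a ha] at e4
      exact e4.symm
    · have h0 : κ c ≠ 0 := fun e => hc ⟨hc0, e⟩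
      have e := hcomp c
      simp only [f, hid, if_neg hc0, if_neg h0, hU _ (hval _ c).1] at e
      exact (hsep G h R hG hS hU c _ _ (Nat.pos_of_ne_zero h0) (hκ c) (Nat.pos_of_ne_zero h0)
        (hκ c) (by rw [hid]; exact e)).2 (hid c)

/-- The shifts form a homomorphic image of a group fixing the space pointwise. -/
theorem exists_shiftHom {Y : Type u} [Group Y] (ρ : Y →* AddMonoid.End V) {a : V} (ha : a ∈ D.U)
    (ha0 : a ≠ 0) (hE : Ops D E) (hinj : ∀ g, Function.Injective (ρ g))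
    (hU : ∀ g, ∀ u ∈ D.U, ρ g u = u) (hY : ∀ g, ∃ h R, Shift D E (ρ g) h R) :
    ∃ φ : Y →* AddMonoid.End (Fin s → ZMod q),
      ∀ g h R, Shift D E (ρ g) h R → ∀ c, φ g c = h c := by
  choose h R hS using hY
  have key : ∀ g (h' : (Fin s → ZMod q) → (Fin s → ZMod q)), ∀ c, ∀ v ∈ D.U,
      ρ g (D.slot c a) = D.slot (h' c) v → h g c = h' c := by
    intro g h' c v hv e
    have e1 := (hS g).slot c a ha
    rw [e] at e1
    have hne : v ≠ 0 := fun z => ha0 (D.slot_injective c (hinj g (by rw [e, z, map_zero, map_zero])))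
    exact (D.slot_index_eq hv (hE.mem_U ((hS g).mem c) (by rw [hU g a ha]; exact ha)) e1 hne).symm
  have hmem : ∀ g c, ∀ u ∈ D.U, R g c u ∈ D.U := fun g c u hu => hE.mem_U ((hS g).mem c) hu
  refine ⟨{ toFun := fun g => h g, map_one' := ?_, map_mul' := fun g g' => ?_ }, fun g h' R' hS' c => ?_⟩
  · refine DFunLike.ext _ _ fun c => key 1 id c a ha ?_
    rw [map_one]; rfl
  · refine DFunLike.ext _ _ fun c => key _ (fun c => h g (h g' c)) c
      (R g (h g' c) (R g' c a)) (hmem _ _ _ (hmem _ _ _ ha)) ?_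
    rw [CfsgLib.OddBase.map_mul_apply, (hS g').slot c a ha, hU g' a ha,
      (hS g).slot _ _ (hmem _ _ _ ha), hU g _ (hmem _ _ _ ha)]
  · refine key g h' c (R' c a) (hE.mem_U (hS'.mem c) ha) ?_
    rw [hS'.slot c a ha, hU g a ha]

end CfsgLib.CoprimeBase
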