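import Cfsg.Agent.Lib.OddBase.Monomial
import Cfsg.Agent.Lib.SolBase.Pattern

/-!
# Sets of vectors with trivial linear stabilizer whose complement pins quadratic functions
-/

set_option autoImplicit false

namespace CfsgLib.CoprimeBase

open CfsgLib.OddBase.Heis (dot dot_add_right dot_single_right)
open CfsgLib.SolBase (chi chi_injective eq_id_of_fix map_chi)

variable {q s : ℕ}

/-- No non-trivial injective additive map preserves the set. -/
def Rigid (Z : Set (Fin s → ZMod q)) : Prop :=
  ∀ h : (Fin s → ZMod q) →+ (Fin s → ZMod q), Function.Injective h → (∀ c ∈ Z, h c ∈ Z) →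
    ∀ c, h c = c

variable [Fact q.Prime]

/-- Outside the set, first differences determine affine functions. -/
def Pins (Z : Set (Fin s → ZMod q)) : Prop :=
  ∀ i, (∃ c, c ∉ Z ∧ c + Pi.single i 1 ∉ Z) ∧
    ∀ (k : Fin s → ZMod q) (b : ZMod q),
      (∀ c, c ∉ Z → c + Pi.single i 1 ∉ Z → dot k c = b) → k = 0

theorem pins_empty : Pins (∅ : Set (Fin s → ZMod q)) := by
  refine fun i => ⟨⟨0, fun h => h, fun h => h⟩, fun k b h => funext fun j => ?_⟩
  have h0 : dot k 0 = b := h 0 (fun h => h) fun h => h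
  have h1 := h (Pi.single j 1) (fun h => h) fun h => h
  rw [show dot k (0 : Fin s → ZMod q) = 0 by simp [dot]] at h0
  rw [dot_single_right, mul_one, ← h0] at h1
  exact h1

section Two

/-- The indicator of a predicate on the coordinates. -/
noncomputable def ind (P : ℕ → Prop) : Fin s → ZMod 2 := fun k =>
  letI := Classical.dec (P k)
  if P k then 1 else 0

theorem ind_iff {P Q : ℕ → Prop} (h : (ind P : Fin s → ZMod 2) = ind Q) (k : ℕ) (hk : k < s) :
    P k ↔ Q k := by
  classical
  have := congrFun h ⟨k, hk⟩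
  by_cases h1 : P k <;> by_cases h2 : Q k <;> simp [ind, h1, h2] at this ⊢

theorem ind_congr {P Q : ℕ → Prop} (h : ∀ k < s, (P k ↔ Q k)) :
    (ind P : Fin s → ZMod 2) = ind Q := by
  classical
  funext k
  simp only [ind, h k k.2]

theorem ind_add (P Q : ℕ → Prop) :
    (ind P + ind Q : Fin s → ZMod 2) = ind fun k => ¬(P k ↔ Q k) := by
  classical
  funext k
  by_cases h1 : P k <;> by_cases h2 : Q k <;> simp [ind, h1, h2] <;> decide

/-- A coordinate vector. -/
noncomputable def bv (i : ℕ) : Fin s → ZMod 2 := ind fun k => k = i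

/-- Two consecutive coordinates. -/
noncomputable def pv (i : ℕ) : Fin s → ZMod 2 := ind fun k => k = i ∨ k = i + 1

/-- The extra vector. -/
noncomputable def xv : Fin s → ZMod 2 := ind fun k => k = 0 ∨ k = 2 ∨ k + 1 = s

theorem bv_eq_single (i : Fin s) : (bv (i : ℕ) : Fin s → ZMod 2) = Pi.single i 1 := by
  classical
  funext k
  by_cases h : k = i
  · subst h; simp [bv, ind]
  · simp [bv, ind, h, Fin.val_inj]

theorem pv_eq (i : ℕ) : (pv i : Fin s → ZMod 2) = bv i + bv (i + 1) := by
  rw [pv, bv, bv, ind_add]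
  exact ind_congr fun k _ => by omega

/-- The rigid set. -/
def fanSet (s : ℕ) : Set (Fin s → ZMod 2) :=
  {c | (∃ i, i < s ∧ c = bv i) ∨ (∃ i, i + 1 < s ∧ c = pv i) ∨ c = xv}

theorem bv_mem {i : ℕ} (h : i < s) : (bv i : Fin s → ZMod 2) ∈ fanSet s := Or.inl ⟨i, h, rfl⟩

theorem pv_mem {i : ℕ} (h : i + 1 < s) : (pv i : Fin s → ZMod 2) ∈ fanSet s :=
  Or.inr (Or.inl ⟨i, h, rfl⟩)

theorem partners_bv (hs : 6 ≤ s) {j : ℕ} (hj : j < s) {y : Fin s → ZMod 2} (hy : y ∈ fanSet s)
    (hz : bv j + y ∈ fanSet s) :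
    (0 < j ∧ (y = bv (j - 1) ∨ y = pv (j - 1))) ∨ (j + 1 < s ∧ (y = bv (j + 1) ∨ y = pv j)) := by
  rcases hy with ⟨a, ha, rfl⟩ | ⟨a, ha, rfl⟩ | rfl <;>
    rcases hz with ⟨b, hb, e⟩ | ⟨b, hb, e⟩ | e <;>
    simp only [bv, pv, xv, ind_add] at e <;> have e' := ind_iff e
  · have := e' b hb; have := e' a ha; have := e' j hj; omega
  · have := e' b (by omega); have := e' (b + 1) hb; have := e' a ha; have := e' j hj
    rcases (show (j + 1 = a ∧ j + 1 < s) ∨ (0 < j ∧ a = j - 1) by omega) with ⟨rfl, h2⟩ | ⟨h2, rfl⟩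
    exacts [Or.inr ⟨h2, Or.inl rfl⟩, Or.inl ⟨h2, Or.inl rfl⟩]
  · have := e' 0 (by omega); have := e' 2 (by omega); have := e' (s - 1) (by omega); omega
  · have := e' b hb; have := e' a (by omega); have := e' (a + 1) ha; have := e' j hj
    rcases (show (j = a ∧ j + 1 < s) ∨ (0 < j ∧ a = j - 1) by omega) with ⟨rfl, h2⟩ | ⟨h2, rfl⟩
    exacts [Or.inr ⟨h2, Or.inr rfl⟩, Or.inl ⟨h2, Or.inr rfl⟩]
  · have := e' b (by omega); have := e' (b + 1) hb; have := e' a (by omega)
    have := e' (a + 1) ha; have := e' j hj; omega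
  · have := e' 0 (by omega); have := e' 2 (by omega); have := e' (s - 1) (by omega)
    have := e' a (by omega); have := e' (a + 1) ha; have := e' j hj; omega
  · have := e' 0 (by omega); have := e' 2 (by omega); have := e' (s - 1) (by omega); omega
  · have := e' 0 (by omega); have := e' 2 (by omega); have := e' (s - 1) (by omega)
    have := e' j hj; omega
  · have := e' j hj; omega

theorem partners_pv (hs : 6 ≤ s) {i : ℕ} (hi : i + 1 < s) {y : Fin s → ZMod 2} (hy : y ∈ fanSet s)
    (hz : pv i + y ∈ fanSet s) : y = bv i ∨ y = bv (i + 1) := by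
  rcases hy with ⟨a, ha, rfl⟩ | ⟨a, ha, rfl⟩ | rfl <;>
    rcases hz with ⟨b, hb, e⟩ | ⟨b, hb, e⟩ | e <;>
    simp only [bv, pv, xv, ind_add] at e <;> have e' := ind_iff e <;>
    have := e' i (by omega) <;> have := e' (i + 1) hi
  · have := e' a ha; have := e' b hb
    rcases (show a = i ∨ a = i + 1 by omega) with rfl | rfl
    exacts [Or.inl rfl, Or.inr rfl]
  · have := e' a ha; have := e' b (by omega); have := e' (b + 1) hb; omega
  · have := e' 0 (by omega); have := e' 2 (by omega); have := e' (s - 1) (by omega)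
    have := e' a ha; omega
  · have := e' a (by omega); have := e' (a + 1) ha; have := e' b hb; omega
  · have := e' a (by omega); have := e' (a + 1) ha; have := e' b (by omega)
    have := e' (b + 1) hb; omega
  · have := e' 0 (by omega); have := e' 2 (by omega); have := e' (s - 1) (by omega)
    have := e' a (by omega); have := e' (a + 1) ha; omega
  · have := e' 0 (by omega); have := e' 2 (by omega); have := e' (s - 1) (by omega); omega
  · have := e' 0 (by omega); have := e' 2 (by omega); have := e' (s - 1) (by omega); omega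
  · have := e' 0 (by omega); have := e' 2 (by omega); have := e' (s - 1) (by omega); omega

theorem not_line_xv (hs : 6 ≤ s) {y : Fin s → ZMod 2} (hy : y ∈ fanSet s) :
    xv + y ∉ fanSet s := by
  rintro hz
  rw [add_comm] at hz
  rcases hy with ⟨a, ha, rfl⟩ | ⟨a, ha, rfl⟩ | rfl
  · rcases partners_bv hs ha (Or.inr (Or.inr rfl)) hz with ⟨h, e | e⟩ | ⟨h, e | e⟩ <;>
      simp only [bv, pv, xv] at e <;> have e' := ind_iff e <;>
      have := e' 0 (by omega) <;> have := e' 2 (by omega) <;> have := e' (s - 1) (by omega) <;>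
      omega
  · rcases partners_pv hs ha (Or.inr (Or.inr rfl)) hz with e | e <;>
      simp only [bv, xv] at e <;> have e' := ind_iff e <;>
      have := e' 0 (by omega) <;> have := e' 2 (by omega) <;> have := e' (s - 1) (by omega) <;>
      omega
  · rw [ZModModule.add_self] at hz
    rcases hz with ⟨a, ha, e⟩ | ⟨a, ha, e⟩ | e <;> have e₀ := e
    · have := congrFun e₀ ⟨a, ha⟩; simp [bv, ind] at this
    · have := congrFun e₀ ⟨a, by omega⟩; simp [pv, ind] at this
    · have := congrFun e₀ ⟨0, by omega⟩; simp [xv, ind] at this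

theorem bv_ne {i j : ℕ} (hi : i < s) (h : i ≠ j) : (bv i : Fin s → ZMod 2) ≠ bv j := fun e =>
  h ((ind_iff e i hi).1 rfl)

theorem bv_ne_pv {i j : ℕ} (hj : j + 1 < s) : (bv i : Fin s → ZMod 2) ≠ pv j := fun e => by
  have e1 := (ind_iff e j (by omega)).2 (Or.inl rfl)
  have e2 := (ind_iff e (j + 1) hj).2 (Or.inr rfl)
  omega

/-- Lying on two lines of the set. -/
def OnTwo (s : ℕ) (x : Fin s → ZMod 2) : Prop :=
  ∃ y₁ ∈ fanSet s, ∃ y₂ ∈ fanSet s, x + y₁ ∈ fanSet s ∧ x + y₂ ∈ fanSet s ∧ y₂ ≠ y₁ ∧ y₂ ≠ x + y₁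

theorem add_self_left (x y : Fin s → ZMod 2) : x + (x + y) = y := by
  rw [← add_assoc, ZModModule.add_self, zero_add]

theorem onTwo_bv (hs : 6 ≤ s) {j : ℕ} (h0 : 0 < j) (h1 : j + 1 < s) : OnTwo s (bv j) := by
  refine ⟨bv (j - 1), bv_mem (by omega), bv (j + 1), bv_mem h1, ?_, ?_, bv_ne h1 (by omega), ?_⟩
  · rw [add_comm]
    have := pv_eq (s := s) (j - 1)
    rw [show j - 1 + 1 = j by omega] at this
    exact this ▸ pv_mem (by omega)
  · exact pv_eq (s := s) j ▸ pv_mem h1
  · rw [add_comm]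
    have := pv_eq (s := s) (j - 1)
    rw [show j - 1 + 1 = j by omega] at this
    rw [add_comm (bv (j - 1)) (bv j)] at this
    rw [← this, add_comm 1 j]
    exact bv_ne_pv (by omega)

theorem onTwo_iff (hs : 6 ≤ s) {x : Fin s → ZMod 2} (hx : x ∈ fanSet s) (h : OnTwo s x) :
    ∃ j, 0 < j ∧ j + 1 < s ∧ x = bv j := by
  obtain ⟨y₁, m₁, y₂, m₂, z₁, z₂, ne₁, ne₂⟩ := h
  rcases hx with ⟨j, hj, rfl⟩ | ⟨i, hi, rfl⟩ | rfl
  · refine ⟨j, ?_, ?_, rfl⟩
    · by_contra h0
      obtain rfl : j = 0 := by omega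
      have key : ∀ y ∈ fanSet s, bv 0 + y ∈ fanSet s → y = bv 1 ∨ y = pv 0 := fun y hy hz =>
        ((partners_bv hs hj hy hz).resolve_left fun h => absurd h.1 (lt_irrefl 0)).2
      have hsum : (bv 0 + bv 1 : Fin s → ZMod 2) = pv 0 := (pv_eq 0).symm
      have hsum' : (bv 0 + pv 0 : Fin s → ZMod 2) = bv 1 := by rw [← hsum, add_self_left]
      rcases key _ m₁ z₁ with rfl | rfl <;> rcases key _ m₂ z₂ with rfl | rfl
      exacts [ne₁ rfl, ne₂ hsum.symm, ne₂ hsum'.symm, ne₁ rfl]
    · by_contra h1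
      have key : ∀ y ∈ fanSet s, bv j + y ∈ fanSet s → y = bv (j - 1) ∨ y = pv (j - 1) :=
        fun y hy hz => ((partners_bv hs hj hy hz).resolve_right fun h => h1 h.1).2
      have hsum : (bv j + bv (j - 1) : Fin s → ZMod 2) = pv (j - 1) := by
        rw [pv_eq, show j - 1 + 1 = j by omega, add_comm]
      have hsum' : (bv j + pv (j - 1) : Fin s → ZMod 2) = bv (j - 1) := by
        rw [← hsum, add_self_left]
      rcases key _ m₁ z₁ with rfl | rfl <;> rcases key _ m₂ z₂ with rfl | rfl
      exacts [ne₁ rfl, ne₂ hsum.symm, ne₂ hsum'.symm, ne₁ rfl]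
  · exfalso
    have hsum : (pv i + bv i : Fin s → ZMod 2) = bv (i + 1) := by
      rw [pv_eq, add_comm, add_self_left]
    have hsum' : (pv i + bv (i + 1) : Fin s → ZMod 2) = bv i := by rw [← hsum, add_self_left]
    rcases partners_pv hs hi m₁ z₁ with rfl | rfl <;> rcases partners_pv hs hi m₂ z₂ with rfl | rfl
    exacts [ne₁ rfl, ne₂ hsum.symm, ne₂ hsum'.symm, ne₁ rfl]
  · exact absurd z₁ (not_line_xv hs m₁)

theorem rigid_fanSet (hs : 6 ≤ s) : Rigid (fanSet s) := by
  intro h hinj hpres
  have hmid : ∀ j, 0 < j → j + 1 < s → ∃ k, 0 < k ∧ k + 1 < s ∧ h (bv j) = bv k := by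
    intro j h0 h1
    obtain ⟨y₁, m₁, y₂, m₂, z₁, z₂, n₁, n₂⟩ := onTwo_bv hs h0 h1
    refine onTwo_iff hs (hpres _ (bv_mem (by omega)))
      ⟨h y₁, hpres _ m₁, h y₂, hpres _ m₂, ?_, ?_, fun e => n₁ (hinj e), fun e => n₂ (hinj ?_)⟩
    · rw [← map_add]; exact hpres _ z₁
    · rw [← map_add]; exact hpres _ z₂
    · rw [map_add]; exact e
  choose π hπ0 hπ1 hπ using hmid
  have hadj : ∀ j (h0 : 0 < j) (h1 : j + 1 + 1 < s),
      π (j + 1) (by omega) h1 = π j h0 (by omega) + 1 ∨
      π (j + 1) (by omega) h1 + 1 = π j h0 (by omega) := by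
    intro j h0 h1
    have m := hpres _ (pv_mem (s := s) (i := j) (by omega))
    rw [pv_eq, map_add, hπ j h0 (by omega), hπ (j + 1) (by omega) h1] at m
    set a := π j h0 (by omega)
    set b := π (j + 1) (by omega) h1
    have ha := hπ1 j h0 (by omega)
    have hb := hπ1 (j + 1) (by omega) h1
    rcases m with ⟨c, hc, e⟩ | ⟨c, hc, e⟩ | e <;> simp only [bv, pv, xv, ind_add] at e <;>
      have e' := ind_iff e <;> have := e' a (by omega) <;> have := e' b (by omega)
    · have := e' c hc; omega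
    · have := e' c (by omega); have := e' (c + 1) hc; omega
    · have := e' 0 (by omega); have := e' 2 (by omega); have := e' (s - 1) (by omega); omega
  have hne : ∀ i j (a0 : 0 < i) (a1 : i + 1 < s) (b0 : 0 < j) (b1 : j + 1 < s), i ≠ j →
      π i a0 a1 ≠ π j b0 b1 := by
    intro i j a0 a1 b0 b1 hij e
    have := hinj ((hπ i a0 a1).trans (e ▸ (hπ j b0 b1).symm))
    exact bv_ne (by omega) hij this
  -- the middle part is moved as a path
  have hstep : ∀ j (h0 : 0 < j) (h1 : j + 1 < s),
      (π 2 (by omega) (by omega) = π 1 one_pos (by omega) + 1 →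
        π j h0 h1 = π 1 one_pos (by omega) + (j - 1)) ∧
      (π 2 (by omega) (by omega) + 1 = π 1 one_pos (by omega) →
        π j h0 h1 + (j - 1) = π 1 one_pos (by omega)) := by
    intro j
    induction j using Nat.strong_induction_on with
    | _ j ih =>
    intro h0 h1
    rcases (show j = 1 ∨ j = 2 ∨ 2 < j by omega) with rfl | rfl | h2
    · exact ⟨fun _ => rfl, fun _ => rfl⟩
    · exact ⟨fun e => e, fun e => e⟩
    obtain ⟨l, rfl⟩ : ∃ l, j = l + 1 + 1 := ⟨j - 2, by omega⟩
    have hk := hadj (l + 1) (by omega) h1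
    have := hne l (l + 1 + 1) (by omega) (by omega) h0 h1 (by omega)
    obtain ⟨up, dn⟩ := ih (l + 1) (by omega) (by omega) (by omega)
    obtain ⟨up', dn'⟩ := ih l (by omega) (by omega) (by omega)
    constructor <;> intro e
    · have := up e; have := up' e; omega
    · have := dn e; have := dn' e; omega
  have hdir : (∀ j (h0 : 0 < j) (h1 : j + 1 < s), π j h0 h1 = j) ∨
      ∀ j (h0 : 0 < j) (h1 : j + 1 < s), π j h0 h1 + j + 1 = s := by
    obtain ⟨upL, dnL⟩ := hstep (s - 2) (by omega) (by omega)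
    have := hπ1 1 one_pos (by omega)
    have := hπ0 1 one_pos (by omega)
    have := hπ1 (s - 2) (by omega) (by omega)
    have := hπ0 (s - 2) (by omega) (by omega)
    rcases hadj 1 one_pos (by omega) with e | e
    · left
      intro j h0 h1
      have := upL e
      have := (hstep j h0 h1).1 e
      omega
    · right
      intro j h0 h1
      have := dnL e
      have := (hstep j h0 h1).2 e
      omega
  -- the extra vector is fixed
  have hyY : h (xv : Fin s → ZMod 2) = xv := by
    have hbij : Set.SurjOn h (fanSet s) (fanSet s) :=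
      (((Set.toFinite _).injOn_iff_bijOn_of_mapsTo hpres).1 hinj.injOn).surjOn
    obtain ⟨c, hc, e⟩ := hbij (Or.inr (Or.inr rfl) : (xv : Fin s → ZMod 2) ∈ fanSet s)
    rcases hc with ⟨j, hj, rfl⟩ | ⟨i, hi, rfl⟩ | rfl
    · exfalso
      rcases (show j + 1 < s ∨ j = (s - 2) + 1 by omega) with h1 | rfl
      · refine not_line_xv hs (hpres _ (bv_mem (i := j + 1) h1)) ?_
        rw [← e, ← map_add, ← pv_eq]
        exact hpres _ (pv_mem h1)
      · refine not_line_xv hs (hpres _ (bv_mem (i := s - 2) (by omega))) ?_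
        rw [← e, ← map_add, add_comm, ← pv_eq]
        exact hpres _ (pv_mem (by omega))
    · exfalso
      refine not_line_xv hs (hpres _ (bv_mem (i := i) (by omega))) ?_
      rw [← e, ← map_add, pv_eq, add_comm, add_self_left]
      exact hpres _ (bv_mem hi)
    · exact e
  have hy : h (bv 0) + bv (π 2 (by omega) (by omega)) + h (bv (s - 1)) = (xv : Fin s → ZMod 2) := by
    conv_rhs => rw [← hyY]
    rw [← hπ 2 (by omega) (by omega), ← map_add, ← map_add]
    congr 1
    rw [xv, bv, bv, bv, ind_add, ind_add]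
    exact ind_congr fun k hk => by omega
  have h0' : ∀ m, π 1 one_pos (by omega) = m →
      (0 < m ∧ (h (bv 0) = bv (m - 1) ∨ h (bv 0) = pv (m - 1))) ∨
        (m + 1 < s ∧ (h (bv 0) = bv (m + 1) ∨ h (bv 0) = pv m)) := by
    intro m hm
    refine partners_bv hs (by have := hπ1 1 one_pos (by omega); omega) (hpres _ (bv_mem (by omega))) ?_
    rw [← hm, ← hπ 1 one_pos (by omega), ← map_add, add_comm, ← pv_eq]
    exact hpres _ (pv_mem (by omega))
  have h1' : ∀ m, π (s - 2) (by omega) (by omega) = m →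
      (0 < m ∧ (h (bv (s - 1)) = bv (m - 1) ∨ h (bv (s - 1)) = pv (m - 1))) ∨
        (m + 1 < s ∧ (h (bv (s - 1)) = bv (m + 1) ∨ h (bv (s - 1)) = pv m)) := by
    intro m hm
    refine partners_bv hs (by have := hπ1 (s - 2) (by omega) (by omega); omega)
      (hpres _ (bv_mem (by omega))) ?_
    rw [← hm, ← hπ (s - 2) (by omega) (by omega), ← map_add]
    have := pv_eq (s := s) (s - 2)
    rw [show s - 2 + 1 = s - 1 by omega] at this
    rw [← this]
    exact hpres _ (pv_mem (by omega))
  have himg : ∀ j (a0 : 0 < j) (a1 : j + 1 + 1 < s), h (pv j) =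
      bv (π j a0 (by omega)) + bv (π (j + 1) (by omega) a1) := fun j a0 a1 => by
    rw [pv_eq, map_add, hπ j a0 (by omega), hπ (j + 1) (by omega) a1]
  have n0 : h (bv 0) ≠ h (bv 2) := fun e => bv_ne (by omega) (by omega) (hinj e)
  have n0' : h (bv 0) ≠ h (pv 1) := fun e => bv_ne_pv (by omega) (hinj e)
  have n1 : h (bv (s - 1)) ≠ h (bv (s - 3)) := fun e => bv_ne (by omega) (by omega) (hinj e)
  have n1' : h (bv (s - 1)) ≠ h (pv (s - 3)) := fun e => bv_ne_pv (by omega) (hinj e)
  rw [hπ 2 (by omega) (by omega)] at n0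
  rw [himg 1 one_pos (by omega)] at n0'
  rw [hπ (s - 3) (by omega) (by omega)] at n1
  rw [himg (s - 3) (by omega) (by omega)] at n1'
  rcases hdir with hid | hrev
  · have hfix : ∀ j, j < s → h (bv j) = bv j := by
      rw [hid 2] at n0 hy
      rw [hid 1, hid 2, ← pv_eq] at n0'
      rw [hid (s - 3)] at n1
      rw [hid (s - 3), hid (s - 3 + 1), ← pv_eq] at n1'
      have e0 : h (bv 0) = bv 0 ∨ h (bv 0) = pv 0 := by
        rcases h0' 1 (hid 1 one_pos (by omega)) with ⟨-, e⟩ | ⟨-, e | e⟩
        exacts [e, absurd e n0, absurd e n0']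
      have e1 : h (bv (s - 1)) = bv (s - 1) ∨ h (bv (s - 1)) = pv (s - 2) := by
        rcases h1' (s - 2) (hid (s - 2) (by omega) (by omega)) with ⟨-, e | e⟩ | ⟨-, e⟩
        · rw [show s - 2 - 1 = s - 3 by omega] at e; exact absurd e n1
        · rw [show s - 2 - 1 = s - 3 by omega] at e; exact absurd e n1'
        · rwa [show s - 2 + 1 = s - 1 by omega] at e
      have key : h (bv 0) = bv 0 ∧ h (bv (s - 1)) = bv (s - 1) := by
        rcases e0 with a | a <;> rcases e1 with b | b <;> rw [a, b] at hy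
        · exact ⟨a, b⟩
        all_goals
          exfalso
          simp only [bv, pv, xv, ind_add] at hy
          have e' := ind_iff hy
          have := e' 1 (by omega)
          have := e' (s - 2) (by omega)
          omega
      intro j hj
      rcases (show j = 0 ∨ j = s - 1 ∨ (0 < j ∧ j + 1 < s) by omega) with rfl | rfl | ⟨a0, a1⟩
      exacts [key.1, key.2, by rw [hπ j a0 a1, hid j a0 a1]]
    refine eq_id_of_fix h fun i => ?_
    have hchi : (chi {i} : Fin s → ZMod 2) = bv (i : ℕ) := by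
      rw [bv_eq_single]; funext k; simp [chi, Pi.single_apply]
    rw [hchi, hfix i i.2]
  · exfalso
    have r2 := hrev 2 (by omega) (by omega)
    have r1 := hrev 1 one_pos (by omega)
    have r3 := hrev (s - 3) (by omega) (by omega)
    have r4 := hrev (s - 3 + 1) (by omega) (by omega)
    have r5 := hrev (s - 2) (by omega) (by omega)
    rw [show π 2 (by omega) (by omega) = s - 3 by omega] at n0 hy
    rw [show π 1 one_pos (by omega) = s - 2 by omega, show π (1 + 1) (by omega) (by omega) = s - 3 by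
      have := hrev (1 + 1) (by omega) (by omega); omega] at n0'
    rw [show π (s - 3) (by omega) (by omega) = 2 by omega] at n1
    rw [show π (s - 3) (by omega) (by omega) = 2 by omega,
      show π (s - 3 + 1) (by omega) (by omega) = 1 by omega] at n1'
    have e0 : h (bv 0) = bv (s - 1) ∨ h (bv 0) = pv (s - 2) := by
      rcases h0' (s - 2) (by omega) with ⟨-, e | e⟩ | ⟨-, e⟩
      · rw [show s - 2 - 1 = s - 3 by omega] at e; exact absurd e n0
      · rw [pv_eq, show s - 2 - 1 + 1 = s - 2 by omega, show s - 2 - 1 = s - 3 by omega,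
          add_comm] at e
        exact absurd e n0'
      · rwa [show s - 2 + 1 = s - 1 by omega] at e
    have e1 : h (bv (s - 1)) = bv 0 ∨ h (bv (s - 1)) = pv 0 := by
      rcases h1' 1 (by omega) with ⟨-, e⟩ | ⟨-, e | e⟩
      exacts [e, absurd e n1, absurd (e.trans ((pv_eq 1).trans (add_comm _ _))) n1']
    rcases e0 with a | a <;> rcases e1 with b | b <;> rw [a, b] at hy <;>
      simp only [bv, pv, xv, ind_add] at hy <;> have e' := ind_iff hy <;>
      have := e' (s - 3) (by omega) <;> omega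

theorem pins_fanSet (hs : 6 ≤ s) : Pins (fanSet s) := by
  have hout : ∀ a b : ℕ,
      (ind fun k => k ≠ a ∧ k ≠ b : Fin s → ZMod 2) ∉ fanSet s := by
    rintro a b (⟨c, hc, e⟩ | ⟨c, hc, e⟩ | e) <;> simp only [bv, pv, xv] at e <;>
      have e' := ind_iff e <;> have := e' 0 (by omega) <;> have := e' 1 (by omega) <;>
      have := e' 2 (by omega) <;> have := e' 3 (by omega) <;> have := e' 4 (by omega) <;>
      have := e' (s - 1) (by omega) <;> omega
  intro i
  have hshift : ∀ a : ℕ, (ind fun k => k ≠ a : Fin s → ZMod 2) + Pi.single i 1 ∉ fanSet s := by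
    intro a
    rw [← bv_eq_single, bv, ind_add]
    by_cases h : a = (i : ℕ)
    · have : (ind fun k => ¬(k ≠ a ↔ k = (i : ℕ)) : Fin s → ZMod 2) =
          ind fun k => k ≠ s ∧ k ≠ s := ind_congr fun k hk => by omega
      rw [this]; exact hout s s
    · have : (ind fun k => ¬(k ≠ a ↔ k = (i : ℕ)) : Fin s → ZMod 2) =
          ind fun k => k ≠ a ∧ k ≠ (i : ℕ) := ind_congr fun k hk => by omega
      rw [this]; exact hout a i
  have hone : ∀ a : ℕ, (ind fun k => k ≠ a : Fin s → ZMod 2) ∉ fanSet s := fun a => by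
    have := hout a a
    simpa using this
  refine ⟨⟨_, hone s, hshift s⟩, fun k b hb => funext fun j => ?_⟩
  have h1 := hb _ (hone s) (hshift s)
  have h2 := hb _ (hone (j : ℕ)) (hshift j)
  have hsplit : (ind fun k => k ≠ s : Fin s → ZMod 2) =
      (ind fun k => k ≠ (j : ℕ)) + Pi.single j 1 := by
    rw [← bv_eq_single, bv, ind_add]
    exact ind_congr fun m hm => by omega
  rw [hsplit, dot_add_right, h2, dot_single_right, mul_one, add_eq_left] at h1
  exact h1

end Two

end CfsgLib.CoprimeBase
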