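import Cfsg.Agent.Lib.SolBase.Stab
import Cfsg.Agent.Lib.CoprimeBase.Rigid

/-!
# Normalisers of a Heisenberg configuration fixing a vector of the fixed space
-/

set_option autoImplicit false

universe u

namespace CfsgLib.CoprimeBase

open CfsgLib.OddBase (Heis)
open CfsgLib.OddBase.Heis (red lift dot vec_induction red_zero red_add red_single red_lift
  dot_zero_right dot_add_right dot_single_right comm_apply)
open CfsgLib.SolBase (EMon)

variable {F : Type u} [Field F] {V : Type u} [AddCommGroup V] {q s : ℕ} [hq : Fact q.Prime]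
  {D : Heis F V q s} {E : Submonoid (AddMonoid.End V)}

/-- Extra operators commuting with the configuration. -/
structure Ops (D : Heis F V q s) (E : Submonoid (AddMonoid.End V)) : Prop where
  scal : ∀ r, D.sc r ∈ E
  comm_sc : ∀ e ∈ E, ∀ r, Commute e (D.sc r)
  comm_x : ∀ e ∈ E, ∀ i, Commute e (D.x i)
  comm_z : ∀ e ∈ E, ∀ i, Commute e (D.z i)

/-- Only scalars of the extra operators fix the line of the vector. -/
def Eig (D : Heis F V q s) (E : Submonoid (AddMonoid.End V)) (a : V) : Prop :=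
  ∀ e ∈ E, ∀ r, e a = D.sc r a → e = D.sc r

namespace Ops

variable (hE : Ops D E)

include hE

theorem comm_X {e : AddMonoid.End V} (he : e ∈ E) (k : Fin s → ℕ) : Commute e (D.X k) := by
  refine vec_induction (P := fun k => Commute e (D.X k)) (by rw [D.X_zero]; exact Commute.one_right _)
    (fun a b ha hb => by rw [D.X_add]; exact ha.mul_right hb)
    (fun i n => by rw [D.X_single]; exact (hE.comm_x e he i).pow_right n) k

theorem comm_Z {e : AddMonoid.End V} (he : e ∈ E) (k : Fin s → ℕ) : Commute e (D.Z k) := by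
  refine vec_induction (P := fun k => Commute e (D.Z k)) (by rw [D.Z_zero]; exact Commute.one_right _)
    (fun a b ha hb => by rw [D.Z_add]; exact ha.mul_right hb)
    (fun i n => by rw [D.Z_single]; exact (hE.comm_z e he i).pow_right n) k

theorem comm_mon {e m : AddMonoid.End V} (he : e ∈ E)
    {L : Fin s → ZMod q} (hm : D.Mon m L) : Commute e m := by
  obtain ⟨κ, k, l, rfl, -⟩ := hm
  exact (hE.comm_sc e he κ).mul_right ((hE.comm_X he k).mul_right (hE.comm_Z he l))

theorem mul {f g : AddMonoid.End V} {L M : Fin s → ZMod q}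
    (hf : EMon D E f L) (hg : EMon D E g M) : EMon D E (f * g) (L + M) := by
  obtain ⟨m, e, hm, he, rfl⟩ := hf
  obtain ⟨m', e', hm', he', rfl⟩ := hg
  refine ⟨m * m', e * e', hm.mul D hm', E.mul_mem he he', ?_⟩
  rw [mul_assoc m e, ← mul_assoc e m', (hE.comm_mon he hm').eq, mul_assoc m' e, ← mul_assoc m]

theorem mem_U {e : AddMonoid.End V} (he : e ∈ E) {u : V} (hu : u ∈ D.U) : e u ∈ D.U := fun i => by
  rw [← comm_apply (hE.comm_x e he i), hu i]

theorem apply_slot {f : AddMonoid.End V} {L : Fin s → ZMod q}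
    (hf : EMon D E f L) : ∃ ε ∈ E, ∀ u ∈ D.U, f u = D.slot L (ε u) := by
  obtain ⟨m, e, ⟨κ, k, l, rfl, rfl⟩, he, rfl⟩ := hf
  obtain ⟨d, -, hd⟩ := D.Z_reduce l
  refine ⟨D.sc (κ * (D.ψ (dot (red q k) (red q l)) * d)) * e, E.mul_mem (hE.scal _) he,
    fun u hu => ?_⟩
  show D.sc κ (D.X k (D.Z l (e u))) = D.Z (lift (red q l)) (D.sc _ (e u))
  rw [D.X_Z_fix k l (hE.mem_U he hu), hd, ← comm_apply (D.commute_Z_sc _ _), D.sc_apply_mul,
    D.sc_apply_mul]
  rfl

theorem Z_conj (G : AddMonoid.End V) (L : Fin s → Fin s → ZMod q)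
    (hz : ∀ i, ∃ f, EMon D E f (L i) ∧ G * D.z i = f * G) (m : Fin s → ℕ) :
    ∃ f, EMon D E f (∑ i, (m i : ZMod q) • L i) ∧ G * D.Z m = f * G := by
  refine vec_induction (P := fun m => ∃ f, EMon D E f (∑ i, (m i : ZMod q) • L i) ∧ G * D.Z m = f * G)
    ?_ (fun a b ha hb => ?_) (fun i n => ?_) m
  · refine ⟨1, ?_, by rw [D.Z_zero, mul_one, one_mul]⟩
    simpa using (EMon.of_mon (D.mon_sc 1) : EMon D E _ _)
  · obtain ⟨f, hf, ef⟩ := ha
    obtain ⟨g, hg, eg⟩ := hb
    refine ⟨f * g, ?_, by rw [D.Z_add, ← mul_assoc, ef, mul_assoc, eg, mul_assoc]⟩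
    have := hE.mul hf hg
    rw [← Finset.sum_add_distrib] at this
    simpa [add_smul] using this
  · rw [D.Z_single]
    have hs : ∀ n : ℕ, ∑ k, ((Pi.single i n : Fin s → ℕ) k : ZMod q) • L k = (n : ZMod q) • L i := by
      intro n
      rw [Finset.sum_eq_single i]
      · rw [Pi.single_eq_same]
      · intro k _ hk; rw [Pi.single_eq_of_ne hk, Nat.cast_zero, zero_smul]
      · exact fun h => absurd (Finset.mem_univ i) h
    rw [hs]
    induction n with
    | zero =>
      exact ⟨1, by simpa using (EMon.of_mon (D.mon_sc 1) : EMon D E _ _),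
        by rw [pow_zero, mul_one, one_mul]⟩
    | succ n ih =>
      obtain ⟨f, hf, ef⟩ := ih
      obtain ⟨g, hg, eg⟩ := hz i
      refine ⟨f * g, ?_, by rw [pow_succ, ← mul_assoc, ef, mul_assoc, eg, mul_assoc]⟩
      have := hE.mul hf hg
      rwa [Nat.cast_succ, add_smul, one_smul]

end Ops

theorem appG {G f g : AddMonoid.End V} (e : G * f = g * G) (v : V) : G (f v) = g (G v) :=
  congrArg (fun k : AddMonoid.End V => k v) e

theorem commute_slot_sc (D : Heis F V q s) (r : F) (c : Fin s → ZMod q) :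
    Commute (D.sc r) (D.slot c) := D.commute_Z_sc r _

theorem slot_sc (D : Heis F V q s) (r : F) (c : Fin s → ZMod q) (v : V) :
    D.slot c (D.sc r v) = D.sc r (D.slot c v) :=
  (comm_apply (commute_slot_sc D r c) v).symm

/-- A map fixing the vector turns diagonal operators into diagonal operators. -/
theorem diag (hE : Ops D E) {a : V} (ha : a ∈ D.U) (ha0 : a ≠ 0) (hA : Eig D E a)
    {G : AddMonoid.End V} (hGx : ∀ i, ∃ f L, EMon D E f L ∧ G * D.x i = f * G) (hGa : G a = a) :
    ∀ i, ∃ k : Fin s → ℕ, G * D.x i = D.X k * G := by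
  intro i
  obtain ⟨f, L, hf, ef⟩ := hGx i
  have hfa : f a = a := by
    have := appG ef a
    rw [ha i, hGa] at this
    exact this.symm
  obtain ⟨ε, hε, hρ⟩ := hE.apply_slot hf
  have e1 := hρ a ha
  rw [hfa] at e1
  have hL : L = 0 := (D.slot_index_eq (d := L) ha (hE.mem_U hε ha)
    (by rw [D.slot_zero]; exact e1) ha0).symm
  subst hL
  obtain ⟨m, e, ⟨κ, k, l, rfl, hl⟩, he, rfl⟩ := hf
  obtain ⟨d, -, hd⟩ := D.Z_reduce l
  have hl0 : lift (red q l) = 0 := by rw [hl]; exact funext fun i => ZMod.val_zero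
  rw [hl0, D.Z_zero, mul_one] at hd
  have hfe : D.sc κ * (D.X k * D.Z l) = D.sc (κ * d) * D.X k := by
    rw [hd, ← (D.commute_X_sc d k).eq, ← mul_assoc, map_mul]
  rw [hfe] at ef hfa
  have h1 : D.sc (κ * d) (e a) = a := by
    have : D.sc (κ * d) (D.X k (e a)) = a := hfa
    rwa [D.X_fix k (hE.mem_U he ha)] at this
  have hκ : κ * d ≠ 0 := fun h => by
    rw [h, map_zero D.sc] at h1
    exact ha0 h1.symm
  have he' : e = D.sc (κ * d)⁻¹ := hA e he _ (by
    conv_rhs => rw [← h1, D.sc_inv_apply hκ])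
  refine ⟨k, ?_⟩
  rw [ef, he', mul_assoc (D.sc (κ * d)) (D.X k), ← (D.commute_X_sc _ k).eq,
    ← mul_assoc (D.sc (κ * d)), ← map_mul, mul_inv_cancel₀ hκ, map_one, one_mul]

/-- The fixed space is preserved. -/
theorem U_map [Finite V] {G : AddMonoid.End V} (hG : Function.Injective G)
    (hK : ∀ i, ∃ k : Fin s → ℕ, G * D.x i = D.X k * G) :
    (∀ u ∈ D.U, G u ∈ D.U) ∧ ∀ v, G v ∈ D.U → v ∈ D.U := by
  choose K hK using hK
  have hsub : ∀ v, G v ∈ D.U → v ∈ D.U := fun v hv i => hG (by
    rw [appG (hK i) v]; exact D.X_fix _ hv)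
  refine ⟨fun u hu => ?_, hsub⟩
  let g : {v : V // G v ∈ D.U} → D.U := fun v => ⟨v, hsub v v.2⟩
  have h1 : Function.Bijective (fun v : {v : V // G v ∈ D.U} => (⟨G v, v.2⟩ : D.U)) := by
    refine ⟨fun v w e => Subtype.ext (hG (congrArg Subtype.val e)), fun y => ?_⟩
    obtain ⟨v, hv⟩ := (Finite.surjective_of_injective hG) y.1
    exact ⟨⟨v, hv ▸ y.2⟩, Subtype.ext hv⟩
  have hgs : Function.Surjective g := by
    refine (Function.Injective.bijective_of_nat_card_le (f := g)
      (fun v w e => Subtype.ext (congrArg (fun y : D.U => (y : V)) e)) ?_).2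
    rw [Nat.card_eq_of_bijective _ h1]
  obtain ⟨v, hv⟩ := hgs ⟨u, hu⟩
  have := v.2
  rwa [show (v : V) = u from congrArg (fun y : D.U => (y : V)) hv] at this

/-- The slots are permuted linearly, up to extra operators. -/
structure Shift (D : Heis F V q s) (E : Submonoid (AddMonoid.End V)) (G : AddMonoid.End V)
    (h : (Fin s → ZMod q) →+ (Fin s → ZMod q))
    (R : (Fin s → ZMod q) → AddMonoid.End V) : Prop where
  inj : Function.Injective h
  mem : ∀ c, R c ∈ E
  slot : ∀ c, ∀ u ∈ D.U, G (D.slot c u) = D.slot (h c) (R c (G u))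
  conj : ∀ c, ∃ f, EMon D E f (h c) ∧ G * D.slot c = f * G

theorem exists_shift [Finite V] (hE : Ops D E) {a : V} (ha : a ∈ D.U) (ha0 : a ≠ 0)
    {G : AddMonoid.End V} (hG : Function.Injective G)
    (hK : ∀ i, ∃ k : Fin s → ℕ, G * D.x i = D.X k * G)
    (hGz : ∀ i, ∃ f L, EMon D E f L ∧ G * D.z i = f * G) (hGa : G a = a) :
    ∃ h R, Shift D E G h R := by
  obtain ⟨hUmap, hsub⟩ := U_map hG hK
  choose Fz L hFz hzG using hGz
  let h : (Fin s → ZMod q) →+ (Fin s → ZMod q) :=
    AddMonoidHom.mk' (fun c => ∑ i, c i • L i) fun c d => by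
      simp [add_smul, Finset.sum_add_distrib]
  have hconj : ∀ c, ∃ f, EMon D E f (h c) ∧ G * D.slot c = f * G := by
    intro c
    obtain ⟨f, hf, ef⟩ := hE.Z_conj G L (fun i => ⟨Fz i, hFz i, hzG i⟩) (lift c)
    have hh : ∑ i, ((lift c i : ℕ) : ZMod q) • L i = h c := by
      show _ = ∑ i, c i • L i
      simp [lift]
    rw [hh] at hf
    exact ⟨f, hf, ef⟩
  have hslot : ∀ c, ∃ ε ∈ E, ∀ u ∈ D.U, G (D.slot c u) = D.slot (h c) (ε (G u)) := by
    intro c
    obtain ⟨f, hf, ef⟩ := hconj c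
    obtain ⟨r, hr, hr'⟩ := hE.apply_slot hf
    exact ⟨r, hr, fun u hu => (appG ef u).trans (hr' _ (hUmap u hu))⟩
  choose R hRE hR using hslot
  have hh0 : ∀ c, h c = 0 → c = 0 := by
    intro c hc
    have e := hR c a ha
    rw [hc, D.slot_zero, hGa] at e
    have hm : D.slot c a ∈ D.U := hsub _ (e ▸ hE.mem_U (hRE c) ha)
    exact D.slot_index_eq (d := 0) ha hm (by rw [D.slot_zero]; rfl) ha0
  exact ⟨h, R, (injective_iff_map_eq_zero h).2 hh0, hRE, hR, hconj⟩

/-- The slot components of a fixed vector. -/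
theorem components (hE : Ops D E) {G : AddMonoid.End V}
    {h : (Fin s → ZMod q) →+ (Fin s → ZMod q)} {R : (Fin s → ZMod q) → AddMonoid.End V}
    (hS : Shift D E G h R) (hUmap : ∀ u ∈ D.U, G u ∈ D.U)
    {f : (Fin s → ZMod q) → V} (hfU : ∀ c, f c ∈ D.U)
    (hGf : G (∑ c, D.slot c (f c)) = ∑ c, D.slot c (f c)) (c : Fin s → ZMod q) :
    R c (G (f c)) = f (h c) := by
  classical
  have e := congrArg (D.projHom (h c)) hGf
  rw [map_sum, map_sum, map_sum] at e
  have e1 : ∀ d, D.projHom (h c) (G (D.slot d (f d))) =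
      if d = c then D.slot (h c) (R c (G (f c))) else 0 := by
    intro d
    show D.proj (h c) _ = _
    rw [hS.slot d _ (hfU d), D.proj_slot _ _ (hE.mem_U (hS.mem d) (hUmap _ (hfU d)))]
    by_cases hdc : d = c
    · subst hdc; simp
    · rw [if_neg fun e => hdc (hS.inj e), if_neg hdc]
  have e2 : ∀ d, D.projHom (h c) (D.slot d (f d)) =
      if d = h c then D.slot (h c) (f (h c)) else 0 := by
    intro d
    show D.proj (h c) _ = _
    rw [D.proj_slot _ _ (hfU d)]
    by_cases hdc : d = h c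
    · subst hdc; simp
    · rw [if_neg hdc, if_neg hdc]
  simp only [e1, e2, Finset.sum_ite_eq', Finset.mem_univ, if_true] at e
  rw [← sub_eq_zero, ← map_sub] at e
  exact sub_eq_zero.1 (D.slot_injective _ e)

/-- The conclusion: known values off a pinning set force the identity. -/
theorem eq_one_of_pins (hE : Ops D E) {a : V} (ha : a ∈ D.U) (ha0 : a ≠ 0) (hA : Eig D E a)
    {G : AddMonoid.End V} {α : F → F} (hGsc : ∀ r, G * D.sc r = D.sc (α r) * G)
    {h : (Fin s → ZMod q) →+ (Fin s → ZMod q)} {R : (Fin s → ZMod q) → AddMonoid.End V}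
    (hS : Shift D E G h R) (hU : ∀ u ∈ D.U, G u = u) (hid : ∀ c, h c = c)
    {Z : Set (Fin s → ZMod q)} (hZ : Pins Z) (hR : ∀ c, c ∉ Z → R c a = a) : G = 1 := by
  classical
  haveI : Fact (1 < q) := ⟨hq.out.one_lt⟩
  have hσ : ∀ r, Commute G (D.sc r) := fun r => by
    show G * D.sc r = D.sc r * G
    have e := appG (hGsc r) a
    rw [hU a ha, hU _ (D.sc_mem ha r)] at e
    rw [hGsc, ← D.sc_cancel e ha0]
  have fixS : ∀ c, c ∉ Z → G (D.slot c a) = D.slot c a := fun c hc => by
    rw [hS.slot c a ha, hU a ha, hR c hc, hid]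
  have hz : ∀ i, Commute G (D.z i) := by
    intro i
    have hlb : lift (Pi.single i (1 : ZMod q) : Fin s → ZMod q) = Pi.single i 1 := by
      funext k
      by_cases hk : k = i
      · subst hk; simp [lift, ZMod.val_one]
      · simp [lift, hk]
    have hzi : D.slot (Pi.single i 1) = D.z i := by
      show D.Z _ = _
      rw [hlb, D.Z_single, pow_one]
    obtain ⟨f, hf, ef⟩ := hS.conj (Pi.single i 1)
    rw [hzi] at ef
    rw [hid] at hf
    obtain ⟨m, e, ⟨κ, k, l, rfl, hl⟩, he, rfl⟩ := hf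
    obtain ⟨d, -, hd⟩ := D.Z_reduce l
    rw [hl, hlb, D.Z_single, pow_one] at hd
    have hm' : D.sc κ * (D.X k * D.Z l) = D.sc (κ * d) * (D.X k * D.z i) := by
      rw [hd, ← mul_assoc (D.X k), ← (D.commute_X_sc d k).eq, map_mul]
      simp only [mul_assoc]
    rw [hm'] at ef
    have hpair : ∀ c, c ∉ Z → c + Pi.single i 1 ∉ Z →
        D.sc (κ * d * D.ψ (dot (red q k) (c + Pi.single i 1))) (e a) = a := by
      intro c h1 h2
      obtain ⟨dc, hdc0, hdc⟩ := D.Z_reduce (Pi.single i 1 + lift c)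
      have hred : red q (Pi.single i 1 + lift c) = c + Pi.single i 1 := by
        rw [red_add, red_lift, red_single, Nat.cast_one, add_comm]
      rw [hred] at hdc
      have hzc : ∀ v, D.z i (D.slot c v) = D.sc dc (D.slot (c + Pi.single i 1) v) := by
        intro v
        have := congrArg (fun f : AddMonoid.End V => f v) hdc
        rw [D.Z_add, D.Z_single, pow_one] at this
        exact this
      have e1 := appG ef (D.slot c a)
      rw [hzc, comm_apply (hσ dc), fixS _ h2, fixS _ h1] at e1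
      have e2 : ((D.sc (κ * d) * (D.X k * D.z i)) * e) (D.slot c a) =
          D.sc dc (D.slot (c + Pi.single i 1)
            (D.sc (κ * d * D.ψ (dot (red q k) (c + Pi.single i 1))) (e a))) := by
        show D.sc (κ * d) (D.X k (D.z i (e (D.slot c a)))) = _
        rw [show e (D.slot c a) = D.slot c (e a) from comm_apply (hE.comm_Z he (lift c)) a, hzc,
          ← comm_apply (D.commute_X_sc dc k), D.X_slot _ _ (hE.mem_U he ha), slot_sc,
          ← D.sc_apply_mul, ← D.sc_apply_mul, ← D.sc_apply_mul]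
        congr 2
        ring
      rw [e2, ← sub_eq_zero, ← map_sub] at e1
      have e3 : D.slot (c + Pi.single i 1) a -
          D.slot (c + Pi.single i 1)
            (D.sc (κ * d * D.ψ (dot (red q k) (c + Pi.single i 1))) (e a)) = 0 := by
        by_contra hne
        exact hdc0 (D.sc_eq_zero e1 hne)
      rw [← map_sub] at e3
      exact (sub_eq_zero.1 (D.slot_injective _ e3)).symm
    obtain ⟨⟨c₀, h01, h02⟩, hpins⟩ := hZ i
    have ea := hpair c₀ h01 h02
    set r₀ : F := κ * d * D.ψ (dot (red q k) (c₀ + Pi.single i 1))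
    have hr0 : r₀ ≠ 0 := fun z => by
      rw [z, map_zero D.sc] at ea
      exact ha0 ea.symm
    have he' : e = D.sc r₀⁻¹ := hA e he _ (by conv_rhs => rw [← ea, D.sc_inv_apply hr0])
    have hpins' : red q k = 0 := by
      refine hpins (red q k) (dot (red q k) c₀) fun c h1 h2 => ?_
      have e1 := hpair c h1 h2
      rw [he', ← D.sc_apply_mul] at e1
      have e1' := D.sc_cancel (e1.trans (D.sc_one_apply a).symm) ha0
      have e2 : κ * d * D.ψ (dot (red q k) (c + Pi.single i 1)) = r₀ := by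
        field_simp at e1'
        linear_combination e1'
      have hκd : κ * d ≠ 0 := fun z => hr0 (by simp [r₀, z])
      have := D.ψ_injective (mul_left_cancel₀ hκd e2)
      rw [dot_add_right, dot_add_right] at this
      exact add_right_cancel this
    have hXone : D.X k = 1 := D.eq_of_slots fun c u hu => by
      rw [D.X_slot _ _ hu, hpins', show dot (0 : Fin s → ZMod q) c = 0 by simp [dot], D.ψ_zero,
        D.sc_one_apply]
      rfl
    have hr : κ * d * r₀⁻¹ = 1 := by
      have : r₀ = κ * d := by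
        simp only [r₀]
        rw [hpins', show dot (0 : Fin s → ZMod q) (c₀ + Pi.single i 1) = 0 by simp [dot], D.ψ_zero,
          mul_one]
      rw [← this, mul_inv_cancel₀ hr0]
    show G * D.z i = D.z i * G
    rw [ef, he', hXone, one_mul, mul_assoc (D.sc (κ * d)), ← (D.scz _ i).eq,
      ← mul_assoc (D.sc (κ * d)), ← map_mul, hr, map_one, one_mul]
  refine D.eq_of_slots fun c u hu => ?_
  have hc : Commute G (D.slot c) := by
    refine vec_induction (P := fun m => Commute G (D.Z m)) ?_ (fun a b ha hb => ?_) (fun i n => ?_) _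
    · rw [D.Z_zero]; exact Commute.one_right _
    · rw [D.Z_add]; exact ha.mul_right hb
    · rw [D.Z_single]; exact (hz i).pow_right n
  rw [comm_apply hc, hU u hu]
  rfl

/-- The product of the `q`-th powers of the shifts. -/
def Delta (D : Heis F V q s) (c : Fin s → ZMod q) : F := ∏ i, D.δ i ^ (c i).val

theorem Delta_ne_zero (D : Heis F V q s) (c : Fin s → ZMod q) : Delta D c ≠ 0 :=
  Finset.prod_ne_zero_iff.2 fun i _ => pow_ne_zero _ (D.hδ i)

/-- A power of the scalar in a slot is determined by the shift. -/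
theorem scalar_pow (hE : Ops D E) {a : V} (ha : a ∈ D.U) (ha0 : a ≠ 0) (hA : Eig D E a)
    {G : AddMonoid.End V} {h : (Fin s → ZMod q) →+ (Fin s → ZMod q)}
    {R : (Fin s → ZMod q) → AddMonoid.End V} (hS : Shift D E G h R) (hU : ∀ u ∈ D.U, G u = u)
    (hG : Function.Injective G) {t : ℕ} (ht : q ∣ t * (q + 1).choose 2) {c : Fin s → ZMod q} {μ : F}
    (hμ : R c a = D.sc μ a) :
    μ ^ (q * t) * Delta D (h c) ^ t = Delta D c ^ t := by
  classical
  obtain ⟨f, hf, ef⟩ := hS.conj c
  obtain ⟨m, e, ⟨κ, k, l, rfl, hl⟩, he, rfl⟩ := hf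
  obtain ⟨d, -, hd⟩ := D.Z_reduce l
  rw [hl] at hd
  set x : ZMod q := dot (red q k) (h c) with hx
  have hfe : D.sc κ * (D.X k * D.Z l) = D.sc (κ * d) * (D.X k * D.slot (h c)) := by
    show _ = D.sc (κ * d) * (D.X k * D.Z (lift (h c)))
    rw [hd, ← mul_assoc (D.X k), ← (D.commute_X_sc d k).eq, map_mul]
    simp only [mul_assoc]
  rw [hfe] at ef
  have e1 := appG ef a
  rw [hS.slot c a ha, hU a ha, hμ] at e1
  have e1' : D.slot (h c) (D.sc μ a) = D.slot (h c) (D.sc (κ * d * D.ψ x) (e a)) := by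
    refine e1.trans ?_
    show D.sc (κ * d) (D.X k (D.slot (h c) (e a))) = _
    rw [D.X_slot _ _ (hE.mem_U he ha), ← D.sc_apply_mul, slot_sc]
  rw [← sub_eq_zero, ← map_sub] at e1'
  have e2 := sub_eq_zero.1 (D.slot_injective _ e1')
  have hne : κ * d * D.ψ x ≠ 0 := fun z => by
    rw [z, map_zero D.sc] at e2
    have hμ0 : μ = 0 := D.sc_eq_zero e2 ha0
    have e3 := hS.slot c a ha
    rw [hU a ha, hμ, hμ0, map_zero D.sc] at e3
    have e5 : G (D.slot c a) = G 0 := (e3.trans (map_zero _)).trans (map_zero G).symm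
    exact ha0 (D.slot_injective c (hG e5))
  set η : F := κ * d * (μ / (κ * d * D.ψ x))
  have he' : e = D.sc (μ / (κ * d * D.ψ x)) := by
    refine hA e he _ ?_
    have := congrArg (D.sc (κ * d * D.ψ x)⁻¹) e2
    rw [D.sc_inv_apply hne, ← D.sc_apply_mul] at this
    rw [← this]
    congr 2
    rw [div_eq_inv_mul]
  have hf' : G * D.slot c = D.sc η * (D.X k * D.slot (h c)) * G := by
    rw [ef, he', mul_assoc (D.sc (κ * d)) _ (D.sc _),
      ← ((D.commute_X_sc (μ / (κ * d * D.ψ x)) k).mul_right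
        (commute_slot_sc D (μ / (κ * d * D.ψ x)) (h c))).eq,
      ← mul_assoc (D.sc (κ * d)), ← map_mul]
  -- powers
  have hpowG : ∀ n : ℕ, G * D.slot c ^ n = (D.sc η * (D.X k * D.slot (h c))) ^ n * G := by
    intro n
    induction n with
    | zero => rw [pow_zero, pow_zero, mul_one, one_mul]
    | succ n ih => rw [pow_succ', ← mul_assoc, hf', mul_assoc, ih, ← mul_assoc, ← pow_succ']
  have hsucc : ∀ n : ℕ, ((D.sc η * (D.X k * D.slot (h c))) ^ n) a =
      D.sc (η ^ n * D.ψ (((n + 1).choose 2 : ZMod q) * x)) (D.Z (n • lift (h c)) a) := by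
    intro n
    induction n with
    | zero =>
      rw [pow_zero, zero_smul, D.Z_zero]
      simp [D.ψ_zero]
    | succ n ih =>
      rw [pow_succ']
      show D.sc η (D.X k (D.Z (lift (h c)) (((D.sc η * (D.X k * D.slot (h c))) ^ n) a))) = _
      rw [ih, ← comm_apply (D.commute_Z_sc _ _),
        show D.Z (lift (h c)) (D.Z (n • lift (h c)) a) = D.Z ((n + 1) • lift (h c)) a by
          rw [succ_nsmul', D.Z_add]; rfl,
        ← comm_apply (D.commute_X_sc _ _), D.X_Z_fix _ _ ha, ← D.sc_apply_mul, ← D.sc_apply_mul]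
      congr 2
      have hred : dot (red q k) (red q ((n + 1) • lift (h c))) = ((n + 1 : ℕ) : ZMod q) * x := by
        have : red q ((n + 1) • lift (h c)) = fun j => ((n + 1 : ℕ) : ZMod q) * h c j := by
          funext j
          simp [red, lift]
        rw [this, hx]
        simp only [dot, Finset.mul_sum]
        exact Finset.sum_congr rfl fun j _ => by ring
      have hch : (n + 1 + 1).choose 2 = (n + 1) + (n + 1).choose 2 := by
        rw [Nat.choose_succ_succ (n + 1) 1, Nat.choose_one_right]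
      have hψ' : D.ψ (((n + 1 + 1).choose 2 : ℕ) * x) =
          D.ψ (((n + 1 : ℕ) : ZMod q) * x) * D.ψ (((n + 1).choose 2 : ℕ) * x) := by
        rw [← D.ψ_add, ← add_mul, ← Nat.cast_add, ← hch]
      rw [hred, pow_succ', hψ']
      ring
  have hZq : ∀ d' : Fin s → ZMod q, D.Z (q • lift d') = D.sc (Delta D d') := fun d' => by
    rw [show q • lift d' = fun i => q * lift d' i from rfl, D.Z_mul_q]
    rfl
  have hslotq : D.slot c ^ q = D.sc (Delta D c) := by
    rw [← hZq, show D.slot c = D.Z (lift c) from rfl]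
    have : ∀ n : ℕ, D.Z (lift c) ^ n = D.Z (n • lift c) := fun n => by
      induction n with
      | zero => rw [pow_zero, zero_smul, D.Z_zero]
      | succ n ih => rw [pow_succ', ih, succ_nsmul', D.Z_add]
    exact this q
  have key := congrArg (fun f : AddMonoid.End V => f a) (hpowG q)
  rw [hslotq] at key
  change G (D.sc (Delta D c) a) = ((D.sc η * (D.X k * D.slot (h c))) ^ q) (G a) at key
  rw [hU _ (D.sc_mem ha _), hU a ha, hsucc, hZq, ← D.sc_apply_mul] at key
  have key' := D.sc_cancel key ha0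
  have hψq : D.ψ x ^ q = 1 := by
    rw [CfsgLib.OddBase.Heis.ψ, ← pow_mul, mul_comm, pow_mul, D.hξ.pow_eq_one, one_pow]
  have hμη : μ = η * D.ψ x := by
    simp only [η]
    rw [show κ * d * (μ / (κ * d * D.ψ x)) * D.ψ x = κ * d * D.ψ x * (μ / (κ * d * D.ψ x)) by ring,
      mul_div_cancel₀ _ hne]
  have hψt : D.ψ (((q + 1).choose 2 : ZMod q) * x) ^ t = 1 := by
    have : ∀ n : ℕ, D.ψ (((q + 1).choose 2 : ZMod q) * x) ^ n =
        D.ψ (((n * (q + 1).choose 2 : ℕ) : ZMod q) * x) := by
      intro n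
      induction n with
      | zero => simp [D.ψ_zero]
      | succ n ih =>
        rw [pow_succ, ih, ← D.ψ_add]
        congr 1
        push_cast
        ring
    rw [this, (ZMod.natCast_eq_zero_iff _ q).2 ht, zero_mul, D.ψ_zero]
  rw [key', mul_pow (η ^ q * _), mul_pow (η ^ q), hψt, mul_one, pow_mul, hμη, mul_pow, hψq,
    mul_one]

end CfsgLib.CoprimeBase
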