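import Cfsg.Agent.Lib.CoprimeBase.Model
import Cfsg.Agent.Lib.CoprimeBase.Bits
import Cfsg.Agent.Lib.CoprimeBase.Mono

/-!
# Two pairs and a small fixed space realise the model
-/

set_option autoImplicit false

universe u

namespace CfsgLib.CoprimeBase

open CfsgLib.OddBase (Heis)
open CfsgLib.OddBase.Heis (red lift dot vec_induction red_single red_lift dot_single_left comm_apply)
open Model (Op Cfg)

variable {F : Type u} [Field F] {V : Type u} [AddCommGroup V]

theorem nsmul_eq_sc (σ : F →+* AddMonoid.End V) (n : ℕ) (w : V) : n • w = σ (n : F) w := by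
  rw [map_natCast]
  exact (AddMonoid.End.natCast_apply n w).symm

/-- An extra operator by its index. -/
def kk (u v : AddMonoid.End V) (i : ℕ) : AddMonoid.End V :=
  (if i.testBit 0 then u else 1) * (if i.testBit 1 then v else 1)

variable (D : Heis F V 2 2)

/-- A product of diagonal operators by its index. -/
def bx (k : ℕ) : AddMonoid.End V :=
  (if k.testBit 0 then D.x 0 else 1) * (if k.testBit 1 then D.x 1 else 1)

/-- A product of shifting operators by its index. -/
def bz (l : ℕ) : AddMonoid.End V :=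
  (if l.testBit 0 then D.z 0 else 1) * (if l.testBit 1 then D.z 1 else 1)

/-- The operator of the space belonging to an operator of the model. -/
def realV (u v : AddMonoid.End V) (o : Op) : AddMonoid.End V :=
  D.sc (o.1 : F) * (bx D o.2.2.1 * (bz D o.2.2.2 * kk u v o.2.1))

/-- The basis. -/
noncomputable def basV (a : V) (u : AddMonoid.End V) (e j : ℕ) : V :=
  D.slot (bitVec 2 (j / e)) (if j % e = 0 then a else u a)

/-- The space has the shape of the model. -/
structure Std (C : Cfg) (a : V) (u v : AddMonoid.End V) : Prop where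
  hp : C.p.Prime
  charP : CharP F C.p
  cardF : Nat.card F = C.p
  he : C.e = 1 ∨ C.e = 2
  d0 : D.δ 0 = (C.d0 : F)
  d1 : D.δ 1 = (C.d1 : F)
  ha : a ∈ D.U
  ha0 : a ≠ 0
  plane : C.e = 2 → (∀ c, Commute u (D.slot c)) ∧ (∀ c, Commute v (D.slot c)) ∧ u a ∈ D.U ∧
    u (u a) = -a ∧ v a = a + u a ∧ v (u a) = a - u a ∧ ∀ r, u a ≠ D.sc r a

variable {D} {C : Cfg} {a : V} {u v : AddMonoid.End V}

namespace Std

variable (hS : Std D C a u v)

include hS

theorem p_pos : 0 < C.p := hS.hp.pos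

theorem exp (w : V) : C.p • w = 0 := by
  haveI := hS.charP
  rw [nsmul_eq_sc D.sc, CharP.cast_eq_zero, map_zero]
  rfl

theorem cast_mod (n : ℕ) : ((n % C.p : ℕ) : F) = (n : F) := by
  haveI := hS.charP
  exact (CharP.cast_eq_mod F C.p n).symm

theorem cast_sub {n : ℕ} (hn : n ≤ C.p) : ((C.p - n : ℕ) : F) = -(n : F) := by
  haveI := hS.charP
  rw [Nat.cast_sub hn, CharP.cast_eq_zero, zero_sub]

theorem exists_natCast (r : F) : ∃ n < C.p, (n : F) = r := by
  haveI := hS.charP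
  haveI : Fact C.p.Prime := ⟨hS.hp⟩
  haveI : Finite F := Nat.finite_of_card_ne_zero (hS.cardF ▸ hS.hp.ne_zero)
  haveI : Fintype F := Fintype.ofFinite F
  have hinj : Function.Injective fun n : Fin C.p => ((n : ℕ) : F) := fun n m e =>
    Fin.ext ((CharP.natCast_injOn_Iio F C.p) n.2 m.2 e)
  obtain ⟨n, hn⟩ := (Function.Injective.bijective_of_nat_card_le hinj
    (by rw [hS.cardF, Nat.card_fin])).2 r
  exact ⟨n, n.2, hn⟩

theorem bit_lt {j : ℕ} (hj : j < C.N) : j / C.e < 4 := by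
  rw [Cfg.N] at hj
  rcases hS.he with e | e <;> rw [e] at hj ⊢ <;> omega

theorem mem_U (j : ℕ) : (if j % C.e = 0 then a else u a) ∈ D.U := by
  split
  · exact hS.ha
  · rename_i h
    rcases hS.he with e | e
    · rw [e] at h
      exact absurd (Nat.mod_one j) h
    · exact (hS.plane e).2.2.1

theorem monomial_val (G : AddMonoid.End V) (π : ℕ → ℕ)
    (hπ : ∀ j < C.N, π j < C.N ∧ π (π j) = j) (n : ℕ → F)
    (hG : ∀ j < C.N, G (basV D a u C.e j) = D.sc (n j) (basV D a u C.e (π j)))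
    (x : List ℕ) (g : ℕ → ℕ) (hg : ∀ i < C.N, (g i : F) = (x.getD (π i) 0 : F) * n (π i)) :
    G (C.val (basV D a u C.e) x) = C.val (basV D a u C.e) ((List.range C.N).map g) := by
  rw [C.val_map, Cfg.val, map_sum]
  refine Finset.sum_nbij' π π (fun j hj => Finset.mem_range.2 (hπ j (Finset.mem_range.1 hj)).1)
    (fun j hj => Finset.mem_range.2 (hπ j (Finset.mem_range.1 hj)).1)
    (fun j hj => (hπ j (Finset.mem_range.1 hj)).2) (fun j hj => (hπ j (Finset.mem_range.1 hj)).2)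
    fun j hj => ?_
  obtain ⟨h1, h2⟩ := hπ j (Finset.mem_range.1 hj)
  rw [map_nsmul, hG j (Finset.mem_range.1 hj), nsmul_eq_sc D.sc, ← D.sc_apply_mul,
    nsmul_eq_sc D.sc, hg _ h1, h2]

theorem xg_val (i : Fin 2) {x : List ℕ} (hx : C.IsVec x) :
    D.x i (C.val (basV D a u C.e) x) = C.val (basV D a u C.e) (C.xg i x) := by
  refine hS.monomial_val (D.x i) id (fun j hj => ⟨hj, rfl⟩)
    (fun j => if (j / C.e).testBit i then -1 else 1) (fun j _ => ?_) x _ fun j hj => ?_
  · show D.x i (D.slot _ _) = D.sc _ (D.slot _ _)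
    rw [show D.x i = D.X (Pi.single i 1) by rw [D.X_single, pow_one], D.X_slot _ _ (hS.mem_U j),
      red_single, dot_single_left, Nat.cast_one, one_mul]
    congr 2
    by_cases h : (j / C.e).testBit i
    · simp [bitVec, h, CfsgLib.OddBase.Heis.ψ, D.hξ.eq_neg_one_of_two_right, ZMod.val_one]
    · simp [bitVec, h, CfsgLib.OddBase.Heis.ψ]
  · have hlt := C.getD_lt hS.p_pos hx j
    by_cases h : (j / C.e).testBit i
    · simp only [h, if_true, id_eq]
      rw [hS.cast_mod, hS.cast_sub hlt.le]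
      ring
    · simp [h]

theorem z_slot (i : Fin 2) (c : Fin 2 → ZMod 2) (w : V) :
    D.z i (D.slot c w) = D.sc (if c i = 0 then 1 else D.δ i) (D.slot (c + Pi.single i 1) w) := by
  have h0 : ∀ c : Fin 2 → ZMod 2, c i = 0 → ∀ w, D.z i (D.slot c w) = D.slot (c + Pi.single i 1) w := by
    intro c hc w
    have hl : ∀ (i : Fin 2) (c : Fin 2 → ZMod 2), c i = 0 →
        (Pi.single i 1 + lift c : Fin 2 → ℕ) = lift (c + Pi.single i 1) := by decide
    show D.z i (D.Z (lift c) w) = D.Z _ w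
    rw [← hl i c hc, D.Z_add, D.Z_single, pow_one]
    rfl
  by_cases hc : c i = 0
  · rw [if_pos hc, D.sc_one_apply, h0 c hc]
  · rw [if_neg hc]
    have h1 : ∀ x : ZMod 2, x ≠ 0 → x + 1 = 0 := by decide
    have hc' : (c + (Pi.single i 1 : Fin 2 → ZMod 2)) i = 0 := by simpa using h1 _ hc
    have hcc : c + (Pi.single i 1 : Fin 2 → ZMod 2) + Pi.single i 1 = c := by
      rw [add_assoc, CharTwo.add_self_eq_zero, add_zero]
    conv_lhs => rw [← hcc, ← h0 _ hc']
    show (D.z i * D.z i) _ = _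
    rw [← pow_two, D.zq]

theorem zg_val (i : Fin 2) {x : List ℕ} (hx : C.IsVec x) :
    D.z i (C.val (basV D a u C.e) x) = C.val (basV D a u C.e) (C.zg i x) := by
  let π : ℕ → ℕ := fun j => ((j / C.e) ^^^ 2 ^ (i : ℕ)) * C.e + j % C.e
  have hπ' : ∀ (e : ℕ), (e = 1 ∨ e = 2) → ∀ (i : Fin 2), ∀ j < 4 * e,
      ((j / e) ^^^ 2 ^ (i : ℕ)) * e + j % e < 4 * e ∧
      (((j / e) ^^^ 2 ^ (i : ℕ)) * e + j % e) / e = (j / e) ^^^ 2 ^ (i : ℕ) ∧
      (((j / e) ^^^ 2 ^ (i : ℕ)) * e + j % e) % e = j % e ∧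
      ((((j / e) ^^^ 2 ^ (i : ℕ)) ^^^ 2 ^ (i : ℕ)) * e + j % e = j) ∧
      (((j / e) ^^^ 2 ^ (i : ℕ)).testBit i = !(j / e).testBit i) := by
    rintro e (rfl | rfl) <;> decide
  have hπ := hπ' C.e hS.he i
  refine hS.monomial_val (D.z i) π (fun j hj => ?_)
    (fun j => if (j / C.e).testBit i then D.δ i else 1) (fun j hj => ?_) x _ fun j hj => ?_
  · obtain ⟨h1, h2, h3, h4, -⟩ := hπ j hj
    refine ⟨h1, ?_⟩
    show ((π j / C.e) ^^^ 2 ^ (i : ℕ)) * C.e + π j % C.e = j
    rw [h2, h3, h4]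
  · obtain ⟨-, h2, h3, -, -⟩ := hπ j hj
    show D.z i (D.slot _ _) = D.sc _ (D.slot (bitVec 2 (π j / C.e)) (if π j % C.e = 0 then a else u a))
    rw [h2, h3, hS.z_slot, bitVec_xor, bitVec_two_pow]
    congr 2
    by_cases h : (j / C.e).testBit i <;> simp [bitVec, h]
  · obtain ⟨-, h2, -, -, h5⟩ := hπ j hj
    have hbit : (π j / C.e).testBit i = !(j / C.e).testBit i := by
      show ((((j / C.e) ^^^ 2 ^ (i : ℕ)) * C.e + j % C.e) / C.e).testBit i = _
      rw [h2, h5]
    simp only [π] at hbit ⊢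
    rw [hbit]
    by_cases h : (j / C.e).testBit i
    · simp [h]
    · simp only [h, if_false, Bool.not_false, if_true, Bool.false_eq_true]
      rw [hS.cast_mod, Nat.cast_mul]
      fin_cases i <;> simp [hS.d0, hS.d1]

theorem ug_val (h2 : C.e = 2) {x : List ℕ} (hx : C.IsVec x) :
    u (C.val (basV D a u C.e) x) = C.val (basV D a u C.e) (C.ug x) := by
  obtain ⟨hu, -, -, huu, -, -, -⟩ := hS.plane h2
  have hN : C.N = 8 := by rw [Cfg.N, h2]
  refine hS.monomial_val u (fun j => if j % 2 = 0 then j + 1 else j - 1) (fun j hj => ?_)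
    (fun j => if j % 2 = 0 then 1 else -1) (fun j hj => ?_) x _ fun j hj => ?_
  · split_ifs with h1 h3 h3 <;> omega
  · show u (D.slot _ _) = D.sc _ (D.slot _ _)
    rw [h2, comm_apply (hu _)]
    by_cases h : j % 2 = 0
    · simp [h, show (j + 1) / 2 = j / 2 by omega, show (j + 1) % 2 = 1 by omega]
    · simp only [h, if_false, show (j - 1) / 2 = j / 2 by omega, show (j - 1) % 2 = 0 by omega,
        if_true, huu, map_neg, map_one]
      rfl
  · have hlt := C.getD_lt hS.p_pos hx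
    by_cases h : j % 2 = 0
    · simp only [h, if_true, show (j + 1) % 2 = 1 by omega, one_ne_zero, if_false]
      rw [hS.cast_mod, hS.cast_sub (hlt _).le]
      ring
    · simp [h, show (j - 1) % 2 = 0 by omega]

theorem vg_val (h2 : C.e = 2) {x : List ℕ} (hx : C.IsVec x) :
    v (C.val (basV D a u C.e) x) = C.val (basV D a u C.e) (C.vg x) := by
  obtain ⟨-, hv, -, -, hva, hvu, -⟩ := hS.plane h2
  have hN : C.N = 4 * 2 := by rw [Cfg.N, h2]
  have hpair : ∀ (m : ℕ) (f : ℕ → V),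
      ∑ j ∈ Finset.range (m * 2), f j = ∑ c ∈ Finset.range m, (f (2 * c) + f (2 * c + 1)) := by
    intro m f
    induction m with
    | zero => simp
    | succ m ih =>
      rw [Finset.sum_range_succ _ m, ← ih, add_mul, one_mul, Finset.sum_range_succ,
        Finset.sum_range_succ, mul_comm m 2, add_assoc]
  rw [Cfg.vg, C.val_map, Cfg.val, map_sum, hN, hpair, hpair]
  refine Finset.sum_congr rfl fun c _ => ?_
  set A := basV D a u C.e (2 * c) with hA
  set B := basV D a u C.e (2 * c + 1) with hB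
  have hvA : v A = A + B := by
    rw [hA, hB, basV, basV, h2, comm_apply (hv _)]
    simp [show (2 * c + 1) / 2 = c by omega, show (2 * c + 1) % 2 = 1 by omega, hva]
  have hvB : v B = A - B := by
    rw [hA, hB, basV, basV, h2, comm_apply (hv _)]
    simp [show (2 * c + 1) / 2 = c by omega, show (2 * c + 1) % 2 = 1 by omega, hvu]
  have hlt := C.getD_lt hS.p_pos hx
  simp only [Nat.mul_mod_right, show (2 * c + 1) % 2 = 1 by omega, if_true, one_ne_zero, if_false,
    show 2 * c + 1 - 1 = 2 * c by omega]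
  rw [map_nsmul, map_nsmul, hvA, hvB]
  simp only [nsmul_eq_sc D.sc, hS.cast_mod, Nat.add_sub_assoc (hlt _).le, Nat.cast_add,
    hS.cast_sub (hlt _).le, map_add, map_neg, AddMonoidHom.add_apply]
  simp only [show ∀ (f : AddMonoid.End V) (w : V), (-f) w = -(f w) from fun f w => rfl,
    show ∀ (f g : AddMonoid.End V) (w : V), (f + g) w = f w + g w from fun f g w => rfl, map_sub]
  abel

theorem scale_val (r : ℕ) {x : List ℕ} (hx : C.IsVec x) :
    D.sc (r : F) (C.val (basV D a u C.e) x) = C.val (basV D a u C.e) (C.scale r x) := by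
  have e : C.scale r x = (List.range C.N).map fun j => r * x.getD j 0 % C.p := by
    refine List.ext_getElem (by simp [Cfg.scale, hx.1]) fun j h1 h2 => ?_
    have hj : j < x.length := by simpa [Cfg.scale] using h1
    simp [Cfg.scale, List.getD_eq_getElem?_getD, hj]
  rw [e]
  exact hS.monomial_val (D.sc (r : F)) id (fun j hj => ⟨hj, rfl⟩) (fun _ => (r : F))
    (fun j _ => rfl) x _ fun j _ => by rw [hS.cast_mod, Nat.cast_mul, id_eq, mul_comm]

theorem isVec_step {x : List ℕ} (hx : C.IsVec x) (i : ℕ) :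
    C.IsVec (C.xg i x) ∧ C.IsVec (C.zg i x) ∧ C.IsVec (C.ug x) ∧ C.IsVec (C.vg x) := by
  have hp := hS.p_pos
  refine ⟨C.isVec_map_range _ fun j _ => ?_, C.isVec_map_range _ fun j _ => ?_,
    C.isVec_map_range _ fun j _ => ?_, C.isVec_map_range _ fun j _ => ?_⟩
  · split
    exacts [Nat.mod_lt _ hp, C.getD_lt hp hx _]
  · split
    exacts [C.getD_lt hp hx _, Nat.mod_lt _ hp]
  · split
    exacts [Nat.mod_lt _ hp, C.getD_lt hp hx _]
  · split <;> exact Nat.mod_lt _ hp

theorem mem_ops {o : Op} : o ∈ C.ops ↔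
    1 ≤ o.1 ∧ o.1 < C.p ∧ o.2.1 < C.e * C.e ∧ o.2.2.1 < 4 ∧ o.2.2.2 < 4 := by
  obtain ⟨r, i, k, l⟩ := o
  have := hS.p_pos
  simp only [Cfg.ops, List.mem_flatMap, List.mem_map, List.mem_range'_1, List.mem_range,
    Prod.mk.injEq]
  constructor
  · rintro ⟨r', hr, i', hi, k', hk, l', hl, rfl, rfl, rfl, rfl⟩
    exact ⟨hr.1, by omega, hi, hk, hl⟩
  · rintro ⟨h1, h2, h3, h4, h5⟩
    exact ⟨r, ⟨h1, by omega⟩, i, h3, k, h4, l, h5, rfl, rfl, rfl, rfl⟩

theorem op_val {o : Op} (ho : o ∈ C.ops) {x : List ℕ} (hx : C.IsVec x) :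
    realV D u v o (C.val (basV D a u C.e) x) = C.val (basV D a u C.e) (C.op o x) := by
  obtain ⟨-, -, hi, -, -⟩ := hS.mem_ops.1 ho
  obtain ⟨r, i, k, l⟩ := o
  have hE : C.IsVec (C.eApp i x) ∧
      kk u v i (C.val (basV D a u C.e) x) = C.val (basV D a u C.e) (C.eApp i x) := by
    rcases hS.he with e | e
    · simp only [e, mul_one, Nat.lt_one_iff] at hi
      subst hi
      simp [kk, Cfg.eApp, hx]
    · simp only [Cfg.eApp, kk]
      have h2 := (hS.isVec_step hx 0).2.2.2
      cases i.testBit 1 <;> cases i.testBit 0 <;>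
        simp only [Bool.false_eq_true, if_false, if_true, one_mul, mul_one]
      exacts [⟨hx, rfl⟩, ⟨(hS.isVec_step hx 0).2.2.1, hS.ug_val e hx⟩, ⟨h2, hS.vg_val e hx⟩,
        ⟨(hS.isVec_step h2 0).2.2.1, (congrArg u (hS.vg_val e hx)).trans (hS.ug_val e h2)⟩]
  have hZ : ∀ y, C.IsVec y → C.IsVec (C.zApp l y) ∧
      bz D l (C.val (basV D a u C.e) y) = C.val (basV D a u C.e) (C.zApp l y) := by
    intro y hy
    simp only [Cfg.zApp, bz]
    have h2 := (hS.isVec_step hy 1).2.1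
    cases l.testBit 1 <;> cases l.testBit 0 <;>
      simp only [Bool.false_eq_true, if_false, if_true, one_mul, mul_one]
    exacts [⟨hy, rfl⟩, ⟨(hS.isVec_step hy 0).2.1, hS.zg_val 0 hy⟩, ⟨h2, hS.zg_val 1 hy⟩,
      ⟨(hS.isVec_step h2 0).2.1, (congrArg (D.z 0) (hS.zg_val 1 hy)).trans (hS.zg_val 0 h2)⟩]
  have hX : ∀ y, C.IsVec y → C.IsVec (C.xApp k y) ∧
      bx D k (C.val (basV D a u C.e) y) = C.val (basV D a u C.e) (C.xApp k y) := by
    intro y hy
    simp only [Cfg.xApp, bx]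
    have h2 := (hS.isVec_step hy 1).1
    cases k.testBit 1 <;> cases k.testBit 0 <;>
      simp only [Bool.false_eq_true, if_false, if_true, one_mul, mul_one]
    exacts [⟨hy, rfl⟩, ⟨(hS.isVec_step hy 0).1, hS.xg_val 0 hy⟩, ⟨h2, hS.xg_val 1 hy⟩,
      ⟨(hS.isVec_step h2 0).1, (congrArg (D.x 0) (hS.xg_val 1 hy)).trans (hS.xg_val 0 h2)⟩]
  obtain ⟨hv1, e1⟩ := hE
  obtain ⟨hv2, e2⟩ := hZ _ hv1
  obtain ⟨hv3, e3⟩ := hX _ hv2
  show D.sc (r : F) (bx D k (bz D l (kk u v i (C.val (basV D a u C.e) x)))) = _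
  rw [e1, e2, e3, hS.scale_val r hv3]
  rfl

theorem val_inj {x y : List ℕ} (hx : C.IsVec x) (hy : C.IsVec y)
    (e : C.val (basV D a u C.e) x = C.val (basV D a u C.e) y) : x = y := by
  classical
  have hproj : ∀ c < 4, ∀ z : List ℕ, D.proj (bitVec 2 c) (C.val (basV D a u C.e) z) =
      D.slot (bitVec 2 c) (∑ k ∈ Finset.range C.e,
        D.sc (z.getD (c * C.e + k) 0 : F) (if k = 0 then a else u a)) := by
    intro c hc z
    have hb : ∀ j < C.N, D.proj (bitVec 2 c) (basV D a u C.e j) =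
        if j / C.e = c then basV D a u C.e j else 0 := by
      intro j hj
      rw [basV, D.proj_slot _ _ (hS.mem_U j)]
      by_cases h : j / C.e = c
      · rw [if_pos h, if_pos (by rw [h])]
      · rw [if_neg h, if_neg fun he => h (bitVec_injOn (hS.bit_lt hj) hc he)]
    show D.projHom _ (C.val _ z) = _
    rw [Cfg.val, map_sum, map_sum]
    refine (Finset.sum_congr rfl fun j hj => ?_).trans
      (b := ∑ j ∈ Finset.range C.N, z.getD j 0 • (if j / C.e = c then basV D a u C.e j else 0)) ?_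
    · rw [map_nsmul, show D.projHom (bitVec 2 c) (basV D a u C.e j) = _ from
        hb j (Finset.mem_range.1 hj)]
    simp only [nsmul_eq_sc D.sc]
    have : ∀ (n : ℕ) (r : F) (w : V), D.slot (bitVec 2 n) (D.sc r w) =
        D.sc r (D.slot (bitVec 2 n) w) := fun n r w => slot_sc D r _ w
    rw [Cfg.N]
    rcases hS.he with h | h <;> rw [h] <;> interval_cases c <;>
      simp [Finset.sum_range_succ, basV, this]
  have hind : ∀ f : ℕ → F,
      ∑ k ∈ Finset.range C.e, D.sc (f k) (if k = 0 then a else u a) = 0 → ∀ k < C.e, f k = 0 := by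
    intro f hf k hk
    rcases hS.he with h | h <;> rw [h] at hf hk
    · rw [Finset.sum_range_one, if_pos rfl] at hf
      obtain rfl : k = 0 := by omega
      exact D.sc_eq_zero hf hS.ha0
    · obtain ⟨-, -, -, -, -, -, hne⟩ := hS.plane h
      rw [Finset.sum_range_succ, Finset.sum_range_one, if_pos rfl, if_neg one_ne_zero] at hf
      have h1 : f 1 = 0 := by
        by_contra h1
        refine hne (-(f 0) / f 1) ?_
        have e1 := congrArg (D.sc (f 1)⁻¹) (eq_neg_of_add_eq_zero_right hf)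
        rw [D.sc_inv_apply h1, map_neg, ← D.sc_apply_mul] at e1
        rw [e1, show -(f 0) / f 1 = -((f 1)⁻¹ * f 0) by ring, map_neg]
        rfl
      rw [h1, map_zero, show (0 : AddMonoid.End V) (u a) = 0 from rfl, add_zero] at hf
      interval_cases k
      exacts [D.sc_eq_zero hf hS.ha0, h1]
  haveI := hS.charP
  refine List.ext_getElem (hx.1.trans hy.1.symm) fun j h1 h2 => ?_
  have hj : j < C.N := hx.1 ▸ h1
  have he1 : 0 < C.e := by rcases hS.he with h | h <;> omega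
  have e' := congrArg (D.proj (bitVec 2 (j / C.e))) e
  rw [hproj _ (hS.bit_lt hj), hproj _ (hS.bit_lt hj), ← sub_eq_zero, ← map_sub,
    ← Finset.sum_sub_distrib] at e'
  have e2 := hind (fun k => (x.getD (j / C.e * C.e + k) 0 : F) - (y.getD (j / C.e * C.e + k) 0 : F)) (by
    rw [← D.slot_injective _ e']
    refine Finset.sum_congr rfl fun k _ => ?_
    rw [map_sub]
    rfl) (j % C.e) (Nat.mod_lt _ he1)
  rw [Nat.div_add_mod'] at e2
  simpa [List.getD_eq_getElem?_getD, h1, h2] using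
    (CharP.natCast_injOn_Iio F C.p) (C.getD_lt hS.p_pos hx j) (C.getD_lt hS.p_pos hy j)
      (sub_eq_zero.1 e2)

theorem val_ne_zero {x : List ℕ} (hx : C.IsVec x) (h : C.scale 0 x ≠ x) :
    C.val (basV D a u C.e) x ≠ 0 := by
  intro e
  refine h (hS.val_inj ⟨by simp [Cfg.scale, hx.1], fun w hw => ?_⟩ hx ?_)
  · obtain ⟨w', -, rfl⟩ := List.mem_map.1 hw
    exact Nat.mod_lt _ hS.p_pos
  · rw [← hS.scale_val 0 hx, Nat.cast_zero, map_zero, e]
    rfl

theorem isVec_scale {x : List ℕ} (hx : C.IsVec x) (r : ℕ) : C.IsVec (C.scale r x) := by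
  refine ⟨by simp [Cfg.scale, hx.1], fun w hw => ?_⟩
  obtain ⟨w', -, rfl⟩ := List.mem_map.1 hw
  exact Nat.mod_lt _ hS.p_pos

/-- Every monomial times an extra operator is a listed one. -/
theorem exists_op (k l : Fin 2 → ℕ) (r : F) {i : ℕ} (hi : i < C.e * C.e) :
    D.sc r * (D.X k * (D.Z l * kk u v i)) = 0 ∨
      ∃ o ∈ C.ops, D.sc r * (D.X k * (D.Z l * kk u v i)) = realV D u v o := by
  have hlift : ∀ c : Fin 2 → ZMod 2, lift c = Pi.single 0 (c 0).val + Pi.single 1 (c 1).val := by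
    decide
  have hX : ∃ k' < 4, D.X k = bx D k' := by
    have e : D.X k = D.X (lift (red 2 k)) := D.eq_of_slots fun c w hw => by
      rw [D.X_slot _ _ hw, D.X_slot _ _ hw, red_lift]
    rw [e, hlift, D.X_add, D.X_single, D.X_single]
    have h01 : ∀ x : ZMod 2, x = 0 ∨ x = 1 := by decide
    rcases h01 (red 2 k 0) with h | h <;> rcases h01 (red 2 k 1) with h' | h' <;> rw [h, h']
    exacts [⟨0, by norm_num, by simp [bx]⟩, ⟨2, by norm_num, by simp [bx, Nat.testBit, ZMod.val_one]⟩,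
      ⟨1, by norm_num, by simp [bx, Nat.testBit, ZMod.val_one]⟩,
      ⟨3, by norm_num, by simp [bx, Nat.testBit, ZMod.val_one]⟩]
  have hZ : ∀ m : Fin 2 → ZMod 2, ∃ l' < 4, D.Z (lift m) = bz D l' := by
    intro m
    rw [hlift, D.Z_add, D.Z_single, D.Z_single]
    have h01 : ∀ x : ZMod 2, x = 0 ∨ x = 1 := by decide
    rcases h01 (m 0) with h | h <;> rcases h01 (m 1) with h' | h' <;> rw [h, h']
    exacts [⟨0, by norm_num, by simp [bz]⟩, ⟨2, by norm_num, by simp [bz, Nat.testBit, ZMod.val_one]⟩,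
      ⟨1, by norm_num, by simp [bz, Nat.testBit, ZMod.val_one]⟩,
      ⟨3, by norm_num, by simp [bz, Nat.testBit, ZMod.val_one]⟩]
  obtain ⟨k', hk', hX⟩ := hX
  obtain ⟨d, -, hd⟩ := D.Z_reduce l
  obtain ⟨l', hl', hl⟩ := hZ (red 2 l)
  have e : D.sc r * (D.X k * (D.Z l * kk u v i)) =
      D.sc (r * d) * (bx D k' * (bz D l' * kk u v i)) := by
    rw [hd, hl, ← hX, map_mul, mul_assoc (D.sc d), ← mul_assoc (D.X k), ← (D.commute_X_sc d k).eq]
    simp only [mul_assoc]
  obtain ⟨n, hn, hn'⟩ := hS.exists_natCast (r * d)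
  rw [e, ← hn']
  rcases Nat.eq_zero_or_pos n with rfl | h0
  · left
    rw [Nat.cast_zero, map_zero, zero_mul]
  · exact Or.inr ⟨(n, i, k', l'), hS.mem_ops.2 ⟨h0, hn, hi, hk', hl'⟩, rfl⟩

end Std

end CfsgLib.CoprimeBase
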