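import Cfsg.Agent.Lib.CoprimeBase.Mono
import Cfsg.Agent.Lib.CoprimeBase.PeelModel
import Cfsg.Agent.Lib.SolBase.Small

/-!
# Small counting facts and the extra operators of a plane
-/

set_option autoImplicit false

universe u

namespace CfsgLib.CoprimeBase

open CfsgLib.OddBase (Heis)

/-- The ring endomorphisms of a finite field are no more than its degree. -/
theorem card_ringHom_le {F : Type*} [Field F] [Finite F] (p : ℕ) [hp : Fact p.Prime] [CharP F p]
    {n : ℕ} (hn : Nat.card F = p ^ n) : Nat.card (F →+* F) ≤ n := by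
  letI : Algebra (ZMod p) F := ZMod.algebra F p
  haveI : Module.Finite (ZMod p) F := Module.Finite.of_finite
  have hfr : Module.finrank (ZMod p) F = n := by
    have h := Module.natCard_eq_pow_finrank (K := ZMod p) (V := F)
    rw [hn, Nat.card_zmod] at h
    exact (Nat.pow_right_injective hp.out.two_le h).symm
  let f : (F →+* F) → (F ≃ₐ[ZMod p] F) := fun α =>
    AlgEquiv.ofRingEquiv (f := RingEquiv.ofBijective α
      (Finite.injective_iff_bijective.1 α.injective)) fun r => by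
      show α (algebraMap (ZMod p) F r) = algebraMap (ZMod p) F r
      exact RingHom.congr_fun (Subsingleton.elim (α.comp (algebraMap (ZMod p) F))
        (algebraMap (ZMod p) F)) r
  have hf : Function.Injective f := fun α β e => RingHom.ext fun x =>
    congrArg (fun g : F ≃ₐ[ZMod p] F => g x) e
  haveI : Finite (F ≃ₐ[ZMod p] F) := Finite.of_injective (fun g => (g : F → F)) DFunLike.coe_injective
  refine (Nat.card_le_card_of_injective f hf).trans ?_
  rw [@Nat.card_eq_fintype_card _ (AlgEquiv.fintype (ZMod p) F), ← hfr]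
  exact AlgEquiv.card_le (F := ZMod p) (K := F)

variable {F : Type u} [Field F] {V : Type u} [AddCommGroup V] {q s : ℕ} [hq : Fact q.Prime]
  {D : Heis F V q s} {E : Submonoid (AddMonoid.End V)}

/-- A fixed space larger than two orbits gives three vectors in different orbits. -/
theorem exists_three_vectors [Finite V] (hE : Ops D E) (hEig : ∀ x : V, x ≠ 0 → Eig D E x)
    (hsq : ∀ f ∈ E, ∃ γ, f * f = D.sc γ) {a : V} (ha : a ∈ D.U) (ha0 : a ≠ 0) {m : ℕ} [Finite E]
    (hm : Nat.card E ≤ m) (hU : 2 * m < Nat.card D.U) :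
    ∃ v : Fin 3 → V, (∀ j, v j ∈ D.U) ∧ (∀ j, v j ≠ 0) ∧
      ∀ j k, ∀ f ∈ E, f (v j) = v k → j = k := by
  classical
  let orb : V → Set V := fun x => Set.range fun f : E => (f : AddMonoid.End V) x
  have hcard : ∀ x, (orb x).ncard ≤ m := fun x => by
    rw [← Nat.card_coe_set_eq]
    exact (Finite.card_range_le _).trans hm
  have hfin : ∀ S : Set V, S.Finite := fun S => Set.toFinite S
  have hbig : ∀ S : Set V, S.ncard ≤ 2 * m → ∃ y ∈ D.U, y ∉ S := by
    intro S hS
    by_contra h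
    push Not at h
    have := Set.ncard_le_ncard (s := (D.U : Set V)) h (hfin S)
    rw [← Nat.card_coe_set_eq] at this
    exact absurd (hU.trans_le this) (by omega)
  obtain ⟨y, hy, hya⟩ := hbig (orb a) ((hcard a).trans (by omega))
  obtain ⟨z, hz, hzn⟩ := hbig (orb a ∪ orb y)
    ((Set.ncard_union_le _ _).trans (by have := hcard a; have := hcard y; omega))
  rw [Set.mem_union, not_or] at hzn
  have hzero : ∀ x, (0 : V) ∈ orb x := fun x => ⟨⟨D.sc 0, hE.scal 0⟩, by
    show D.sc 0 x = 0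
    rw [map_zero]; rfl⟩
  have hy0 : y ≠ 0 := fun e => hya (e ▸ hzero a)
  have hz0 : z ≠ 0 := fun e => hzn.1 (e ▸ hzero a)
  have hrev : ∀ x w, x ≠ 0 → w ∉ orb x → ∀ f ∈ E, f w ≠ x := by
    intro x w hx hw f hf e
    obtain ⟨γ, hγ⟩ := hsq f hf
    have e2 : f x = D.sc γ w := by
      rw [← e, ← hγ]; rfl
    have hγ0 : γ ≠ 0 := by
      rintro rfl
      have h0 : f = D.sc 0 := hEig x hx f hf 0 (by rw [e2, map_zero]; rfl)
      rw [h0, map_zero] at e
      exact hx e.symm
    refine hw ⟨⟨D.sc γ⁻¹ * f, E.mul_mem (hE.scal _) hf⟩, ?_⟩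
    show D.sc γ⁻¹ (f x) = w
    rw [e2, D.sc_inv_apply hγ0]
  have hfwd : ∀ x w, w ∉ orb x → ∀ f ∈ E, f x ≠ w := fun x w hw f hf e => hw ⟨⟨f, hf⟩, e⟩
  refine ⟨![a, y, z], fun j => ?_, fun j => ?_, fun j k f hf e => ?_⟩
  · fin_cases j <;> simp [ha, hy, hz]
  · fin_cases j <;> simp [ha0, hy0, hz0]
  · fin_cases j <;> fin_cases k <;> first | rfl | (exfalso; simp at e)
    exacts [hfwd _ _ hya f hf e, hfwd _ _ hzn.1 f hf e, hrev _ _ ha0 hya f hf e,
      hfwd _ _ hzn.2 f hf e, hrev _ _ ha0 hzn.1 f hf e, hrev _ _ hy0 hzn.2 f hf e]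

/-- The four extra operators. -/
theorem kk_values {V : Type u} [AddCommGroup V] (S T : AddMonoid.End V) :
    kk S T 0 = 1 ∧ kk S T 1 = S ∧ kk S T 2 = T ∧ kk S T 3 = S * T := by
  refine ⟨by simp [kk], ?_, ?_, ?_⟩
  · rw [kk, show Nat.testBit 1 0 = true by decide, show Nat.testBit 1 1 = false by decide]
    simp
  · rw [kk, show Nat.testBit 2 0 = false by decide, show Nat.testBit 2 1 = true by decide]
    simp
  · rw [kk, show Nat.testBit 3 0 = true by decide, show Nat.testBit 3 1 = true by decide]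
    simp

/-- The operators generated by an anticommuting pair of bad vectors. -/
theorem exists_plane_form [Finite F] (σ : F →+* AddMonoid.End V) {S T : AddMonoid.End V} {α β : F}
    (hσS : ∀ r, Commute (σ r) S) (hσT : ∀ r, Commute (σ r) T) (hST : S * T = σ (-1) * (T * S))
    (hS : S * S = σ β) (hT : T * T = σ α) (hβ : ¬ IsSquare β) (hα : ¬ IsSquare α)
    (hαβ : ¬ IsSquare (-(β * α))) :
    ∃ E : Submonoid (AddMonoid.End V), (∀ r, σ r ∈ E) ∧ S ∈ E ∧ T ∈ E ∧
      (∀ P : AddMonoid.End V → Prop, (∀ r, P (σ r)) → P S → P T →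
        (∀ a b, P a → P b → P (a * b)) → ∀ f ∈ E, P f) ∧
      (∀ f ∈ E, ∀ (r : F) (x : V), x ≠ 0 → f x = σ r x → f = σ r) ∧
      (∀ f ∈ E, ∃ γ, f * f = σ γ) ∧
      ∀ f ∈ E, ∃ c i, i < 4 ∧ f = σ c * kk S T i := by
  obtain ⟨E₀, h1, h2, h3, -, h5⟩ := CfsgLib.SolBase.exists_plane_monoid σ hσS hσT hST hS hT hβ hα hαβ
  let gens : Set (AddMonoid.End V) := Set.range σ ∪ {S, T}
  let E := Submonoid.closure gens
  have hle : E ≤ E₀ := Submonoid.closure_le.2 fun f hf => by
    rcases hf with ⟨r, rfl⟩ | rfl | rfl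
    exacts [h1 r, h2, h3]
  have hTS : T * S = σ (-1) * (S * T) := by
    rw [hST, ← mul_assoc, ← map_mul, neg_one_mul, neg_neg, map_one, one_mul]
  have hk : ∀ i r, Commute (σ r) (kk S T i) := fun i r => by
    refine Commute.mul_right ?_ ?_ <;> split_ifs
    exacts [hσS r, Commute.one_right _, hσT r, Commute.one_right _]
  obtain ⟨k0, k1, k2, k3⟩ := kk_values S T
  have hkS : ∀ i < 4, ∃ c j, j < 4 ∧ S * kk S T i = σ c * kk S T j := by
    intro i hi
    interval_cases i
    · exact ⟨1, 1, by norm_num, by rw [k0, k1, mul_one, map_one, one_mul]⟩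
    · exact ⟨β, 0, by norm_num, by rw [k0, k1, mul_one, hS]⟩
    · exact ⟨1, 3, by norm_num, by rw [k2, k3, map_one, one_mul]⟩
    · exact ⟨β, 2, by norm_num, by rw [k2, k3, ← mul_assoc, hS]⟩
  have hkT : ∀ i < 4, ∃ c j, j < 4 ∧ T * kk S T i = σ c * kk S T j := by
    intro i hi
    interval_cases i
    · exact ⟨1, 2, by norm_num, by rw [k0, k2, mul_one, map_one, one_mul]⟩
    · exact ⟨-1, 3, by norm_num, by rw [k1, k3, hTS]⟩
    · exact ⟨α, 0, by norm_num, by rw [k0, k2, mul_one, hT]⟩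
    · refine ⟨-α, 1, by norm_num, ?_⟩
      rw [k1, k3, ← mul_assoc, hTS, mul_assoc, mul_assoc S T T, hT, ← (hσS α).eq, ← mul_assoc,
        ← map_mul, neg_one_mul]
  have hform : ∀ f ∈ E, ∃ c i, i < 4 ∧ f = σ c * kk S T i := by
    intro f hf
    induction hf using Submonoid.closure_induction_left with
    | one => exact ⟨1, 0, by norm_num, by simp [kk]⟩
    | mul_left g hg h _ ih =>
      obtain ⟨c, i, hi, rfl⟩ := ih
      rcases hg with ⟨r, rfl⟩ | rfl | rfl
      · exact ⟨r * c, i, hi, by rw [map_mul, mul_assoc]⟩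
      · obtain ⟨c', j, hj, e⟩ := hkS i hi
        exact ⟨c * c', j, hj, by rw [← mul_assoc, ← (hσS c).eq, mul_assoc, e, map_mul, mul_assoc]⟩
      · obtain ⟨c', j, hj, e⟩ := hkT i hi
        exact ⟨c * c', j, hj, by rw [← mul_assoc, ← (hσT c).eq, mul_assoc, e, map_mul, mul_assoc]⟩
  refine ⟨E, fun r => Submonoid.subset_closure (Or.inl ⟨r, rfl⟩),
    Submonoid.subset_closure (Or.inr (Or.inl rfl)), Submonoid.subset_closure (Or.inr (Or.inr rfl)),
    fun P hP hPS hPT hm f hf => ?_, fun f hf => h5 f (hle hf), fun f hf => ?_, hform⟩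
  · induction hf using Submonoid.closure_induction with
    | mem g hg =>
      rcases hg with ⟨r, rfl⟩ | rfl | rfl
      exacts [hP r, hPS, hPT]
    | one => rw [← map_one σ]; exact hP 1
    | mul a b _ _ ha hb => exact hm a b ha hb
  · obtain ⟨c, i, hi, rfl⟩ := hform f hf
    have hk2 : ∃ γ, kk S T i * kk S T i = σ γ := by
      interval_cases i
      · exact ⟨1, by rw [k0, one_mul, map_one]⟩
      · exact ⟨β, by rw [k1, hS]⟩
      · exact ⟨α, by rw [k2, hT]⟩
      · refine ⟨-(β * α), ?_⟩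
        rw [k3, ← mul_assoc (S * T) S T, mul_assoc S T S, hTS, ← mul_assoc S (σ (-1)), ← (hσS _).eq,
          mul_assoc (σ (-1)), ← mul_assoc S S T, hS, ← mul_assoc, ← map_mul, mul_assoc _ T T, hT,
          ← map_mul, neg_one_mul, neg_mul]
    obtain ⟨γ, hγ⟩ := hk2
    refine ⟨c * c * γ, ?_⟩
    rw [mul_assoc, ← mul_assoc (kk S T i), ← (hk i c).eq, mul_assoc (σ c), hγ, ← mul_assoc,
      ← map_mul, ← map_mul]

end CfsgLib.CoprimeBase
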