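import Cfsg.Agent.Lib.CoprimeBase.Rigid

/-!
# A pattern of vectors over an odd prime field
-/

set_option autoImplicit false

namespace CfsgLib.CoprimeBase

open CfsgLib.OddBase.Heis (dot dot_add_right dot_single_right)

variable {q s : ℕ}

/-- A coordinate vector. -/
def ev (i : Fin s) (n : ZMod q) : Fin s → ZMod q := Pi.single i n

/-- A step of the directed path. -/
def stepVec (i : Fin s) (h : (i : ℕ) + 1 < s) : Fin s → ZMod q :=
  Pi.single i 1 + Pi.single (⟨(i : ℕ) + 1, h⟩ : Fin s) 2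

theorem ev_not_step [Fact q.Prime] (hq : q ≠ 2) (i k : Fin s) (n : ZMod q)
    (h : (k : ℕ) + 1 < s) : ev i n ≠ stepVec k h := by
  intro e
  haveI : Fact (1 < q) := ⟨(Fact.out : q.Prime).one_lt⟩
  have h2 : (2 : ZMod q) ≠ 0 := by
    intro z
    have := (ZMod.natCast_eq_zero_iff 2 q).1 (by exact_mod_cast z)
    exact hq ((Nat.prime_dvd_prime_iff_eq Fact.out Nat.prime_two).1 this)
  have hk : (⟨(k : ℕ) + 1, h⟩ : Fin s) ≠ k := fun e => by
    have := congrArg Fin.val e; simp at this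
  have e1 := congrFun e k
  have e2 := congrFun e ⟨(k : ℕ) + 1, h⟩
  simp only [ev, stepVec, Pi.add_apply, Pi.single_eq_same, Pi.single_eq_of_ne hk.symm,
    Pi.single_eq_of_ne hk, add_zero, zero_add] at e1 e2
  by_cases hi : i = k
  · subst hi
    rw [Pi.single_eq_of_ne hk] at e2
    exact h2 e2.symm
  · rw [Pi.single_eq_of_ne (Ne.symm hi)] at e1
    exact zero_ne_one e1

theorem exists_odd_pattern [hp : Fact q.Prime] (hq : q ≠ 2) (hs : 0 < s) :
    ∃ A B : Set (Fin s → ZMod q), A.Nonempty ∧ (0 : Fin s → ZMod q) ∉ A ∧ (0 : Fin s → ZMod q) ∉ B ∧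
      Disjoint A B ∧ Pins B ∧
      ∀ h : (Fin s → ZMod q) →+ (Fin s → ZMod q), Function.Injective h → (∀ c ∈ A, h c ∈ A) →
        (∀ c ∈ B, h c ∈ B) → ∀ c, h c = c := by
  classical
  haveI : Fact (1 < q) := ⟨hp.out.one_lt⟩
  have h2 : (2 : ZMod q) ≠ 0 := by
    intro z
    have := (ZMod.natCast_eq_zero_iff 2 q).1 (by exact_mod_cast z)
    exact hq ((Nat.prime_dvd_prime_iff_eq hp.out Nat.prime_two).1 this)
  have h21 : (2 : ZMod q) ≠ 1 := fun e => one_ne_zero (by linear_combination e)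
  let A : Set (Fin s → ZMod q) := {c | ∃ i, c = ev i 1}
  let B : Set (Fin s → ZMod q) := {c | ∃ i h, c = stepVec i h}
  have hevB : ∀ i n, ev i n ∉ B := fun i n ⟨k, h, e⟩ => ev_not_step hq i k n h e
  have hpairB : ∀ i j : Fin s, (ev j 1 + ev i 1 : Fin s → ZMod q) ∉ B := by
    rintro i j ⟨k, h, e⟩
    by_cases hij : j = i
    · subst hij
      rw [ev, ← Pi.single_add] at e
      exact hevB j _ ⟨k, h, e⟩
    have e2 := congrFun e ⟨(k : ℕ) + 1, h⟩
    have hk : (⟨(k : ℕ) + 1, h⟩ : Fin s) ≠ k := fun e => by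
      have := congrArg Fin.val e; simp at this
    simp only [ev, stepVec, Pi.add_apply, Pi.single_eq_same, Pi.single_eq_of_ne hk,
      zero_add] at e2
    by_cases a : (⟨(k : ℕ) + 1, h⟩ : Fin s) = i
    · rw [← a] at e2 hij
      rw [Pi.single_eq_same, Pi.single_eq_of_ne (Ne.symm hij), zero_add] at e2
      exact h21 e2.symm
    by_cases b : (⟨(k : ℕ) + 1, h⟩ : Fin s) = j
    · rw [← b] at e2
      rw [Pi.single_eq_same, Pi.single_eq_of_ne a, add_zero] at e2
      exact h21 e2.symm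
    · rw [Pi.single_eq_of_ne a, Pi.single_eq_of_ne b, add_zero] at e2
      exact h2 e2.symm
  have h0B : (0 : Fin s → ZMod q) ∉ B := by
    have := hevB ⟨0, hs⟩ 0
    rwa [ev, Pi.single_zero] at this
  refine ⟨A, B, ⟨_, ⟨0, hs⟩, rfl⟩, ?_, h0B, Set.disjoint_left.2 ?_, fun i => ⟨⟨0, h0B, ?_⟩, ?_⟩, ?_⟩
  · rintro ⟨i, e⟩
    have := congrFun e i
    simp [ev] at this
  · rintro _ ⟨i, rfl⟩
    exact hevB i 1
  · rw [zero_add]; exact hevB i 1
  · intro k b hb
    have hb0 : dot k 0 = b := hb 0 h0B (by rw [zero_add]; exact hevB i 1)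
    funext j
    have hbj := hb (ev j 1) (hevB j 1) (hpairB i j)
    rw [show dot k (0 : Fin s → ZMod q) = 0 by simp [dot]] at hb0
    rw [ev, dot_single_right, mul_one, ← hb0] at hbj
    exact hbj
  intro h hinj hA hB
  have hA' : ∀ i, ∃ j, h (ev i 1) = ev j 1 := fun i => hA _ ⟨i, rfl⟩
  choose π hπ using hA'
  have hevinj : ∀ i j : Fin s, (ev i 1 : Fin s → ZMod q) = ev j 1 → i = j := by
    intro i j e
    by_contra hne
    have := congrFun e i
    rw [ev, ev, Pi.single_eq_same, Pi.single_eq_of_ne hne] at this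
    exact one_ne_zero this
  have hπinj : Function.Injective π := fun a b e => hevinj _ _ (hinj (by rw [hπ, hπ, e]))
  have hnext : ∀ (i : Fin s) (hi : (i : ℕ) + 1 < s),
      (π ⟨(i : ℕ) + 1, hi⟩ : ℕ) = π i + 1 := by
    intro i hi
    set i' : Fin s := ⟨(i : ℕ) + 1, hi⟩
    have htwo : ∀ j : Fin s, (ev j 2 : Fin s → ZMod q) = ev j 1 + ev j 1 := fun j => by
      rw [ev, ev, ← Pi.single_add, one_add_one_eq_two]
    obtain ⟨k, hk, e⟩ := hB _ ⟨i, hi, rfl⟩
    have himg : h (stepVec i hi) = ev (π i) 1 + ev (π i') 2 := by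
      show h (ev i 1 + ev i' 2) = _
      rw [htwo, htwo, map_add, map_add, hπ, hπ]
    have hne : π i ≠ π i' := fun e => by
      have := congrArg Fin.val (hπinj e); simp [i'] at this
    rw [himg] at e
    have e1 := congrFun e (π i)
    have e2 := congrFun e (π i')
    simp only [ev, stepVec, Pi.add_apply, Pi.single_eq_same, Pi.single_eq_of_ne hne,
      Pi.single_eq_of_ne hne.symm, add_zero, zero_add, Pi.single_apply] at e1 e2
    have c1 : π i = k := by
      by_contra c
      rw [if_neg c] at e1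
      split_ifs at e1
      · rw [zero_add] at e1; exact h21 e1.symm
      · rw [add_zero] at e1; exact one_ne_zero e1
    have c2 : π i' = ⟨(k : ℕ) + 1, hk⟩ := by
      by_contra c
      rw [if_neg c, if_neg fun z => hne (c1.trans z.symm), add_zero] at e2
      exact h2 e2
    rw [c2, c1]
  have hval : ∀ n (hn : n < s), (π ⟨n, hn⟩ : ℕ) = π ⟨0, hs⟩ + n := by
    intro n
    induction n with
    | zero => exact fun _ => rfl
    | succ n ih =>
      intro hn
      rw [hnext ⟨n, by omega⟩ hn, ih (by omega)]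
      rfl
  have h00 : (π ⟨0, hs⟩ : ℕ) = 0 := by
    have := hval (s - 1) (by omega)
    have := (π ⟨s - 1, by omega⟩).2
    omega
  intro c
  refine CfsgLib.SolBase.eq_id_of_fix h (fun i => ?_) c
  have hchi : (CfsgLib.SolBase.chi {i} : Fin s → ZMod q) = ev i 1 := by
    funext k; simp [CfsgLib.SolBase.chi, ev, Pi.single_apply]
  have : π i = i := Fin.ext (by
    have e := hval i i.2
    rw [h00, zero_add] at e
    exact e)
  rw [hchi, hπ, this]

end CfsgLib.CoprimeBase
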