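import Cfsg.Agent.Lib.CoprimeBase.ModelData

/-!
# The search for one certificate of the configuration with a plane
-/

set_option autoImplicit false
set_option maxHeartbeats 4000000
set_option Elab.async false

namespace CfsgLib.CoprimeBase.Model

/-- One branch of the first level of the search. -/
def cfg3211c1_branch (g : Op) (rest : List Op) (f : Op) : Bool :=
  !(cfg3211.op f (cfg3211.op f cfg3211.a) == cfg3211.op g (cfg3211.op g cfg3211.a)) ||
    cfg3211.go cfg3211c1 rest [(g, f)] ([cfg3211.a] ++ [cfg3211.a].map (cfg3211.op f))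

theorem cfg3211c1_part0 : ((cfg3211.ops.take 64).take 32).all
    (cfg3211c1_branch cfg3211c1.gs.head! cfg3211c1.gs.tail) = true := by decide +kernel

theorem cfg3211c1_part1 : ((cfg3211.ops.take 64).drop 32).all
    (cfg3211c1_branch cfg3211c1.gs.head! cfg3211c1.gs.tail) = true := by decide +kernel

theorem cfg3211c1_part2 : ((cfg3211.ops.drop 64).take 32).all
    (cfg3211c1_branch cfg3211c1.gs.head! cfg3211c1.gs.tail) = true := by decide +kernel

theorem cfg3211c1_part3 : ((cfg3211.ops.drop 64).drop 32).all
    (cfg3211c1_branch cfg3211c1.gs.head! cfg3211c1.gs.tail) = true := by decide +kernel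

theorem cfg3211c1_all : cfg3211.ops.all (cfg3211c1_branch cfg3211c1.gs.head! cfg3211c1.gs.tail) = true := by
  rw [← List.take_append_drop 64 cfg3211.ops, List.all_append,
    ← List.take_append_drop 32 (cfg3211.ops.take 64), List.all_append,
    ← List.take_append_drop 32 (cfg3211.ops.drop 64), List.all_append,
    cfg3211c1_part0, cfg3211c1_part1, cfg3211c1_part2, cfg3211c1_part3]
  rfl

theorem cfg3211c1_go : cfg3211.go cfg3211c1 cfg3211c1.gs [] [cfg3211.a] = true := by
  show cfg3211.go cfg3211c1 (cfg3211c1.gs.head! :: cfg3211c1.gs.tail) [] [cfg3211.a] = true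
  unfold Cfg.go
  refine Bool.or_eq_true_iff.2 (Or.inr ?_)
  refine List.all_eq_true.2 fun f hf => ?_
  have h := List.all_eq_true.1 cfg3211c1_all f hf
  simpa [cfg3211c1_branch] using h

theorem cfg3211c1_check : cfg3211.checkCert cfg3211c1 = true := by
  unfold Cfg.checkCert
  rw [cfg3211c1_go, Bool.and_true]
  decide +kernel

end CfsgLib.CoprimeBase.Model
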