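import Cfsg.Agent.Lib.CoprimeBase.ModelCertA
import Cfsg.Agent.Lib.CoprimeBase.ModelCertB

/-!
# All configurations are certified
-/

set_option autoImplicit false
set_option maxHeartbeats 4000000

namespace CfsgLib.CoprimeBase.Model

theorem cfg3211_base : cfg3211.checkBase = true := by decide +kernel

theorem cfg3211_check : cfg3211.check = true :=
  Bool.and_eq_true_iff.2 ⟨cfg3211_base,
    Bool.and_eq_true_iff.2 ⟨cfg3211c0_check, Bool.and_eq_true_iff.2 ⟨cfg3211c1_check, rfl⟩⟩⟩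

theorem exists_cfg {p e d0 d1 : ℕ}
    (h : (p = 3 ∧ (e = 1 ∨ e = 2) ∧ d0 = 1 ∧ d1 = 1) ∨
      (p = 5 ∧ e = 1 ∧ (d0 = 1 ∨ d0 = 2) ∧ (d1 = 1 ∨ d1 = 2))) :
    ∃ C : Cfg, C.p = p ∧ C.e = e ∧ C.d0 = d0 ∧ C.d1 = d1 ∧ C.check = true ∧ C.extra = true := by
  rcases h with ⟨rfl, rfl | rfl, rfl, rfl⟩ | ⟨rfl, rfl, rfl | rfl, rfl | rfl⟩
  exacts [⟨cfg3111, rfl, rfl, rfl, rfl, cfg3111_check, cfg3111_extra⟩,
    ⟨cfg3211, rfl, rfl, rfl, rfl, cfg3211_check, cfg3211_extra⟩,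
    ⟨cfg5111, rfl, rfl, rfl, rfl, cfg5111_check, cfg5111_extra⟩,
    ⟨cfg5112, rfl, rfl, rfl, rfl, cfg5112_check, cfg5112_extra⟩,
    ⟨cfg5121, rfl, rfl, rfl, rfl, cfg5121_check, cfg5121_extra⟩,
    ⟨cfg5122, rfl, rfl, rfl, rfl, cfg5122_check, cfg5122_extra⟩]

end CfsgLib.CoprimeBase.Model
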