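import Cfsg.Agent.Lib.CoprimeBase.PeelModel
import Cfsg.Agent.Lib.CoprimeBase.ModelCfgs
import Cfsg.Agent.Lib.CoprimeBase.Colours
import Cfsg.Agent.Lib.CoprimeBase.SmallPatterns

/-!
# A small fixed space and few pairs: two pairs are added to the extra operators
-/

set_option autoImplicit false
set_option maxHeartbeats 1600000

universe u

namespace CfsgLib.CoprimeBase

open CfsgLib.OddBase (Heis HasBase)
open CfsgLib.OddBase.Heis (red lift dot vec_induction red_single red_lift dot_add_right comm_apply)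
open CfsgLib.SolBase (EMon)

variable {F : Type u} [Field F] {V : Type u} [AddCommGroup V] {s t : ℕ}

/-- Some of the pairs, with normalised shifts. -/
def sub (D : Heis F V 2 s) (f : Fin t → Fin s) (hf : Function.Injective f) (r : Fin t → F)
    (hr : ∀ i, r i ≠ 0) (b : Fin t → Bool) : Heis F V 2 t where
  sc := D.sc
  ξ := D.ξ
  hξ := D.hξ
  hq0 := D.hq0
  x i := D.x (f i)
  z i := D.sc (r i) * (if b i then D.x (f i) * D.z (f i) else D.z (f i))
  δ i := r i ^ 2 * (if b i then D.ξ * D.δ (f i) else D.δ (f i))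
  hδ i := mul_ne_zero (pow_ne_zero _ (hr i)) (by
    split
    exacts [mul_ne_zero (D.hξ.ne_zero two_ne_zero) (D.hδ _), D.hδ _])
  scx c i := D.scx c _
  scz c i := by
    refine ((Commute.all c (r i)).map D.sc).mul_right ?_
    split
    exacts [(D.scx c _).mul_right (D.scz c _), D.scz c _]
  xx i j := D.xx _ _
  zz i j := by
    by_cases hij : i = j
    · rw [hij]
    · have h1 := D.xz (f i) (f j) fun e => hij (hf e)
      have h2 := D.xz (f j) (f i) fun e => hij (hf e).symm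
      refine Commute.mul_left ?_ ?_
      · refine ((Commute.all (r i) (r j)).map D.sc).mul_right ?_
        split
        exacts [(D.scx _ _).mul_right (D.scz _ _), D.scz _ _]
      refine Commute.mul_right ?_ ?_
      · split
        exacts [((D.scx (r j) _).symm).mul_left (D.scz (r j) _).symm, (D.scz (r j) _).symm]
      split <;> split
      exacts [((D.xx _ _).mul_right h1).mul_left (h2.symm.mul_right (D.zz _ _)),
        h1.mul_left (D.zz _ _), h2.symm.mul_right (D.zz _ _), D.zz _ _]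
  xz i j hij := by
    refine (D.scx _ _).symm.mul_right ?_
    have h1 := D.xz (f i) (f j) fun e => hij (hf e)
    split
    exacts [(D.xx _ _).mul_right h1, h1]
  xzi i := by
    rw [← mul_assoc (D.x (f i)) (D.sc (r i)), ← (D.scx (r i) (f i)).eq, mul_assoc (D.sc (r i)),
      mul_assoc (D.sc (r i)) _ (D.x (f i)), ← mul_assoc (D.sc D.ξ), ← map_mul, mul_comm D.ξ, map_mul,
      mul_assoc (D.sc (r i))]
    congr 1
    split
    · conv_lhs => rw [D.xzi, ← mul_assoc (D.x (f i)), ← (D.scx _ _).eq]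
      simp only [mul_assoc]
    · exact D.xzi _
  xq i := D.xq _
  zq i := by
    have hc : Commute (D.sc (r i)) (if b i then D.x (f i) * D.z (f i) else D.z (f i)) := by
      split
      exacts [(D.scx _ _).mul_right (D.scz _ _), D.scz _ _]
    rw [hc.mul_pow, map_mul, map_pow]
    congr 1
    split
    · have hzx : D.z (f i) * D.x (f i) = D.sc D.ξ * (D.x (f i) * D.z (f i)) := by
        rw [D.xzi, ← mul_assoc, ← map_mul, ← pow_two, D.hξ.pow_eq_one, map_one, one_mul]
      rw [pow_two, mul_assoc, ← mul_assoc (D.z (f i)) (D.x (f i)), hzx, mul_assoc (D.sc D.ξ),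
        ← mul_assoc (D.x (f i)) (D.sc D.ξ), ← (D.scx _ _).eq, mul_assoc (D.sc D.ξ), mul_assoc (D.x (f i)),
        ← mul_assoc (D.x (f i)) (D.x (f i)), ← pow_two, D.xq, one_mul, ← pow_two, D.zq, ← map_mul]
    · exact D.zq _

/-- The extra operators take the form of the model. -/
structure Frame (D : Heis F V 2 s) (E : Submonoid (AddMonoid.End V)) (a : V) (e : ℕ)
    (u v : AddMonoid.End V) : Prop where
  he : e = 1 ∨ e = 2
  form : ∀ f ∈ E, ∃ c i, i < e * e ∧ f = D.sc c * kk u v i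
  plane : e = 2 → u ∈ E ∧ v ∈ E ∧ u (u a) = -a ∧ v a = a + u a ∧ v (u a) = a - u a ∧
    ∀ r, u a ≠ D.sc r a
  span : ∀ x ∈ D.U, ∃ A B : F, x = D.sc A a + (if e = 2 then D.sc B (u a) else 0)

/-- In a field of three or five elements a square times a unit is one or two. -/
theorem exists_scale {p : ℕ} [hp : Fact p.Prime] [CharP F p] (hF : Nat.card F = p)
    (hp35 : p = 3 ∨ p = 5) (ξ : F) (hξ : IsPrimitiveRoot ξ 2) (δ : F) (hδ : δ ≠ 0) :
    ∃ (r : F) (b : Bool) (d : ℕ), r ≠ 0 ∧ ((p = 3 ∧ d = 1) ∨ (p = 5 ∧ (d = 1 ∨ d = 2))) ∧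
      r ^ 2 * (if b then ξ * δ else δ) = (d : F) := by
  haveI : Finite F := Nat.finite_of_card_ne_zero (hF ▸ hp.out.ne_zero)
  haveI : Fintype F := Fintype.ofFinite F
  have hinj : Function.Injective fun n : Fin p => ((n : ℕ) : F) := fun n m e =>
    Fin.ext ((CharP.natCast_injOn_Iio F p) n.2 m.2 e)
  obtain ⟨n, rfl⟩ := (Function.Injective.bijective_of_nat_card_le hinj
    (by rw [hF, Nat.card_fin])).2 δ
  have hξ' := hξ.eq_neg_one_of_two_right
  have h0 : (p : F) = 0 := CharP.cast_eq_zero F p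
  obtain ⟨n, hn⟩ := n
  have hn0 : n ≠ 0 := fun e => hδ (by simp [e])
  rcases hp35 with rfl | rfl
  · interval_cases n
    · exact absurd rfl hn0
    · exact ⟨1, false, 1, one_ne_zero, Or.inl ⟨rfl, rfl⟩, by simp⟩
    · refine ⟨1, true, 1, one_ne_zero, Or.inl ⟨rfl, rfl⟩, ?_⟩
      subst hξ'
      norm_num at h0 ⊢
      linear_combination -h0
  · have h2 : (2 : F) ≠ 0 := by
      intro h
      have := (CharP.cast_eq_zero_iff F 5 2).1 (by exact_mod_cast h)
      omega
    interval_cases n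
    · exact absurd rfl hn0
    · exact ⟨1, false, 1, one_ne_zero, Or.inr ⟨rfl, Or.inl rfl⟩, by simp⟩
    · exact ⟨1, false, 2, one_ne_zero, Or.inr ⟨rfl, Or.inr rfl⟩, by simp⟩
    · refine ⟨2, false, 2, h2, Or.inr ⟨rfl, Or.inr rfl⟩, ?_⟩
      norm_num at h0 ⊢
      linear_combination 2 * h0
    · refine ⟨2, false, 1, h2, Or.inr ⟨rfl, Or.inl rfl⟩, ?_⟩
      norm_num at h0 ⊢
      linear_combination 3 * h0

/-- Three points of which the third is fixed only by the identity. -/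
theorem exists_point {P : Set ((Fin 2 → ZMod 2) →+ (Fin 2 → ZMod 2))} (hP : NoThree P) :
    ∃ c₁ c₂ : Fin 2 → ZMod 2, c₁ ≠ 0 ∧ c₂ ≠ 0 ∧ c₁ ≠ c₂ ∧
      ∀ h ∈ P, h (c₁ + c₂) = c₁ + c₂ → ∀ c, h c = c := by
  obtain ⟨Z, hZ0, hZ⟩ := exists_subset_noThree hP
  have h4 : ∀ c₁ c₂ : Fin 2 → ZMod 2, c₁ ≠ 0 → c₂ ≠ 0 → c₁ ≠ c₂ →
      ∀ c, c = 0 ∨ c = c₁ ∨ c = c₂ ∨ c = c₁ + c₂ := by decide
  obtain ⟨c₁, c₂, h1, h2, h12, hiff⟩ : ∃ c₁ c₂ : Fin 2 → ZMod 2, c₁ ≠ 0 ∧ c₂ ≠ 0 ∧ c₁ ≠ c₂ ∧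
      (c₁ ∈ Z ↔ c₂ ∈ Z) := by
    have e12 : (![1, 0] : Fin 2 → ZMod 2) ≠ ![0, 1] := by decide
    have e13 : (![1, 0] : Fin 2 → ZMod 2) ≠ ![1, 1] := by decide
    have e23 : (![0, 1] : Fin 2 → ZMod 2) ≠ ![1, 1] := by decide
    have n1 : (![1, 0] : Fin 2 → ZMod 2) ≠ 0 := by decide
    have n2 : (![0, 1] : Fin 2 → ZMod 2) ≠ 0 := by decide
    have n3 : (![1, 1] : Fin 2 → ZMod 2) ≠ 0 := by decide
    by_cases a : (![1, 0] : Fin 2 → ZMod 2) ∈ Z <;> by_cases b : (![0, 1] : Fin 2 → ZMod 2) ∈ Z <;>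
      by_cases c : (![1, 1] : Fin 2 → ZMod 2) ∈ Z
    all_goals first
      | exact ⟨_, _, n1, n2, e12, iff_of_true a b⟩
      | exact ⟨_, _, n1, n2, e12, iff_of_false a b⟩
      | exact ⟨_, _, n1, n3, e13, iff_of_true a c⟩
      | exact ⟨_, _, n1, n3, e13, iff_of_false a c⟩
      | exact ⟨_, _, n2, n3, e23, iff_of_true b c⟩
      | exact ⟨_, _, n2, n3, e23, iff_of_false b c⟩
  refine ⟨c₁, c₂, h1, h2, h12, fun h hh hfix => hZ h hh fun c => ?_⟩
  have hinj := hP.inj h hh
  have hmem : ∀ c, c = c₁ ∨ c = c₂ → h c = c₁ ∨ h c = c₂ := by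
    intro c hc
    have hne : c ≠ c₁ + c₂ := by
      rcases hc with rfl | rfl
      · exact fun e => h2 (left_eq_add.1 e)
      · exact fun e => h1 (right_eq_add.1 e)
    have hc0 : c ≠ 0 := by rcases hc with rfl | rfl <;> assumption
    rcases h4 c₁ c₂ h1 h2 h12 (h c) with e | e | e | e
    · exact absurd (hinj (e.trans (map_zero h).symm)) hc0
    · exact Or.inl e
    · exact Or.inr e
    · exact absurd (hinj (e.trans hfix.symm)) hne
  rcases h4 c₁ c₂ h1 h2 h12 c with rfl | rfl | rfl | rfl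
  · rw [map_zero]
  · rcases hmem _ (Or.inl rfl) with e | e <;> rw [e]
    exact hiff.symm
  · rcases hmem _ (Or.inr rfl) with e | e <;> rw [e]
    exact hiff
  · rw [hfix]

/-- A map fixing two slots and one vector of their sum fixes the sum. -/
theorem fix_add {E : Submonoid (AddMonoid.End V)} {D : Heis F V 2 t} (hE : Ops D E) {a : V}
    (ha : a ∈ D.U) (ha0 : a ≠ 0) (hA : Eig D E a) {G : AddMonoid.End V}
    (hσ : ∀ r, Commute G (D.sc r)) {h : (Fin t → ZMod 2) →+ (Fin t → ZMod 2)}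
    {R : (Fin t → ZMod 2) → AddMonoid.End V} (hS : Shift D E G h R) (hU : ∀ u ∈ D.U, G u = u)
    (hid : ∀ c, h c = c) {c d : Fin t → ZMod 2} (hc : R c a = a) (hd : R d a = a) {b : V}
    (hb : b ∈ D.U) (hb0 : b ≠ 0) (hcd : R (c + d) b = b) : R (c + d) a = a := by
  have hR1 : ∀ c, R c a = a → ∀ w ∈ D.U, G (D.slot c w) = D.slot c w := by
    intro c hc w hw
    rw [hS.slot c w hw, hU w hw, hid,
      hA _ (hS.mem c) 1 (by rw [D.sc_one_apply]; exact hc), D.sc_one_apply]
  obtain ⟨f, hf, ef⟩ := hS.conj c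
  rw [hid] at hf
  obtain ⟨m, e, ⟨κ, k, l, rfl, hl⟩, he, rfl⟩ := hf
  obtain ⟨δ, -, hδ⟩ := D.Z_reduce (lift c + lift d)
  rw [show red 2 (lift c + lift d) = c + d by
    rw [CfsgLib.OddBase.Heis.red_add, red_lift, red_lift]] at hδ
  obtain ⟨δ', -, hδ'⟩ := D.Z_reduce l
  rw [hl] at hδ'
  have hfe : ∀ x, (D.sc κ * (D.X k * D.Z l) * e) x = D.sc (κ * δ') (D.X k (D.slot c (e x))) := by
    intro x
    show D.sc κ (D.X k (D.Z l (e x))) = _
    rw [hδ']
    show D.sc κ (D.X k (D.sc δ' (D.Z (lift c) (e x)))) = _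
    rw [← comm_apply (D.commute_X_sc δ' k), ← D.sc_apply_mul]
    rfl
  have e1 := appG ef a
  rw [hR1 c hc a ha, hU a ha, hfe, D.X_slot _ _ (hE.mem_U he ha), ← D.sc_apply_mul,
    ← slot_sc] at e1
  have e2 := sub_eq_zero.1 (D.slot_injective c
    (v := D.sc (κ * δ' * D.ψ (dot (red 2 k) c)) (e a) - a) (by rw [map_sub, sub_eq_zero]; exact e1.symm))
  set μ : F := κ * δ' * D.ψ (dot (red 2 k) c) with hμ
  have hμ0 : μ ≠ 0 := fun z => by
    rw [z, map_zero] at e2
    exact ha0 e2.symm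
  have he' : e = D.sc μ⁻¹ := hA e he _ (by conv_rhs => rw [← e2, D.sc_inv_apply hμ0])
  have key : ∀ w ∈ D.U, G (D.slot (c + d) w) = D.sc (D.ψ (dot (red 2 k) d)) (D.slot (c + d) w) := by
    intro w hw
    have hcd' : ∀ x, D.slot c (D.slot d x) = D.sc δ (D.slot (c + d) x) := fun x => by
      show (D.Z (lift c) * D.Z (lift d)) x = _
      rw [← D.Z_add, hδ]
      rfl
    have hδ0 : δ ≠ 0 := fun z => by
      have := hcd' a
      rw [z, map_zero] at this
      exact ha0 (D.slot_injective d (D.slot_injective c this))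
    have e3 := appG ef (D.slot d w)
    rw [hcd', comm_apply (hσ δ), hR1 d hd w hw, hfe, he', slot_sc, hcd', ← D.sc_apply_mul,
      ← comm_apply (D.commute_X_sc _ k), D.X_slot _ _ hw, ← D.sc_apply_mul, ← D.sc_apply_mul] at e3
    have e4 := congrArg (D.sc δ⁻¹) e3
    rw [D.sc_inv_apply hδ0, ← D.sc_apply_mul] at e4
    rw [e4]
    congr 2
    have hψ := D.ψ_ne_zero (dot (red 2 k) c)
    have hκ : κ * δ' ≠ 0 := left_ne_zero_of_mul hμ0
    rw [hμ, dot_add_right, D.ψ_add]
    field_simp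
    exact mul_div_cancel_left₀ _ hκ
  have e5 := key b hb
  rw [hS.slot _ b hb, hU b hb, hid, hcd] at e5
  have hψ1 : D.ψ (dot (red 2 k) d) = 1 :=
    (D.sc_cancel ((D.sc_one_apply _).trans e5) fun z => hb0 (D.slot_injective _ z)).symm
  have e6 := key a ha
  rw [hψ1, D.sc_one_apply, hS.slot _ a ha, hU a ha, hid] at e6
  exact sub_eq_zero.1 (D.slot_injective (c + d) (by rw [map_sub, sub_eq_zero]; exact e6))

variable {r : ℕ}

/-- The exceptional configurations. -/
theorem peel [Finite V] {p : ℕ} [hpp : Fact p.Prime] [CharP F p] {X : Type u} [Group X] [Finite X]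
    (ρ : X →* AddMonoid.End V) (hc : ¬ p ∣ Nat.card X) (hF : Nat.card F = p) (hr : r ≤ 2)
    (D : Heis F V 2 (r + 2)) {E : Submonoid (AddMonoid.End V)} (hE : Ops D E) {a : V} (ha : a ∈ D.U)
    (ha0 : a ≠ 0) {e : ℕ} {u v : AddMonoid.End V} (hfr : Frame D E a e u v)
    (hp : (p = 3 ∧ (e = 1 ∨ e = 2)) ∨ (p = 5 ∧ e = 1))
    (hQ : ∀ g, (∀ i, ∃ f L, EMon D E f L ∧ ρ g * D.x i = f * ρ g) ∧
      (∀ i, ∃ f L, EMon D E f L ∧ ρ g * D.z i = f * ρ g) ∧
      ∀ ε ∈ E, ∃ f L, EMon D E f L ∧ ρ g * ε = f * ρ g) : HasBase ρ := by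
  classical
  have hp35 : p = 3 ∨ p = 5 := by rcases hp with h | h <;> simp [h.1]
  -- the two pairs and the rest
  let f₀ : Fin 2 → Fin (r + 2) := fun i => ⟨i, by omega⟩
  have hf₀ : Function.Injective f₀ := fun i j h => Fin.ext (congrArg Fin.val h :)
  choose rr bb dd hrr hdd hδd using fun i : Fin 2 =>
    exists_scale (F := F) hF hp35 D.ξ D.hξ (D.δ (f₀ i)) (D.hδ _)
  let D₀ : Heis F V 2 2 := sub D f₀ hf₀ rr hrr bb
  let D' : Heis F V 2 r := sub D (fun i => i.succ.succ)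
    (fun i j h => Fin.succ_injective _ (Fin.succ_injective _ h)) (fun _ => 1)
    (fun _ => one_ne_zero) (fun _ => false)
  have hD'z : ∀ i, D'.z i = D.z i.succ.succ := fun i => by
    show D.sc 1 * D.z _ = _
    rw [map_one, one_mul]
  have hne : ∀ (i : Fin 2) (j : Fin r), f₀ i ≠ j.succ.succ := fun i j h => by
    have := congrArg Fin.val h
    simp [f₀] at this
    omega
  have hE₀ : Ops D₀ E :=
    { scal := hE.scal
      comm_sc := hE.comm_sc
      comm_x := fun ε h i => hE.comm_x ε h _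
      comm_z := fun ε h i => by
        refine (hE.comm_sc ε h _).mul_right ?_
        split
        exacts [(hE.comm_x ε h _).mul_right (hE.comm_z ε h _), hE.comm_z ε h _] }
  let E' : Submonoid (AddMonoid.End V) :=
    { carrier := {f | ∃ L, EMon D₀ E f L}
      one_mem' := ⟨0, by rw [← map_one D₀.sc]; exact EMon.of_mon (D₀.mon_sc 1)⟩
      mul_mem' := fun ⟨L, hf⟩ ⟨M, hg⟩ => ⟨L + M, hE₀.mul hf hg⟩ }
  have hE'x : ∀ i, D₀.x i ∈ E' := fun i => ⟨0, EMon.of_mon (D₀.mon_x i)⟩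
  have hE'z : ∀ i, D₀.z i ∈ E' := fun i => ⟨_, EMon.of_mon (D₀.mon_z i)⟩
  have hEE' : ∀ ε ∈ E, ε ∈ E' := fun ε h =>
    ⟨0, 1, ε, by rw [← map_one D₀.sc]; exact D₀.mon_sc 1, h, (one_mul ε).symm⟩
  have hgen : ∀ (P : AddMonoid.End V → Prop), (∀ ε ∈ E, P ε) → (∀ a b, P a → P b → P (a * b)) →
      (∀ i, P (D₀.x i) ∧ P (D₀.z i)) → ∀ f ∈ E', P f := by
    rintro P h1 h2 h3 _ ⟨L, _, ε, ⟨κ, k, l, rfl, -⟩, hε, rfl⟩
    have hone : P 1 := h1 1 E.one_mem
    have hpow : ∀ f, P f → ∀ n, P (f ^ n) := fun f hf n => by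
      induction n with
      | zero => rw [pow_zero]; exact hone
      | succ n ih => rw [pow_succ]; exact h2 _ _ ih hf
    refine h2 _ _ (h2 _ _ (h1 _ (hE.scal κ)) (h2 _ _ ?_ ?_)) (h1 ε hε)
    · refine vec_induction (P := fun k => P (D₀.X k)) (by rw [D₀.X_zero]; exact hone)
        (fun a b ha hb => by rw [D₀.X_add]; exact h2 _ _ ha hb)
        (fun i n => by rw [D₀.X_single]; exact hpow _ (h3 i).1 n) k
    · refine vec_induction (P := fun l => P (D₀.Z l)) (by rw [D₀.Z_zero]; exact hone)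
        (fun a b ha hb => by rw [D₀.Z_add]; exact h2 _ _ ha hb)
        (fun i n => by rw [D₀.Z_single]; exact hpow _ (h3 i).2 n) l
  have hE' : Ops D' E' :=
    { scal := fun c => ⟨0, EMon.of_mon (D₀.mon_sc c)⟩
      comm_sc := fun f hf c => hgen (fun f => Commute f (D.sc c)) (fun ε h => hE.comm_sc ε h c)
        (fun _ _ h1 h2 => h1.mul_left h2) (fun i => ⟨(D₀.scx c i).symm, (D₀.scz c i).symm⟩) f hf
      comm_x := fun f hf j => hgen (fun f => Commute f (D'.x j)) (fun ε h => hE.comm_x ε h _)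
        (fun _ _ h1 h2 => h1.mul_left h2) (fun i => ⟨D.xx _ _, by
          refine (D.scx _ _).mul_left ?_
          have h1 := (D.xz j.succ.succ (f₀ i) (hne i j).symm).symm
          split
          exacts [(D.xx _ _).mul_left h1, h1]⟩) f hf
      comm_z := fun f hf j => by
        rw [hD'z]
        exact hgen (fun f => Commute f (D.z j.succ.succ)) (fun ε h => hE.comm_z ε h _)
          (fun _ _ h1 h2 => h1.mul_left h2) (fun i => ⟨D.xz _ _ (hne i j), by
            refine (D.scz _ _).mul_left ?_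
            split
            exacts [(D.xz _ _ (hne i j)).mul_left (D.zz _ _), D.zz _ _]⟩) f hf }
  let PM' : AddMonoid.End V → Prop := fun f => ∃ L, EMon D' E' f L
  have hPM'E : ∀ f ∈ E', PM' f := fun f h =>
    ⟨0, 1, f, by rw [← map_one D'.sc]; exact D'.mon_sc 1, h, (one_mul f).symm⟩
  have hPM'mul : ∀ f g, PM' f → PM' g → PM' (f * g) := fun f g ⟨L, hf⟩ ⟨M, hg⟩ =>
    ⟨L + M, hE'.mul hf hg⟩
  have hcases : ∀ i : Fin (r + 2), (∃ j, i = f₀ j) ∨ ∃ j : Fin r, i = j.succ.succ := by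
    intro i
    rcases Nat.lt_or_ge i 2 with h | h
    · exact Or.inl ⟨⟨i, h⟩, rfl⟩
    · exact Or.inr ⟨⟨i - 2, by omega⟩, Fin.ext (by simp; omega)⟩
  have hPMx : ∀ i, PM' (D.x i) := fun i => by
    rcases hcases i with ⟨j, rfl⟩ | ⟨j, rfl⟩
    exacts [hPM'E _ (hE'x j), ⟨0, EMon.of_mon (D'.mon_x j)⟩]
  have hPMz : ∀ i, PM' (D.z i) := fun i => by
    rcases hcases i with ⟨j, rfl⟩ | ⟨j, rfl⟩
    · refine hPM'E _ ?_
      have hs := E'.mul_mem (hEE' _ (hE.scal (rr j)⁻¹)) (hE'z j)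
      rw [show D₀.z j = D.sc (rr j) * (if bb j then D.x (f₀ j) * D.z (f₀ j) else D.z (f₀ j)) from rfl,
        ← mul_assoc, ← map_mul, inv_mul_cancel₀ (hrr j), map_one, one_mul] at hs
      split at hs
      · have := E'.mul_mem (hE'x j) hs
        rwa [show D₀.x j = D.x (f₀ j) from rfl, ← mul_assoc, ← pow_two, D.xq, one_mul] at this
      · exact hs
    · rw [← hD'z]
      exact ⟨_, EMon.of_mon (D'.mon_z j)⟩
  have hconv : ∀ f L, EMon D E f L → PM' f := by
    rintro _ _ ⟨_, ε, ⟨κ, k, l, rfl, -⟩, hε, rfl⟩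
    have hone : PM' 1 := hPM'E 1 E'.one_mem
    have hpow : ∀ f, PM' f → ∀ n, PM' (f ^ n) := fun f hf n => by
      induction n with
      | zero => rw [pow_zero]; exact hone
      | succ n ih => rw [pow_succ]; exact hPM'mul _ _ ih hf
    refine hPM'mul _ _ (hPM'mul _ _ (hPM'E _ (hEE' _ (hE.scal κ))) (hPM'mul _ _ ?_ ?_))
      (hPM'E _ (hEE' ε hε))
    · refine vec_induction (P := fun k => PM' (D.X k)) (by rw [D.X_zero]; exact hone)
        (fun a b ha hb => by rw [D.X_add]; exact hPM'mul _ _ ha hb)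
        (fun i n => by rw [D.X_single]; exact hpow _ (hPMx i) n) k
    · refine vec_induction (P := fun l => PM' (D.Z l)) (by rw [D.Z_zero]; exact hone)
        (fun a b ha hb => by rw [D.Z_add]; exact hPM'mul _ _ ha hb)
        (fun i n => by rw [D.Z_single]; exact hpow _ (hPMz i) n) l
  have hGx : ∀ g j, ∃ f L, EMon D' E' f L ∧ ρ g * D'.x j = f * ρ g := fun g j => by
    obtain ⟨f, L, hf, ef⟩ := (hQ g).1 j.succ.succ
    obtain ⟨L', hf'⟩ := hconv f L hf
    exact ⟨f, L', hf', ef⟩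
  have hGz : ∀ g j, ∃ f L, EMon D' E' f L ∧ ρ g * D'.z j = f * ρ g := fun g j => by
    obtain ⟨f, L, hf, ef⟩ := (hQ g).2.1 j.succ.succ
    obtain ⟨L', hf'⟩ := hconv f L hf
    exact ⟨f, L', hf', by rw [hD'z]; exact ef⟩
  have hGE' : ∀ g, ∀ f ∈ E', ∃ f' L, EMon D' E' f' L ∧ ρ g * f = f' * ρ g := by
    intro g f hf
    obtain ⟨f', L, hf', ef⟩ : ∃ f' L, EMon D E f' L ∧ ρ g * f = f' * ρ g := by
      have hm : ∀ a b, (∃ f' L, EMon D E f' L ∧ ρ g * a = f' * ρ g) →
          (∃ f' L, EMon D E f' L ∧ ρ g * b = f' * ρ g) →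
          ∃ f' L, EMon D E f' L ∧ ρ g * (a * b) = f' * ρ g :=
        fun a b ⟨a', L, ha, ea⟩ ⟨b', M, hb, eb⟩ => ⟨a' * b', L + M, hE.mul ha hb, by
          rw [← mul_assoc, ea, mul_assoc, eb, mul_assoc]⟩
      refine hgen _ (hQ g).2.2 hm (fun i => ⟨(hQ g).1 _, ?_⟩) f hf
      refine hm _ _ ((hQ g).2.2 _ (hE.scal _)) ?_
      split
      exacts [hm _ _ ((hQ g).1 _) ((hQ g).2.1 _), (hQ g).2.1 _]
    obtain ⟨L', hf''⟩ := hconv f' L hf'
    exact ⟨f', L', hf'', ef⟩
  -- the model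
  have hcfg : (p = 3 ∧ (e = 1 ∨ e = 2) ∧ dd 0 = 1 ∧ dd 1 = 1) ∨
      (p = 5 ∧ e = 1 ∧ (dd 0 = 1 ∨ dd 0 = 2) ∧ (dd 1 = 1 ∨ dd 1 = 2)) := by
    rcases hp with ⟨rfl, he⟩ | ⟨rfl, rfl⟩
    · refine Or.inl ⟨rfl, he, ?_, ?_⟩ <;>
        exact ((hdd _).resolve_right fun h => absurd h.1 (by norm_num)).2
    · refine Or.inr ⟨rfl, rfl, ?_, ?_⟩ <;>
        exact ((hdd _).resolve_left fun h => absurd h.1 (by norm_num)).2
  obtain ⟨C, hCp, hCe, hC0, hC1, hcheck, hextra⟩ := Model.exists_cfg hcfg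
  subst hCp hCe
  have haD₀ : a ∈ D₀.U := fun i => ha _
  have haU' : a ∈ D'.U := fun i => ha _
  have hSt : Std D₀ C a u v :=
    { hp := hpp.out
      charP := inferInstance
      cardF := hF
      he := hfr.he
      d0 := by rw [hC0]; exact hδd 0
      d1 := by rw [hC1]; exact hδd 1
      ha := haD₀
      ha0 := ha0
      plane := fun h => by
        obtain ⟨hu, hv, h1, h2, h3, h4⟩ := hfr.plane h
        exact ⟨fun c => hE₀.comm_Z hu _, fun c => hE₀.comm_Z hv _, hE₀.mem_U hu haD₀, h1, h2, h3,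
          h4⟩ }
  set bas : ℕ → V := basV D₀ a u C.e with hbas
  have hnf : ∀ f ∈ E', f = 0 ∨ ∃ o ∈ C.ops, f = realV D₀ u v o := by
    rintro _ ⟨L, _, ε, ⟨κ, k, l, rfl, -⟩, hε, rfl⟩
    obtain ⟨c, i, hi, rfl⟩ := hfr.form ε hε
    have h1 : D₀.sc κ * (D₀.X k * D₀.Z l) * (D.sc c * kk u v i) =
        D₀.sc (κ * c) * (D₀.X k * (D₀.Z l * kk u v i)) := by
      rw [show D.sc c = D₀.sc c from rfl, mul_assoc (D₀.sc κ), ← mul_assoc (D₀.X k * D₀.Z l),
        ← ((D₀.commute_X_sc c k).mul_right (D₀.commute_Z_sc c l)).eq, map_mul]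
      simp only [mul_assoc]
    rw [h1]
    exact hSt.exists_op k l (κ * c) hi
  have hkkE : ∀ i < C.e * C.e, kk u v i ∈ E := by
    intro i hi
    rcases hfr.he with h | h
    · rw [h, mul_one, Nat.lt_one_iff] at hi
      subst hi
      simp only [kk, Nat.zero_testBit, Bool.false_eq_true, if_false, mul_one]
      exact E.one_mem
    · obtain ⟨hu, hv, -⟩ := hfr.plane h
      refine E.mul_mem ?_ ?_ <;> split_ifs
      exacts [hu, E.one_mem, hv, E.one_mem]
  have hrealE : ∀ o ∈ C.ops, realV D₀ u v o ∈ E' := by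
    intro o ho
    obtain ⟨-, -, hi, -, -⟩ := hSt.mem_ops.1 ho
    refine E'.mul_mem (hE'.scal _) (E'.mul_mem ?_ (E'.mul_mem ?_ (hEE' _ (hkkE _ hi))))
    · refine E'.mul_mem ?_ ?_ <;> split_ifs
      exacts [hE'x 0, E'.one_mem, hE'x 1, E'.one_mem]
    · refine E'.mul_mem ?_ ?_ <;> split_ifs
      exacts [hE'z 0, E'.one_mem, hE'z 1, E'.one_mem]
  have hbasU : ∀ j, bas j ∈ D'.U := fun j => by
    refine hE'.mem_U ?_ ?_
    · exact ⟨_, EMon.of_mon ⟨1, 0, lift (bitVec 2 (j / C.e)), by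
        rw [map_one, one_mul, D₀.X_zero, one_mul]; rfl, rfl⟩⟩
    · split
      · exact haU'
      · rename_i h
        rcases hfr.he with h' | h'
        · rw [h'] at h; exact absurd (Nat.mod_one j) h
        · exact hE'.mem_U (hEE' _ (hfr.plane h').1) haU'
  have hvalU : ∀ x, C.val bas x ∈ D'.U := fun x =>
    D'.U.sum_mem fun j _ => D'.U.nsmul_mem (hbasU j) _
  have hsurj : ∀ w ∈ D'.U, ∃ x, C.IsVec x ∧ C.val bas x = w := by
    haveI : NeZero C.p := ⟨hpp.out.ne_zero⟩
    let S : AddSubmonoid V :=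
      { carrier := {w | ∃ x, C.IsVec x ∧ C.val bas x = w}
        zero_mem' := ⟨(List.range C.N).map fun _ => 0, C.isVec_map_range _ fun _ _ => hpp.out.pos, by
          rw [C.val_map]; simp⟩
        add_mem' := by
          rintro _ _ ⟨x, hx, rfl⟩ ⟨y, hy, rfl⟩
          refine ⟨(List.range C.N).map fun j => (x.getD j 0 + y.getD j 0) % C.p,
            C.isVec_map_range _ fun _ _ => Nat.mod_lt _ hpp.out.pos, ?_⟩
          rw [C.val_map, Model.Cfg.val, Model.Cfg.val, ← Finset.sum_add_distrib]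
          refine Finset.sum_congr rfl fun j _ => ?_
          rw [nsmul_eq_sc D.sc, hSt.cast_mod, ← nsmul_eq_sc, add_smul] }
    have hSb : ∀ j < C.N, bas j ∈ S := fun j hj =>
      ⟨C.unit j, C.isVec_unit hpp.out.one_lt j, C.val_unit _ hj⟩
    have hsc : ∀ (c : F) (j : ℕ), j < C.N → D.sc c (bas j) ∈ S := fun c j hj => by
      obtain ⟨n, -, rfl⟩ := hSt.exists_natCast c
      rw [← nsmul_eq_sc]
      exact nsmul_mem (hSb j hj) n
    intro w hw
    show w ∈ S
    rw [← D₀.sum_proj w]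
    refine sum_mem fun c _ => ?_
    obtain ⟨u', hu', e'⟩ := D₀.exists_slot c (fun i => D₀.x_proj i c w)
    rw [← e']
    have hprojU : D₀.proj c w ∈ D'.U := by
      refine D'.sc_mem (D'.U.sum_mem fun k _ => D'.sc_mem (hE'.mem_U ?_ hw) _) _
      exact ⟨_, EMon.of_mon ⟨1, lift k, 0, by
        rw [map_one, one_mul, D₀.Z_zero, mul_one], rfl⟩⟩
    have hu'U : u' ∈ D.U := by
      intro i
      rcases hcases i with ⟨j, rfl⟩ | ⟨j, rfl⟩
      · exact hu' j
      · refine sub_eq_zero.1 (D₀.slot_injective c ?_)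
        have h1 : Commute (D'.x j) (D₀.slot c) := (hE'.comm_x _ ⟨_, EMon.of_mon
          ⟨1, 0, lift c, by rw [map_one, one_mul, D₀.X_zero, one_mul]; rfl, rfl⟩⟩ j).symm
        rw [map_sub, sub_eq_zero, show D.x j.succ.succ = D'.x j from rfl, ← comm_apply h1, e',
          hprojU j]
    obtain ⟨A, B, rfl⟩ := hfr.span u' hu'U
    obtain ⟨n, hn4, rfl⟩ : ∃ n < 4, bitVec 2 n = c := exists_code c
    have he0 : 0 < C.e := by rcases hfr.he with h | h <;> omega
    rw [map_add]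
    refine add_mem ?_ ?_
    · rw [show D.sc A = D₀.sc A from rfl, slot_sc D₀]
      have := hsc A (n * C.e) (by rw [Model.Cfg.N]; exact Nat.mul_lt_mul_of_pos_right hn4 he0)
      rwa [hbas, basV, Nat.mul_div_cancel _ he0, Nat.mul_mod_left, if_pos rfl] at this
    · split_ifs with h
      · rw [show D.sc B = D₀.sc B from rfl, slot_sc D₀]
        have := hsc B (n * 2 + 1) (by rw [Model.Cfg.N, h]; omega)
        rw [hbas, basV, h, show (n * 2 + 1) / 2 = n by omega, show (n * 2 + 1) % 2 = 1 by omega,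
          if_neg one_ne_zero] at this
        exact this
      · rw [map_zero]; exact zero_mem _
  -- the vectors of the model
  simp only [Model.Cfg.extra, Bool.and_eq_true, decide_eq_true_eq, List.all_eq_true, Bool.or_eq_true,
    beq_iff_eq, Bool.not_eq_true', beq_eq_false_iff_ne, ne_eq] at hextra
  obtain ⟨⟨⟨⟨⟨hgenA, hlen⟩, hvec⟩, hsep⟩, hnd⟩, hgenO⟩ := hextra
  have hEig : ∀ x, C.IsVec x → C.scale 0 x ≠ x → C.genB x = true →
      Eig D' E' (C.val bas x) := by
    intro x hx hx0 hg f hf c hfx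
    have hv0 := hSt.val_ne_zero hx hx0
    rcases hnf f hf with rfl | ⟨o, ho, rfl⟩
    · rw [D.sc_eq_zero (a := c) (hfx.symm.trans rfl) hv0]
      exact (map_zero D.sc).symm
    rw [hbas, hSt.op_val ho hx] at hfx
    simp only [Model.Cfg.genB, List.all_eq_true, Bool.or_eq_true, Bool.and_eq_true, beq_iff_eq,
      Bool.not_eq_true', beq_eq_false_iff_ne, ne_eq, List.mem_range] at hg
    rcases hg o ho with ⟨⟨h1, h2⟩, h3⟩ | h
    · have hsc : realV D₀ u v o = D₀.sc (o.1 : F) := by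
        rw [realV, h1, h2, h3]
        simp [bx, bz, kk]
      rw [← hSt.op_val ho hx, hsc] at hfx
      rw [hsc]
      exact congrArg D.sc (D.sc_cancel hfx hv0)
    · exfalso
      obtain ⟨n, hn, rfl⟩ := hSt.exists_natCast c
      exact h n hn (hSt.val_inj (C.isVec_op hpp.out.pos hx) (hSt.isVec_scale hx n)
        (hfx.trans (hSt.scale_val n hx)))
  have hsepV : ∀ x ∈ C.a :: C.others, ∀ y ∈ C.a :: C.others, ∀ f ∈ E',
      f (C.val bas x) = C.val bas y → x = y := by
    intro x hx y hy f hf hfxy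
    by_contra hne'
    have hs := ((hsep x hx) y hy).resolve_left hne'
    simp only [Model.Cfg.sepB, List.all_eq_true, Bool.not_eq_true', beq_eq_false_iff_ne, ne_eq] at hs
    rcases hnf f hf with rfl | ⟨o, ho, rfl⟩
    · exact hSt.val_ne_zero (hvec y hy).1 (hvec y hy).2 hfxy.symm
    · rw [hbas, hSt.op_val ho (hvec x hx).1] at hfxy
      exact hs o ho (hSt.val_inj (C.isVec_op hpp.out.pos (hvec x hx).1) (hvec y hy).1 hfxy)
  obtain ⟨haV, haV0⟩ := hvec C.a List.mem_cons_self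
  set a' := C.val bas C.a with ha'def
  have ha'U : a' ∈ D'.U := hvalU _
  have ha'0 : a' ≠ 0 := hSt.val_ne_zero haV haV0
  have hA' : Eig D' E' a' := hEig _ haV haV0 hgenA
  have hinj : ∀ g, Function.Injective (ρ g) := CfsgLib.OddBase.apply_injective ρ
  -- the stabiliser of the first vector on the fixed space of the rest
  let Y : Subgroup X :=
    { carrier := {g | ρ g a' = a'}
      one_mem' := by show ρ 1 a' = a'; rw [map_one]; rfl
      mul_mem' := fun {g h} hg hh => by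
        show ρ (g * h) a' = a'
        rw [CfsgLib.OddBase.map_mul_apply, hh, hg]
      inv_mem' := fun {g} hg => by
        show ρ g⁻¹ a' = a'
        conv_lhs => rw [← hg, CfsgLib.OddBase.inv_apply] }
  have hYU : CfsgLib.OddBase.Inv (ρ.comp Y.subtype) D'.U := fun g x hx =>
    (U_map (hinj g) (diag hE' ha'U ha'0 hA' (hGx g) g.2)).1 x hx
  let basU : ℕ → D'.U := fun j => ⟨bas j, hbasU j⟩
  let realU : Model.Op → AddMonoid.End D'.U := fun o =>
    if h : o ∈ C.ops then
      AddMonoidHom.codRestrict ((realV D₀ u v o).comp D'.U.subtype) D'.U fun x =>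
        hE'.mem_U (hrealE o h) x.2
    else 0
  have hcoe : ∀ x, ((C.val basU x : D'.U) : V) = C.val bas x := fun x => by
    show D'.U.subtype (C.val basU x) = _
    rw [Model.Cfg.val, map_sum]
    simp only [map_nsmul]
    rfl
  have hR : C.Realises basU realU :=
    { exp := fun w => Subtype.ext (hSt.exp (w : V))
      inj := fun x y hx hy h => hSt.val_inj hx hy (by
        rw [← hbas, ← hcoe, ← hcoe, h])
      surj := fun w => by
        obtain ⟨x, hx, hxw⟩ := hsurj w w.2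
        exact ⟨x, hx, Subtype.ext ((hcoe x).trans hxw)⟩
      op := fun o ho x hx => Subtype.ext (by
        rw [hcoe, show realU o = _ from dif_pos ho]
        show realV D₀ u v o ((C.val basU x : D'.U) : V) = _
        rw [hcoe, hbas, hSt.op_val ho hx]) }
  have hYc : ¬ C.p ∣ Nat.card Y := fun h => hc (h.trans (Subgroup.card_subgroup_dvd_card Y))
  obtain ⟨⟨b, hb⟩, hfixU⟩ := C.exists_second hR hcheck hpp.out hYc
    (CfsgLib.OddBase.res (ρ.comp Y.subtype) D'.U hYU)
    (fun g o ho => by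
      obtain ⟨f', L, hf', ef⟩ := hGE' g _ (hrealE o ho)
      obtain ⟨ε, hε, hρ⟩ := hE'.apply_slot hf'
      have e1 := appG ef a'
      rw [show ρ (g : X) a' = a' from g.2, hρ a' ha'U] at e1
      have hreal0 : ρ (g : X) (realV D₀ u v o a') ≠ 0 := by
        intro h0
        have h1 := (hinj g) (h0.trans (map_zero _).symm)
        obtain ⟨h2, h3, -, -, -⟩ := hSt.mem_ops.1 ho
        rw [ha'def, hbas, hSt.op_val ho haV] at h1
        rcases (List.all_eq_true.1 hgenA o ho |> Bool.or_eq_true_iff.1) with h | h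
        · simp only [Bool.and_eq_true, beq_iff_eq] at h
          have hop : C.op o C.a = C.scale o.1 C.a := by
            simp [Model.Cfg.op, h.1.1, h.1.2, h.2, Model.Cfg.eApp, Model.Cfg.zApp, Model.Cfg.xApp]
          rw [hop, ← hSt.scale_val _ haV] at h1
          have := D.sc_eq_zero h1 ha'0
          rw [CharP.cast_eq_zero_iff F C.p] at this
          exact absurd (Nat.le_of_dvd (by omega) this) (by omega)
        · simp only [List.all_eq_true, List.mem_range, Bool.not_eq_true', beq_eq_false_iff_ne,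
            ne_eq] at h
          refine h 0 hpp.out.pos (hSt.val_inj (C.isVec_op hpp.out.pos haV)
            (hSt.isVec_scale haV 0) (h1.trans ?_))
          rw [← hSt.scale_val 0 haV, Nat.cast_zero, map_zero]
          rfl
      have hmemU : ρ (g : X) (realV D₀ u v o a') ∈ D'.U :=
        hYU g _ (hE'.mem_U (hrealE o ho) ha'U)
      have hεne : ε a' ≠ 0 := fun z => hreal0 (by rw [e1, z, map_zero])
      have hL : L = 0 := D'.slot_index_eq (hE'.mem_U hε ha'U) hmemU
        (by rw [D'.slot_zero]; exact e1.symm) hεne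
      rcases hnf ε hε with rfl | ⟨o', ho', rfl⟩
      · exact absurd rfl hεne
      refine ⟨o', ho', fun w => Subtype.ext ?_⟩
      rw [show realU o = _ from dif_pos ho, show realU o' = _ from dif_pos ho']
      show ρ (g : X) (realV D₀ u v o (w : V)) = realV D₀ u v o' (ρ (g : X) (w : V))
      rw [appG ef, hρ (ρ (g : X) (w : V)) (hYU g _ w.2), hL, D'.slot_zero]
      rfl)
    (fun g => Subtype.ext (by
      rw [CfsgLib.OddBase.res_apply, hcoe]
      exact g.2))
  have hfix : ∀ g, ρ g a' = a' → ρ g b = b → ∀ x ∈ D'.U, ρ g x = x := fun g hg hgb x hx =>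
    congrArg (fun f : AddMonoid.End D'.U => ((f ⟨x, hx⟩ : D'.U) : V))
      (hfixU ⟨g, hg⟩ (Subtype.ext hgb))
  have hσ : ∀ g c, Commute (ρ g) (D.sc c) := fun g c => by
    obtain ⟨n, -, rfl⟩ := hSt.exists_natCast c
    rw [map_natCast]
    exact Nat.commute_cast _ n
  rcases (show r = 0 ∨ r = 1 ∨ r = 2 by omega) with rfl | rfl | rfl
  · exact ⟨a', b, fun g hga hgb => CfsgLib.OddBase.ext_end fun x =>
      hfix g hga hgb x fun i => i.elim0⟩
  · obtain ⟨w, hw⟩ := exists_vector hE' ha'U ha'0 hA' (colours_one ha'U ha'0) (fun _ => 1)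
      (fun _ => le_rfl) (by
        rw [show {c : Fin 1 → ZMod 2 | c ≠ 0 ∧ (1 : ℕ) = 0} = ∅ from by ext c; simp]
        exact pins_empty) hb
    refine ⟨a', w, fun g hga hgw => ?_⟩
    obtain ⟨-, hgb, hrest⟩ := hw (ρ g) id (hinj g) (fun c => (hσ g c).eq) (hGx g) (hGz g) hga hgw
    obtain ⟨h, R, hS, -, hG⟩ := hrest (hfix g hga hgb)
    refine hG fun c => ?_
    have h2 : ∀ c d : Fin 1 → ZMod 2, c ≠ 0 → d ≠ 0 → c = d := by decide
    by_cases hc0 : c = 0
    · rw [hc0, map_zero]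
    · exact h2 _ _ (fun z => hc0 (hS.inj (z.trans (map_zero h).symm))) hc0
  rcases hp35 with h3 | h5
  · obtain ⟨o, ho⟩ : ∃ o, C.others = [o] := List.length_eq_one_iff.1 (by rw [hlen, h3])
    have homem : o ∈ C.a :: C.others := by simp [ho]
    obtain ⟨hoV, ho0⟩ := hvec o homem
    set a₂ := C.val bas o with ha₂
    have ha₂U : a₂ ∈ D'.U := hvalU _
    have ha₂0 : a₂ ≠ 0 := hSt.val_ne_zero hoV ho0
    have hao : C.a ≠ o := fun h => by
      rw [ho, h] at hnd
      simp at hnd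
    let H : Subgroup X :=
      { carrier := {g | ∀ x ∈ D'.U, ρ g x = x}
        one_mem' := fun x _ => by rw [map_one]; rfl
        mul_mem' := fun {g h} hg hh x hx => by
          rw [CfsgLib.OddBase.map_mul_apply, hh x hx, hg x hx]
        inv_mem' := fun {g} hg x hx => by
          conv_lhs => rw [← hg x hx, CfsgLib.OddBase.inv_apply] }
    obtain ⟨φ, hφ⟩ := exists_shiftHom (ρ.comp H.subtype) ha'U ha'0 hE' (fun g => hinj g)
      (fun g x hx => g.2 x hx) fun g =>
        exists_shift hE' ha'U ha'0 (hinj g) (diag hE' ha'U ha'0 hA' (hGx g) (g.2 a' ha'U))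
          (hGz g) (g.2 a' ha'U)
    have hHc : ¬ C.p ∣ Nat.card H := fun h => hc (h.trans (Subgroup.card_subgroup_dvd_card H))
    have hP : NoThree (Set.range fun g => φ g) := by
      constructor
      · rintro _ ⟨g, rfl⟩
        exact CfsgLib.OddBase.apply_injective φ g
      · rintro _ ⟨g, rfl⟩ _ ⟨g', rfl⟩
        exact ⟨g * g', map_mul φ g g'⟩
      · rintro _ ⟨g, rfl⟩ h3'
        have := eq_one_of_pow_prime φ Nat.prime_three (h3 ▸ hHc) (g := g) (DFunLike.ext _ _ h3')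
        intro c
        exact congrArg (fun f : AddMonoid.End _ => f c) this
    obtain ⟨c₁, c₂, h1, h2, h12, hpt⟩ := exists_point hP
    have h30 : c₁ + c₂ ≠ 0 := fun z => h12 (CharTwo.add_eq_zero.1 z)
    let f : (Fin 2 → ZMod 2) → V := fun c => if c = 0 then b else if c = c₁ + c₂ then a₂ else a'
    have hfU : ∀ c, f c ∈ D'.U := fun c => by
      simp only [f]; split_ifs
      exacts [hb, ha₂U, ha'U]
    refine ⟨a', ∑ c, D'.slot c (f c), fun g hga hgw => ?_⟩
    have hK := diag hE' ha'U ha'0 hA' (hGx g) hga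
    obtain ⟨hUmap, -⟩ := U_map (hinj g) hK
    obtain ⟨h, R, hS⟩ := exists_shift hE' ha'U ha'0 (hinj g) hK (hGz g) hga
    have hcomp := components hE' hS hUmap hfU hgw
    have hgb : ρ g b = b := by
      have e1 := hcomp 0
      simp only [f, map_zero, if_pos] at e1
      have e3 := hS.slot 0 b hb
      rw [map_zero, D'.slot_zero, e1] at e3
      simpa [CfsgLib.OddBase.one_apply'] using e3
    have hU := hfix g hga hgb
    have hc' : ∀ c, R c (f c) = f (h c) := fun c => by rw [← hcomp, hU _ (hfU c)]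
    have hfc1 : f c₁ = a' := by
      simp only [f, if_neg h1]
      rw [if_neg fun e => h2 (left_eq_add.1 e)]
    have hfc2 : f c₂ = a' := by
      simp only [f, if_neg h2]
      rw [if_neg fun e => h1 (right_eq_add.1 e)]
    have hfc3 : f (c₁ + c₂) = a₂ := by simp only [f, if_neg h30, if_true]
    have hh3 : h (c₁ + c₂) = c₁ + c₂ := by
      have e := hc' (c₁ + c₂)
      rw [hfc3] at e
      by_contra hne'
      have hh0 : h (c₁ + c₂) ≠ 0 := fun z => h30 (hS.inj (z.trans (map_zero h).symm))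
      simp only [f, if_neg hh0, if_neg hne'] at e
      exact hao (hsepV o homem C.a List.mem_cons_self _ (hS.mem _) e).symm
    have hid : ∀ c, h c = c := by
      have hgH : g ∈ H := hU
      have := hpt _ ⟨⟨g, hgH⟩, rfl⟩ ((hφ ⟨g, hgH⟩ h R hS _).trans hh3)
      intro c
      rw [← hφ ⟨g, hgH⟩ h R hS c]
      exact this c
    have hR1 : R c₁ a' = a' := by
      have e := hc' c₁
      rwa [hid, hfc1] at e
    have hR2 : R c₂ a' = a' := by
      have e := hc' c₂
      rwa [hid, hfc2] at e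
    have hR3 : R (c₁ + c₂) a₂ = a₂ := by
      have e := hc' (c₁ + c₂)
      rwa [hid, hfc3] at e
    have hR0 : R 0 a' = a' := by
      have e3 := hS.slot 0 a' ha'U
      rw [map_zero, D'.slot_zero, hga] at e3
      exact (hga.symm.trans e3).symm
    have h4 : ∀ c₁ c₂ : Fin 2 → ZMod 2, c₁ ≠ 0 → c₂ ≠ 0 → c₁ ≠ c₂ →
        ∀ c, c = 0 ∨ c = c₁ ∨ c = c₂ ∨ c = c₁ + c₂ := by decide
    refine eq_one_of_pins hE' ha'U ha'0 hA' (α := id) (fun c => (hσ g c).eq) hS hU hid pins_empty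
      fun c _ => ?_
    rcases h4 c₁ c₂ h1 h2 h12 c with rfl | rfl | rfl | rfl
    exacts [hR0, hR1, hR2, fix_add hE' ha'U ha'0 hA' (hσ g) hS hU hid hR1 hR2 ha₂U ha₂0 hR3]
  · have hgenO' : ∀ x ∈ C.others, C.genB x = true := hgenO.resolve_left (by omega)
    have hlen3 : (C.a :: C.others).length = 3 := by rw [List.length_cons, hlen, h5]
    let vv : Fin 3 → List ℕ := fun i => (C.a :: C.others)[(i : ℕ)]'(hlen3.symm ▸ i.2)
    have hvv : ∀ i, vv i ∈ C.a :: C.others := fun i => List.getElem_mem _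
    have hvg : ∀ i, C.genB (vv i) = true := fun i => by
      rcases List.mem_cons.1 (hvv i) with h | h
      · rw [h]; exact hgenA
      · exact hgenO' _ h
    have hC3 : Colours D' E' a' 3 :=
      colours_of_orbits (fun i => C.val bas (vv i)) (by norm_num) (fun i => hvalU _)
        (fun i => hSt.val_ne_zero (hvec _ (hvv i)).1 (hvec _ (hvv i)).2)
        (fun i => hEig _ (hvec _ (hvv i)).1 (hvec _ (hvv i)).2 (hvg i))
        fun i j ε hε he => Fin.ext ((List.Nodup.getElem_inj_iff hnd).1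
          (hsepV _ (hvv i) _ (hvv j) ε hε he))
    obtain ⟨κ, hκ, hpins, hκid⟩ := exists_three_colours (s := 2) le_rfl (by norm_num)
    obtain ⟨w, hw⟩ := exists_vector hE' ha'U ha'0 hA' hC3 κ hκ hpins hb
    refine ⟨a', w, fun g hga hgw => ?_⟩
    obtain ⟨-, hgb, hrest⟩ := hw (ρ g) id (hinj g) (fun c => (hσ g c).eq) (hGx g) (hGz g) hga hgw
    obtain ⟨h, R, hS, hpres, hG⟩ := hrest (hfix g hga hgb)
    exact hG (hκid h hS.inj hpres)

end CfsgLib.CoprimeBase
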