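import Cfsg.Agent.Lib.LinearPPart.Main
import Cfsg.Agent.Lib.SolBase.Field
import Cfsg.Agent.Lib.CoprimeBase.Peel
import Cfsg.Agent.Lib.CoprimeBase.Count
import Cfsg.Agent.Lib.CoprimeBase.OddPattern

/-!
# Two vectors for a coprime solvable group normalizing a field
-/

set_option autoImplicit false
set_option maxHeartbeats 1600000

universe u

namespace CfsgLib.CoprimeBase

open CfsgLib.LinearPPart
open CfsgLib.OddBase (Inv CR HasBase res res_apply Heis exists_normal_pair ext_end)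
open CfsgLib.SolBase (EMon Extra exists_good_pairs exists_normal_pair_root isSquare_mul_of_not
  exists_elem_factor exists_one_point)

/-- The line over two elements has one non-zero vector. -/
theorem fun_one_eq : ∀ c d : Fin 1 → ZMod 2, c ≠ 0 → d ≠ 0 → c = d := by decide

theorem field_case {p : ℕ} [hp : Fact p.Prime] {X : Type u} [Group X] [Finite X] {V : Type u}
    [AddCommGroup V] [Finite V] [Nontrivial V] (hp2 : p ≠ 2) (hsolv : Group.IsSolvable X)
    (hV : ∀ x : V, p • x = 0) (hc : ¬ p ∣ Nat.card X)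
    (IH : SmallBaseC.{u, u} (Nat.card V)) (ρ : X →* AddMonoid.End V) (hρ : Function.Injective ρ)
    {F : Type u} [Field F] [Finite F] (σ : F →+* AddMonoid.End V)
    (A : Subgroup X) [hAn : A.Normal] (hAab : ∀ a ∈ A, ∀ b ∈ A, a * b = b * a)
    (hmax : ∀ B : Subgroup X, B.Normal → (∀ a ∈ B, ∀ b ∈ B, a * b = b * a) → A ≤ B → B = A)
    (hA : ∀ a ∈ A, ∃ r, σ r = ρ a)
    (hgen : ∀ f : AddMonoid.End V, (∀ a ∈ A, Commute f (ρ a)) → ∀ r, Commute f (σ r))
    (hnorm : ∀ g r, ∃ r', σ r' = ρ g * σ r * ρ g⁻¹) : HasBase ρ := by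
  have hpA : ¬ p ∣ Nat.card A := fun h => hc (h.trans (Subgroup.card_subgroup_dvd_card A))
  classical
  haveI hnt : Nontrivial (AddMonoid.End V) := ⟨⟨1, 0, fun h => by
    obtain ⟨x, hx⟩ := exists_ne (0 : V)
    exact hx (congrArg (fun k : AddMonoid.End V => k x) h)⟩⟩
  have hσ : Function.Injective σ := σ.injective
  have hp0 : ((p : ℕ) : F) = 0 := hσ (by
    rw [map_natCast, map_zero]
    exact DFunLike.ext _ _ fun x => (AddMonoid.End.natCast_apply p x).trans (hV x))
  haveI : CharP F p := (CharP.charP_iff_prime_eq_zero hp.out).mpr hp0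
  set X₀ := Subgroup.centralizer (A : Set X) with hX₀
  haveI : X₀.Normal := Subgroup.normal_centralizer
  have hX₀A : ∀ g ∈ X₀, ∀ a ∈ A, a * g = g * a := fun g hg a ha => Subgroup.mem_centralizer_iff.mp hg a ha
  have hX₀σ : ∀ g ∈ X₀, ∀ r, Commute (ρ g) (σ r) := fun g hg => hgen _ fun a ha => by
    rw [Commute, SemiconjBy, ← map_mul, ← map_mul, hX₀A g hg a ha]
  have hAX₀ : A ≤ X₀ := fun a ha => Subgroup.mem_centralizer_iff.mpr fun b hb => hAab b hb a ha
  -- the action on the field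
  choose α₀ hα₀ using hnorm
  have hα₀' : ∀ g r, ρ g * σ r = σ (α₀ g r) * ρ g := fun g r => by
    rw [hα₀, mul_assoc, rho_inv_mul, mul_one]
  let α : X → F →+* F := fun g =>
    { toFun := α₀ g
      map_one' := hσ (by rw [hα₀, map_one, mul_one, ← map_mul, mul_inv_cancel, map_one])
      map_zero' := hσ (by rw [hα₀, map_zero, mul_zero, zero_mul])
      map_mul' := fun a b => hσ (by
        rw [map_mul, hα₀, hα₀, hα₀, map_mul, show ρ g * σ a * ρ g⁻¹ * (ρ g * σ b * ρ g⁻¹) =
          ρ g * σ a * (ρ g⁻¹ * ρ g) * σ b * ρ g⁻¹ by simp only [mul_assoc], rho_inv_mul, mul_one]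
        simp only [mul_assoc])
      map_add' := fun a b => hσ (by rw [map_add, hα₀, hα₀, hα₀, map_add, mul_add, add_mul]) }
  have hα : ∀ g r, ρ g * σ r = σ (α g r) * ρ g := hα₀'
  have hfix : ∀ g, (∀ r, Commute (ρ g) (σ r)) → g ∈ X₀ := fun g hg =>
    Subgroup.mem_centralizer_iff.mpr fun a ha => by
      obtain ⟨r, hr⟩ := hA a ha
      apply hρ
      rw [map_mul, map_mul, ← hr]
      exact (hg r).eq.symm
  by_cases hXA : X₀ ≤ A
  · obtain ⟨γ, hγ⟩ := IsCyclic.exists_monoid_generator (α := Fˣ)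
    obtain ⟨v, hv⟩ := exists_ne (0 : V)
    have hσz : ∀ r : F, σ r v = 0 → r = 0 := fun r h => by
      by_contra hr
      apply hv
      have := congrArg (σ r⁻¹) h
      rwa [map_zero, ← CfsgLib.OddBase.mul_apply', ← map_mul, inv_mul_cancel₀ hr, map_one] at this
    refine ⟨v, σ (γ : F) v, fun g h1 h2 => ?_⟩
    rw [← CfsgLib.OddBase.mul_apply', hα, CfsgLib.OddBase.mul_apply', h1] at h2
    have hγfix : α g γ = γ := sub_eq_zero.1 (hσz _ (by rw [map_sub]; exact sub_eq_zero.2 h2))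
    have hid : ∀ r, α g r = r := by
      intro r
      by_cases hr : r = 0
      · rw [hr, map_zero]
      · obtain ⟨n, hn⟩ := (Submonoid.mem_powers_iff _ _).1 (hγ (Units.mk0 r hr))
        have e : r = (γ : F) ^ n := by rw [← Units.val_pow_eq_pow_val, hn]; rfl
        rw [e, map_pow, hγfix]
    obtain ⟨r, hr⟩ := hA g (hXA (hfix g fun r => (hα g r).trans (by rw [hid]) ))
    have hr1 : r - 1 = 0 := hσz _ (by
      rw [map_sub, map_one, hr]
      exact sub_eq_zero.2 h1)
    rw [← hr, sub_eq_zero.1 hr1, map_one]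
  -- an elementary abelian normal factor above `A`, with small centralizer if it is a two-factor
  obtain ⟨B, q, hq, hBn, hAB, hBX, hBne, hBq, hBcomm, hB2⟩ : ∃ (B : Subgroup X) (q : ℕ), q.Prime ∧
      B.Normal ∧ A ≤ B ∧ B ≤ X₀ ∧ B ≠ A ∧ (∀ x ∈ B, x ^ q ∈ A) ∧
      (∀ x ∈ B, ∀ y ∈ B, x * y * x⁻¹ * y⁻¹ ∈ A) ∧
      (q = 2 → Subgroup.centralizer (B : Set X) ≤ A) := by
    haveI := hsolv
    by_cases hodd : ∃ (B : Subgroup X) (q : ℕ), q.Prime ∧ B.Normal ∧ A ≤ B ∧ B ≤ X₀ ∧ B ≠ A ∧
        (∀ x ∈ B, x ^ q ∈ A) ∧ (∀ x ∈ B, ∀ y ∈ B, x * y * x⁻¹ * y⁻¹ ∈ A) ∧ q ≠ 2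
    · obtain ⟨B, q, h1, h2, h3, h4, h5, h6, h7, h8⟩ := hodd
      exact ⟨B, q, h1, h2, h3, h4, h5, h6, h7, fun e => absurd e h8⟩
    have htwo : ∀ (B : Subgroup X) (q : ℕ), q.Prime → B.Normal → A ≤ B → B ≤ X₀ → B ≠ A →
        (∀ x ∈ B, x ^ q ∈ A) → (∀ x ∈ B, ∀ y ∈ B, x * y * x⁻¹ * y⁻¹ ∈ A) → q = 2 :=
      fun B q h1 h2 h3 h4 h5 h6 h7 => by
        by_contra h8
        exact hodd ⟨B, q, h1, h2, h3, h4, h5, h6, h7, h8⟩
    obtain ⟨B₀, q₀, g1, g2, g3, g4, g5, g6, g7⟩ := exists_elem_factor A X₀ hAX₀ hXA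
    obtain rfl := htwo B₀ q₀ g1 g2 g3 g4 g5 g6 g7
    haveI : Finite (Subgroup X) :=
      Finite.of_injective (fun H => (H : Set X)) SetLike.coe_injective
    obtain ⟨B, ⟨h2, h3, h4, h5, h6, h7⟩, hBmax⟩ := (Set.toFinite {B : Subgroup X | B.Normal ∧ A ≤ B ∧
      B ≤ X₀ ∧ B ≠ A ∧ (∀ x ∈ B, x ^ 2 ∈ A) ∧
      (∀ x ∈ B, ∀ y ∈ B, x * y * x⁻¹ * y⁻¹ ∈ A)}).exists_maximal ⟨B₀, g2, g3, g4, g5, g6, g7⟩
    refine ⟨B, 2, Nat.prime_two, h2, h3, h4, h5, h6, h7, fun _ => ?_⟩
    by_contra hCA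
    haveI := h2
    haveI : (Subgroup.centralizer (B : Set X)).Normal := Subgroup.normal_centralizer
    have hAC : A ≤ Subgroup.centralizer (B : Set X) := fun a ha =>
      Subgroup.mem_centralizer_iff.mpr fun b hb =>
        (Subgroup.mem_centralizer_iff.mp (h4 hb) a ha).symm
    obtain ⟨N, r, k1, k2, k3, k4, k5, k6, k7⟩ := exists_elem_factor A _ hAC hCA
    have k4' : N ≤ X₀ := fun g hg => Subgroup.mem_centralizer_iff.mpr fun a ha =>
      Subgroup.mem_centralizer_iff.mp (k4 hg) a (h3 ha)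
    obtain rfl := htwo N r k1 k2 k3 k4' k5 k6 k7
    haveI := k2
    have hcomm : ∀ b ∈ B, ∀ n ∈ N, Commute b n := fun b hb n hn =>
      Subgroup.mem_centralizer_iff.mp (k4 hn) b hb
    have hBN : B ⊔ N ≤ B := by
      refine hBmax ⟨inferInstance, h3.trans le_sup_left, sup_le h4 k4', ?_, ?_, ?_⟩ le_sup_left
      · exact fun e => h5 (le_antisymm (le_sup_left.trans e.le) h3)
      · intro x hx
        obtain ⟨b, hb, n, hn, rfl⟩ := Subgroup.mem_sup_of_normal_right.1 hx
        rw [(hcomm b hb n hn).mul_pow]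
        exact A.mul_mem (h6 b hb) (k6 n hn)
      · intro x hx y hy
        obtain ⟨b, hb, n, hn, rfl⟩ := Subgroup.mem_sup_of_normal_right.1 hx
        obtain ⟨c, hc, m, hm, rfl⟩ := Subgroup.mem_sup_of_normal_right.1 hy
        have e : b * n * (c * m) * (b * n)⁻¹ * (c * m)⁻¹ =
            b * c * b⁻¹ * c⁻¹ * (n * m * n⁻¹ * m⁻¹) := by
          have e1 : n * c = c * n := (hcomm c hc n hn).eq.symm
          have e2 : m * b⁻¹ = b⁻¹ * m := (hcomm b⁻¹ (B.inv_mem hb) m hm).eq.symm
          have e3 : n * b⁻¹ = b⁻¹ * n := (hcomm b⁻¹ (B.inv_mem hb) n hn).eq.symm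
          have e4 : m⁻¹ * c⁻¹ = c⁻¹ * m⁻¹ := (hcomm c⁻¹ (B.inv_mem hc) m⁻¹ (N.inv_mem hm)).eq.symm
          have e5 : n⁻¹ * b⁻¹ = b⁻¹ * n⁻¹ := (hcomm b⁻¹ (B.inv_mem hb) n⁻¹ (N.inv_mem hn)).eq.symm
          have e6 : Commute (n * m * n⁻¹) c⁻¹ :=
            (hcomm c⁻¹ (B.inv_mem hc) _ (N.mul_mem (N.mul_mem hn hm) (N.inv_mem hn))).symm
          calc b * n * (c * m) * (b * n)⁻¹ * (c * m)⁻¹
              = b * (n * c) * (m * (n⁻¹ * b⁻¹)) * (m⁻¹ * c⁻¹) := by group
            _ = b * (c * n) * (m * (b⁻¹ * n⁻¹)) * (c⁻¹ * m⁻¹) := by rw [e1, e5, e4]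
            _ = b * c * (n * (m * b⁻¹)) * n⁻¹ * (c⁻¹ * m⁻¹) := by group
            _ = b * c * (n * (b⁻¹ * m)) * n⁻¹ * (c⁻¹ * m⁻¹) := by rw [e2]
            _ = b * c * ((n * b⁻¹) * m) * n⁻¹ * (c⁻¹ * m⁻¹) := by group
            _ = b * c * ((b⁻¹ * n) * m) * n⁻¹ * (c⁻¹ * m⁻¹) := by rw [e3]
            _ = b * c * b⁻¹ * ((n * m * n⁻¹) * c⁻¹) * m⁻¹ := by group
            _ = b * c * b⁻¹ * (c⁻¹ * (n * m * n⁻¹)) * m⁻¹ := by rw [e6.eq]
            _ = _ := by group
        rw [e]
        exact A.mul_mem (h7 b hb c hc) (k7 n hn m hm)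
    refine k5 (le_antisymm (fun n hn => ?_) k3)
    have hZA : B ⊓ Subgroup.centralizer (B : Set X) = A :=
      hmax _ (Subgroup.normal_inf_normal _ _)
        (fun a ha b hb => Subgroup.mem_centralizer_iff.mp hb.2 a ha.1) (le_inf h3 hAC)
    rw [← hZA]
    exact ⟨(le_sup_right.trans hBN) hn, k4 hn⟩
  haveI := hBn
  haveI := Fact.mk hq
  have hcen : ∀ x ∈ B, ∀ a ∈ A, x * a = a * x := fun x hx a ha => (hX₀A x (hBX hx) a ha).symm
  have hz : ∀ x y : X, x * y = x * y * x⁻¹ * y⁻¹ * (y * x) := fun x y => by group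
  have hzq : ∀ x ∈ B, ∀ y ∈ B, (x * y * x⁻¹ * y⁻¹) ^ q = 1 := by
    intro x hx y hy
    have h := comm_pow_left (hz x y) (hcen x hx _ (hBcomm x hx y hy)) q
    rw [← hcen y hy _ (hBq x hx)] at h
    exact mul_right_cancel (h.symm.trans (one_mul _).symm)
  obtain ⟨x₁, hx₁, y₁, hy₁, hxy⟩ : ∃ x ∈ B, ∃ y ∈ B, x * y * x⁻¹ * y⁻¹ ≠ 1 := by
    by_contra h
    push Not at h
    exact hBne (hmax B hBn
      (fun a ha b hb => mul_inv_eq_iff_eq_mul.mp (mul_inv_eq_one.mp (h a ha b hb))) hAB)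
  obtain ⟨ζ, hζ'⟩ := hA _ (hBcomm x₁ hx₁ y₁ hy₁)
  have hqp : q ≠ p := by
    rintro rfl
    have h1 : orderOf (x₁ * y₁ * x₁⁻¹ * y₁⁻¹) = q := orderOf_eq_prime (hzq x₁ hx₁ y₁ hy₁) hxy
    exact hpA (h1 ▸ A.orderOf_dvd_natCard (hBcomm x₁ hx₁ y₁ hy₁))
  have hqF : (q : F) ≠ 0 := fun h => hqp
    ((Nat.prime_dvd_prime_iff_eq hp.out hq).mp ((CharP.cast_eq_zero_iff F p q).mp h)).symm
  have hζ : IsPrimitiveRoot ζ q := by
    have h1 : ζ ^ q = 1 := hσ (by rw [map_pow, hζ', ← map_pow, hzq x₁ hx₁ y₁ hy₁, map_one, map_one])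
    have h2 : ζ ≠ 1 := fun h => hxy (hρ (by rw [map_one, ← hζ', h, map_one]))
    rw [← orderOf_eq_prime h1 h2]
    exact IsPrimitiveRoot.orderOf ζ
  -- the commutator form
  have hJ0 : ∀ x y : B, ∃ i : ZMod q, σ (ζ ^ i.val) = ρ ((x : X) * y * (x : X)⁻¹ * (y : X)⁻¹) := by
    intro x y
    obtain ⟨r, hr⟩ := hA _ (hBcomm x x.2 y y.2)
    obtain ⟨i, hi, hi'⟩ := hζ.eq_pow_of_pow_eq_one (ξ := r) (hσ (by
      rw [map_pow, hr, ← map_pow, hzq x x.2 y y.2, map_one, map_one]))
    exact ⟨i, by rw [ZMod.val_natCast_of_lt hi, hi', hr]⟩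
  choose J hJ using hJ0
  have hJinj : ∀ i j : ZMod q, σ (ζ ^ i.val) = σ (ζ ^ j.val) → i = j := fun i j h =>
    ZMod.val_injective q (hζ.pow_inj (ZMod.val_lt i) (ZMod.val_lt j) (hσ h))
  have hζadd : ∀ i j : ZMod q, ζ ^ (i + j).val = ζ ^ i.val * ζ ^ j.val := fun i j => by
    rw [← pow_add, ZMod.val_add, ← pow_eq_pow_mod _ hζ.pow_eq_one]
  have hJeq : ∀ x y : B, ρ x * ρ y = σ (ζ ^ (J x y).val) * (ρ y * ρ x) := fun x y => by
    rw [hJ, ← map_mul, ← map_mul, ← map_mul, ← hz]
  have hJuniq : ∀ (x y : B) (i : ZMod q), ρ x * ρ y = σ (ζ ^ i.val) * (ρ y * ρ x) → J x y = i := by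
    intro x y i h
    refine hJinj _ _ ?_
    have h1 := congrArg (· * ρ ((y : X) * x)⁻¹) ((hJeq x y).symm.trans h)
    simp only [mul_assoc] at h1
    rwa [← map_mul, ← map_mul, ← mul_assoc (y : X), mul_inv_cancel, map_one,
      mul_one, mul_one] at h1
  have hJleft : ∀ x₁ x₂ y : B, J (x₁ * x₂) y = J x₁ y + J x₂ y := fun x₁ x₂ y => hJuniq _ _ _ (by
    rw [hζadd, map_mul σ, hJ, hJ, Subgroup.coe_mul, ← map_mul ρ, ← map_mul ρ, ← map_mul ρ,
      ← map_mul ρ]
    congr 1
    rw [comm_mul_left (hz (x₁ : X) y) (hz (x₂ : X) y) (hcen _ x₁.2 _ (hBcomm _ x₂.2 _ y.2)),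
      hAab _ (hBcomm _ x₂.2 _ y.2) _ (hBcomm _ x₁.2 _ y.2)])
  have hJdiag : ∀ x : B, J x x = 0 := fun x => hJuniq _ _ _ (by
    rw [ZMod.val_zero, pow_zero, map_one, one_mul])
  have hJanti : ∀ x y : B, J y x = - J x y := fun x y => hJuniq _ _ _ (by
    rw [hJeq x y, ← mul_assoc, ← map_mul σ, ← hζadd, neg_add_cancel, ZMod.val_zero, pow_zero,
      map_one, one_mul])
  have hJA : ∀ (a y : B), (a : X) ∈ A → J a y = 0 := fun a y ha => hJuniq _ _ _ (by
    rw [ZMod.val_zero, pow_zero, map_one, one_mul, ← map_mul, ← map_mul, hcen _ y.2 _ ha])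
  -- the space
  set A' := A.subgroupOf B with hA'
  haveI : A'.Normal := inferInstance
  letI : CommGroup (B ⧸ A') :=
    { (inferInstance : Group (B ⧸ A')) with
      mul_comm := fun a b => by
        obtain ⟨x, rfl⟩ := QuotientGroup.mk_surjective a
        obtain ⟨y, rfl⟩ := QuotientGroup.mk_surjective b
        rw [← QuotientGroup.mk_mul, ← QuotientGroup.mk_mul, QuotientGroup.eq, hA',
          Subgroup.mem_subgroupOf]
        have := hBcomm _ (B.inv_mem y.2) _ (B.inv_mem x.2)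
        simpa [mul_assoc] using this }
  let W := Additive (B ⧸ A')
  have hJmk : ∀ x x' y : B, (QuotientGroup.mk x : B ⧸ A') = QuotientGroup.mk x' → J x y = J x' y := by
    intro x x' y h
    rw [QuotientGroup.eq, hA', Subgroup.mem_subgroupOf] at h
    rw [show x' = x * (x⁻¹ * x') by group, hJleft, hJA (x⁻¹ * x') y h, add_zero]
  let lift : W → B := fun w => (Additive.toMul w).out
  have hlift : ∀ w, (QuotientGroup.mk (lift w) : B ⧸ A') = Additive.toMul w := fun w =>
    QuotientGroup.out_eq' _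
  have hJr : ∀ x y y' : B, (QuotientGroup.mk y : B ⧸ A') = QuotientGroup.mk y' → J x y = J x y' :=
    fun x y y' h => by rw [hJanti y x, hJanti y' x, hJmk y y' x h]
  have hcadd : ∀ (a b : W) (y : B), J (lift (a + b)) y = J (lift a) y + J (lift b) y := by
    intro a b y
    rw [← hJleft]
    refine hJmk _ _ _ ?_
    rw [hlift, QuotientGroup.mk_mul, hlift, hlift, toMul_add]
  let c : W →+ W →+ ZMod q := AddMonoidHom.mk'
    (fun a => AddMonoidHom.mk' (fun b => J (lift a) (lift b)) fun b b' => by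
      rw [hJanti, hcadd, neg_add, ← hJanti, ← hJanti])
    fun a a' => AddMonoidHom.ext fun b => hcadd a a' (lift b)
  have halt : ∀ w, c w w = 0 := fun w => hJdiag _
  -- the centre of `B` is `A`
  have hZ : ∀ x : B, (∀ y : B, J x y = 0) → (x : X) ∈ A := by
    intro x hx
    set Z := B ⊓ Subgroup.centralizer (B : Set X) with hZdef
    haveI : (Subgroup.centralizer (B : Set X)).Normal := Subgroup.normal_centralizer
    have hZA : Z = A := hmax Z (Subgroup.normal_inf_normal _ _)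
      (fun a ha b hb => Subgroup.mem_centralizer_iff.mp hb.2 a ha.1)
      (le_inf hAB fun a ha => Subgroup.mem_centralizer_iff.mpr fun b hb => hcen b hb a ha)
    rw [← hZA]
    refine ⟨x.2, Subgroup.mem_centralizer_iff.mpr fun y hy => ?_⟩
    apply hρ
    rw [map_mul, map_mul]
    have := hJeq x ⟨y, hy⟩
    rw [hx, ZMod.val_zero, pow_zero, map_one, one_mul] at this
    exact this.symm
  have hnd : ∀ w, (∀ x, c w x = 0) → w = 0 := by
    intro w hw
    have hmem : (lift w : X) ∈ A := hZ _ fun y => by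
      rw [hJr _ y (lift (Additive.ofMul (QuotientGroup.mk y))) (hlift (Additive.ofMul (QuotientGroup.mk y : B ⧸ A'))).symm]
      exact hw _
    have := hlift w
    rw [(QuotientGroup.eq_one_iff (lift w)).mpr (Subgroup.mem_subgroupOf.mpr hmem)] at this
    exact this.symm
  let τ : W → AddMonoid.End V := fun w => ρ (lift w)
  have hττ : ∀ a b, τ a * τ b = σ (ζ ^ (c a b).val) * (τ b * τ a) := fun a b => hJeq _ _
  have hτσ : ∀ r w, Commute (σ r) (τ w) := fun r w => (hX₀σ _ (hBX (lift w).2) r).symm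
  have hτcomm : ∀ a b, c a b = 0 → Commute (τ a) (τ b) := fun a b h => by
    have := hττ a b
    rw [h, ZMod.val_zero, pow_zero, map_one, one_mul] at this
    exact this
  have hA0 : ∀ a ∈ A, ∃ r, r ≠ 0 ∧ σ r = ρ a := fun a ha => by
    obtain ⟨r, hr⟩ := hA a ha
    refine ⟨r, fun h0 => ?_, hr⟩
    rw [h0, map_zero] at hr
    have := congrArg (ρ a⁻¹ * ·) hr
    simp only [mul_zero, rho_inv_mul] at this
    exact zero_ne_one this
  have hτq : ∀ w, ∃ r : F, r ≠ 0 ∧ τ w ^ q = σ r := fun w => by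
    obtain ⟨r, hr0, hr⟩ := hA0 _ (hBq _ (lift w).2)
    exact ⟨r, hr0, by rw [hr, ← map_pow]⟩
  have hclassA : ∀ b b' : B, (QuotientGroup.mk b : B ⧸ A') = QuotientGroup.mk b' →
      ∃ r, r ≠ 0 ∧ ρ (b' : X) = σ r * ρ (b : X) := by
    intro b b' h
    rw [QuotientGroup.eq, hA', Subgroup.mem_subgroupOf, Subgroup.coe_mul, Subgroup.coe_inv] at h
    obtain ⟨r, hr0, hr⟩ := hA0 _ h
    refine ⟨r, hr0, ?_⟩
    rw [((hX₀σ _ (hBX b.2) r).symm).eq, hr, ← map_mul, mul_inv_cancel_left]
  have hτadd : ∀ w w', ∃ r, r ≠ 0 ∧ τ (w + w') = σ r * (τ w * τ w') := by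
    intro w w'
    obtain ⟨r, hr0, hr⟩ := hclassA (lift w * lift w') (lift (w + w')) (by
      rw [QuotientGroup.mk_mul, hlift, hlift, hlift, toMul_add])
    exact ⟨r, hr0, hr.trans (by rw [Subgroup.coe_mul, map_mul])⟩
  let P : W → Prop := fun w => q ≠ 2 ∨ ∃ γ, γ ≠ 0 ∧ τ w ^ q = σ (γ ^ q)
  have hbad : ∀ w, ¬ P w → q = 2 ∧ ∀ β, τ w ^ q = σ β → ¬ IsSquare β := by
    intro w hw
    simp only [P, not_or, not_not] at hw
    refine ⟨hw.1, fun β hβ => ?_⟩
    rintro ⟨γ, rfl⟩
    obtain ⟨r, hr0, hr⟩ := hτq w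
    have e : r = γ * γ := hσ (hr.symm.trans hβ)
    refine hw.2 ⟨γ, fun h0 => hr0 (by rw [e, h0, mul_zero]), ?_⟩
    rw [hβ, hw.1, pow_two]
  have hPsum : ∀ w w', w ≠ 0 → w' ≠ 0 → w + w' ≠ 0 → c w w' = 0 → ¬ P w → ¬ P w' → P (w + w') := by
    intro w w' _ _ _ hww' hw hw'
    obtain ⟨hq2, hw⟩ := hbad w hw
    obtain ⟨β, -, hβ⟩ := hτq w
    obtain ⟨α', hα0, hα'⟩ := hτq w'
    have hsq := isSquare_mul_of_not (hw β hβ) ((hbad w' hw').2 α' hα')
    obtain ⟨γ, hγ⟩ := hsq
    obtain ⟨r, hr0, hr⟩ := hτadd w w'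
    refine Or.inr ⟨r * γ, mul_ne_zero hr0 fun h0 => ?_, ?_⟩
    · rw [h0, mul_zero] at hγ
      rcases mul_eq_zero.1 hγ with h | h
      · exact hw β hβ (h ▸ IsSquare.zero)
      · exact hα0 h
    · rw [hr, ((hτσ r w).mul_right (hτσ r w')).mul_pow, (hτcomm _ _ hww').mul_pow, hβ, hα',
        ← map_pow, ← map_mul, ← map_mul, mul_pow r γ]
      congr 2
      rw [hγ, hq2, pow_two]
  obtain ⟨s, eW, fW, R, hef, hee, hff, hoff, hPe, hR, hspan⟩ := exists_good_pairs W c halt hnd P hPsum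
  have hRorth : ∀ w ∈ R, ∀ i, c (eW i) w = 0 ∧ c (fW i) w = 0 := by
    rcases hR with rfl | ⟨v, u, rfl, -, -, -, -, horth⟩
    · exact fun w hw => absurd hw (Set.notMem_empty w)
    · rintro w (rfl | rfl) i
      · exact ⟨(horth i).1, (horth i).2.2.1⟩
      · exact ⟨(horth i).2.1, (horth i).2.2.2⟩
  have hpair : ∀ i : Fin s, ∃ (x z : AddMonoid.End V) (δ : F), δ ≠ 0 ∧ x ^ q = 1 ∧ z ^ q = σ δ ∧
      x * z = σ ζ * (z * x) ∧ (∀ r, Commute (σ r) x) ∧ (∀ r, Commute (σ r) z) ∧
      (∀ g, (∀ r, Commute g (σ r)) → Commute g (τ (eW i)) → Commute g (τ (fW i)) →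
        Commute g x ∧ Commute g z) ∧
      ∀ P : AddMonoid.End V → Prop, (∀ r, P (σ r)) → (∀ a b, P a → P b → P (a * b)) →
        ((P (τ (eW i)) → P (τ (fW i)) → P x ∧ P z) ∧
          (P x → P z → P (τ (eW i)) ∧ P (τ (fW i)))) := by
    intro i
    obtain ⟨β, hβ, hu⟩ := hτq (eW i)
    obtain ⟨a, ha, hv⟩ := hτq (fW i)
    have huv := hττ (eW i) (fW i)
    rw [hef, ZMod.val_one, pow_one] at huv
    rcases hPe i with hq2 | ⟨γ, hγ0, hγ⟩
    · exact exists_normal_pair σ hq2 hζ (fun r => hτσ r _) (fun r => hτσ r _) huv ha hβ hu hv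
    · exact exists_normal_pair_root σ (fun r => hτσ r _) (fun r => hτσ r _) huv ha hβ hu hv hγ0
        (hσ (hγ.symm.trans hu))
  choose xs zs δ hδ hxq hzq' hxz hσx hσz hgxz hP using hpair
  have hcross : ∀ i j : Fin s, i ≠ j → ∀ g, (g = τ (eW i) ∨ g = τ (fW i)) →
      Commute g (xs j) ∧ Commute g (zs j) := by
    intro i j hij g hg
    rcases hg with rfl | rfl
    · exact hgxz j _ (fun r => (hτσ r _).symm) (hτcomm _ _ (hee i j)) (hτcomm _ _ (hoff i j hij))
    · refine hgxz j _ (fun r => (hτσ r _).symm) ?_ (hτcomm _ _ (hff i j))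
      exact (hτcomm _ _ (hoff j i (Ne.symm hij))).symm
  let D : Heis F V q s :=
    { sc := σ
      ξ := ζ
      hξ := hζ
      hq0 := hqF
      x := xs
      z := zs
      δ := δ
      hδ := hδ
      scx := fun r i => hσx i r
      scz := fun r i => hσz i r
      xx := fun i j => by
        by_cases hij : i = j
        · rw [hij]
        · exact ((hgxz i (xs j) (fun r => (hσx j r).symm) ((hcross i j hij _ (Or.inl rfl)).1.symm)
            ((hcross i j hij _ (Or.inr rfl)).1.symm)).1).symm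
      zz := fun i j => by
        by_cases hij : i = j
        · rw [hij]
        · exact ((hgxz i (zs j) (fun r => (hσz j r).symm) ((hcross i j hij _ (Or.inl rfl)).2.symm)
            ((hcross i j hij _ (Or.inr rfl)).2.symm)).2).symm
      xz := fun i j hij =>
        ((hgxz i (zs j) (fun r => (hσz j r).symm) ((hcross i j hij _ (Or.inl rfl)).2.symm)
          ((hcross i j hij _ (Or.inr rfl)).2.symm)).1).symm
      xzi := hxz
      xq := hxq
      zq := hzq' }
  -- the extra operators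
  obtain ⟨E, e, S, T, hEσ, hER, hEcl, hEeigen, hEsq, he, hEform, hplaneE, heR⟩ :
      ∃ (E : Submonoid (AddMonoid.End V)) (e : ℕ) (S T : AddMonoid.End V), (∀ r, σ r ∈ E) ∧
      (∀ w ∈ R, τ w ∈ E) ∧
      (∀ Pr : AddMonoid.End V → Prop, (∀ r, Pr (σ r)) → (∀ a b, Pr a → Pr b → Pr (a * b)) →
        (∀ w ∈ R, Pr (τ w)) → ∀ f ∈ E, Pr f) ∧
      (∀ f ∈ E, ∀ (r : F) (x : V), x ≠ 0 → f x = σ r x → f = σ r) ∧
      (∀ f ∈ E, ∃ γ, f * f = σ γ) ∧ (e = 1 ∨ e = 2) ∧
      (∀ f ∈ E, ∃ c i, i < e * e ∧ f = σ c * kk S T i) ∧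
      (e = 2 → q = 2 ∧ S ∈ E ∧ T ∈ E ∧ S * T = σ (-1) * (T * S) ∧ ∃ β α, S * S = σ β ∧
        T * T = σ α ∧ ¬ IsSquare β ∧ ¬ IsSquare α ∧ ¬ IsSquare (-(β * α))) ∧
      (R ≠ ∅ → e = 2) := by
    rcases hR with rfl | ⟨v, u, rfl, hvu, hv, hu, hvu', -⟩
    · refine ⟨MonoidHom.mrange σ.toMonoidHom, 1, 1, 1, fun r => ⟨r, rfl⟩,
        fun w hw => absurd hw (Set.notMem_empty w), ?_, ?_, ?_, Or.inl rfl, ?_,
        fun h => absurd h (by norm_num), fun h => absurd rfl h⟩
      · rintro Pr h1 - - _ ⟨r, rfl⟩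
        exact h1 r
      · rintro _ ⟨r', rfl⟩ r x hx h
        by_contra hne
        have h1 : σ (r' - r) x = 0 := by rw [map_sub]; exact sub_eq_zero.2 h
        have h2 : r' - r ≠ 0 := sub_ne_zero.2 fun e => hne (congrArg σ e)
        apply hx
        have := congrArg (σ (r' - r)⁻¹) h1
        rwa [map_zero, ← CfsgLib.OddBase.mul_apply', ← map_mul, inv_mul_cancel₀ h2, map_one] at this
      · rintro _ ⟨r, rfl⟩
        exact ⟨r * r, (map_mul σ r r).symm⟩
      · rintro _ ⟨r, rfl⟩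
        exact ⟨r, 0, by norm_num, by simp [kk]⟩
    · obtain ⟨hq2, hv⟩ := hbad v hv
      obtain ⟨-, hu⟩ := hbad u hu
      obtain ⟨-, hvu'⟩ := hbad _ hvu'
      subst hq2
      obtain ⟨β, -, hβ⟩ := hτq v
      obtain ⟨α', -, hα'⟩ := hτq u
      have hanti : τ v * τ u = σ (-1) * (τ u * τ v) := by
        rw [hττ, hvu, ZMod.val_one, pow_one, hζ.eq_neg_one_of_two_right]
      have hsq : (τ v * τ u) ^ 2 = σ (-(β * α')) := by
        have hanti' : τ u * τ v = σ (-1) * (τ v * τ u) := by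
          rw [hanti, ← mul_assoc, ← map_mul σ, neg_one_mul, neg_neg, map_one, one_mul]
        rw [pow_two, mul_assoc, ← mul_assoc (τ u) (τ v) (τ u), hanti', mul_assoc (σ (-1)),
          mul_assoc (τ v) (τ u) (τ u), ← pow_two (τ u), hα', ← mul_assoc (τ v) (σ (-1)),
          ← (hτσ _ v).eq, mul_assoc (σ (-1)), ← mul_assoc (τ v) (τ v), ← pow_two (τ v), hβ,
          ← map_mul, ← map_mul, neg_one_mul]
      have hnsq : ¬ IsSquare (-(β * α')) := by
        rintro ⟨γ, hγ⟩
        obtain ⟨r, hr0, hr⟩ := hτadd v u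
        refine hvu' (r ^ 2 * -(β * α')) ?_ ⟨r * γ, by rw [hγ]; ring⟩
        rw [hr, ((hτσ r v).mul_right (hτσ r u)).mul_pow, hsq, ← map_pow, ← map_mul]
      have hsqv : τ v * τ v = σ β := by rw [← pow_two, hβ]
      have hsqu : τ u * τ u = σ α' := by rw [← pow_two, hα']
      obtain ⟨E, h1, h2, h3, h4, h5, h6, h7⟩ := exists_plane_form σ (fun r => hτσ r v)
        (fun r => hτσ r u) hanti hsqv hsqu (hv β hβ) (hu α' hα') hnsq
      refine ⟨E, 2, τ v, τ u, h1, ?_, fun Pr k1 k2 k3 => h4 Pr k1 (k3 v (Or.inl rfl))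
        (k3 u (Or.inr rfl)) k2, h5, h6, Or.inr rfl, h7,
        fun _ => ⟨rfl, h2, h3, hanti, β, α', hsqv, hsqu, hv β hβ, hu α' hα', hnsq⟩,
        fun _ => rfl⟩
      rintro w (rfl | rfl)
      exacts [h2, h3]
  have hEcomm : ∀ g, (∀ r, Commute g (σ r)) → (∀ w ∈ R, Commute g (τ w)) → ∀ f ∈ E, Commute g f :=
    fun g h1 h2 => hEcl (fun f => Commute g f) h1 (fun a b ha hb => ha.mul_right hb) h2
  have hE : Extra D E :=
    { scal := hEσ
      comm_sc := fun e he r => ((hEcomm (σ r) (fun r' => (Commute.all r r').map σ)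
        (fun w _ => hτσ r w)) e he).symm
      comm_x := fun e he i => ((hEcomm (xs i) (fun r => (hσx i r).symm) fun w hw =>
        ((hgxz i (τ w) (fun r => (hτσ r w).symm) (hτcomm _ _ (hRorth w hw i).1).symm
          (hτcomm _ _ (hRorth w hw i).2).symm).1).symm) e he).symm
      comm_z := fun e he i => ((hEcomm (zs i) (fun r => (hσz i r).symm) fun w hw =>
        ((hgxz i (τ w) (fun r => (hτσ r w).symm) (hτcomm _ _ (hRorth w hw i).1).symm
          (hτcomm _ _ (hRorth w hw i).2).symm).2).symm) e he).symm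
      eigen := hEeigen }
  have hO : Ops D E := ⟨hE.scal, hE.comm_sc, hE.comm_x, hE.comm_z⟩
  have hEig : ∀ x : V, x ≠ 0 → Eig D E x := fun x hx f hf r h => hEeigen f hf r x hx h
  let PM : AddMonoid.End V → Prop := fun f => ∃ L, EMon D E f L
  have hPσ : ∀ r, PM (σ r) := fun r => ⟨0, EMon.of_mon (D.mon_sc r)⟩
  have hPmul : ∀ a b, PM a → PM b → PM (a * b) := fun a b ⟨L, ha⟩ ⟨M, hb⟩ => ⟨L + M, ha.mul hE hb⟩
  -- properties of all operators in the normal subgroup
  have hBgen : ∀ Pr : AddMonoid.End V → Prop, (∀ r, Pr (σ r)) → (∀ a b, Pr a → Pr b → Pr (a * b)) →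
      (∀ i, Pr (τ (eW i)) ∧ Pr (τ (fW i))) → (∀ w ∈ R, Pr (τ w)) → ∀ b ∈ B, Pr (ρ b) := by
    intro Pr h1 h2 h3 h4
    let T : AddSubmonoid W :=
      { carrier := {w | ∀ (b : B), Additive.ofMul (QuotientGroup.mk b : B ⧸ A') = w → Pr (ρ b)}
        zero_mem' := fun b hb => by
          obtain ⟨r, hr⟩ := hA b ((QuotientGroup.eq_one_iff b).mp (congrArg Additive.toMul hb))
          exact hr ▸ h1 r
        add_mem' := fun {w w'} hw hw' b hb => by
          have hb2 : (b : X) = (lift w : X) * (((lift w)⁻¹ * b : B) : X) := by simp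
          rw [hb2, map_mul]
          refine h2 _ _ (hw _ (congrArg Additive.ofMul (hlift w))) (hw' _ ?_)
          rw [QuotientGroup.mk_mul, QuotientGroup.mk_inv, hlift, ofMul_mul, ofMul_inv, hb]
          exact neg_add_cancel_left w w' }
    have hT : ∀ w, Pr (τ w) → w ∈ T := fun w hw b hb => by
      obtain ⟨r, -, hr⟩ := hclassA (lift w) b (by rw [hlift, ← hb, toMul_ofMul])
      rw [hr]
      exact h2 _ _ (h1 r) hw
    have htop : AddSubmonoid.closure (Set.range eW ∪ Set.range fW ∪ R) ≤ T := by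
      refine AddSubmonoid.closure_le.2 ?_
      rintro w ((⟨i, rfl⟩ | ⟨i, rfl⟩) | hw)
      exacts [hT _ (h3 i).1, hT _ (h3 i).2, hT _ (h4 w hw)]
    exact fun b hb => htop (hspan ▸ trivial) ⟨b, hb⟩ rfl
  have hmonB : ∀ b ∈ B, PM (ρ b) := hBgen PM hPσ hPmul
    (fun i => (hP i PM hPσ hPmul).2 ⟨_, EMon.of_mon (D.mon_x i)⟩ ⟨_, EMon.of_mon (D.mon_z i)⟩)
    fun w hw => ⟨0, 1, τ w, by rw [← map_one D.sc]; exact D.mon_sc 1, hER w hw, (one_mul _).symm⟩
  -- conjugates of the configuration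
  have hQ : ∀ (g : X) i, (∃ f L, EMon D E f L ∧ ρ g * xs i = f * ρ g) ∧
      ∃ f L, EMon D E f L ∧ ρ g * zs i = f * ρ g := by
    intro g i
    let Q : AddMonoid.End V → Prop := fun f => ∃ f' L, EMon D E f' L ∧ ρ g * f = f' * ρ g
    have hQσ : ∀ r, Q (σ r) := fun r => ⟨σ (α g r), 0, EMon.of_mon (D.mon_sc _), hα g r⟩
    have hQmul : ∀ a b, Q a → Q b → Q (a * b) := fun a b ⟨a', L, ha, ea⟩ ⟨b', M, hb, eb⟩ =>
      ⟨a' * b', L + M, ha.mul hE hb, by rw [← mul_assoc, ea, mul_assoc, eb, mul_assoc]⟩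
    have hQτ : ∀ w, Q (τ w) := fun w => by
      obtain ⟨L, hL⟩ := hmonB _ (hBn.conj_mem _ (lift w).2 g)
      exact ⟨_, L, hL, by rw [← map_mul, ← map_mul]; group⟩
    exact (hP i Q hQσ hQmul).1 (hQτ _) (hQτ _)
  have hQE : ∀ (g : X), ∀ ε ∈ E, ∃ f L, EMon D E f L ∧ ρ g * ε = f * ρ g := by
    intro g
    refine hEcl (fun f => ∃ f' L, EMon D E f' L ∧ ρ g * f = f' * ρ g)
      (fun r => ⟨σ (α g r), 0, EMon.of_mon (D.mon_sc _), hα g r⟩)
      (fun a b ⟨a', L, ha, ea⟩ ⟨b', M, hb, eb⟩ => ⟨a' * b', L + M, ha.mul hE hb, by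
        rw [← mul_assoc, ea, mul_assoc, eb, mul_assoc]⟩) fun w _ => ?_
    obtain ⟨L, hL⟩ := hmonB _ (hBn.conj_mem _ (lift w).2 g)
    exact ⟨_, L, hL, by rw [← map_mul, ← map_mul]; group⟩
  have hcommτ : ∀ G, (∀ r, Commute G (σ r)) → (∀ i, Commute G (xs i)) → (∀ i, Commute G (zs i)) →
      ∀ i, Commute G (τ (eW i)) ∧ Commute G (τ (fW i)) :=
    fun G h1 h2 h3 i => (hP i (fun f => Commute G f) h1 fun a b ha hb => ha.mul_right hb).2 (h2 i) (h3 i)
  have hcent : ∀ g, (∀ r, Commute (ρ g) (σ r)) → (∀ i, Commute (ρ g) (xs i)) →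
      (∀ i, Commute (ρ g) (zs i)) → (∀ w ∈ R, Commute (ρ g) (τ w)) →
      g ∈ Subgroup.centralizer (B : Set X) := fun g h1 h2 h3 h4 =>
    Subgroup.mem_centralizer_iff.mpr fun b hb => hρ (by
      rw [map_mul, map_mul]
      exact (hBgen (fun f => Commute (ρ g) f) h1 (fun a b ha hb => ha.mul_right hb)
        (hcommτ _ h1 h2 h3) h4 b hb).eq.symm)
  have hfinal : ∀ g, (∀ i, Commute (ρ g) (zs i)) → (∀ u ∈ D.U, ρ g u = u) → ρ g = 1 := by
    intro g hgz hgU
    refine D.eq_of_slots fun l u hu => ?_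
    have hz : Commute (ρ g) (D.Z (Heis.lift l)) := by
      refine Heis.vec_induction (P := fun k => Commute (ρ g) (D.Z k))
        (by rw [D.Z_zero]; exact Commute.one_right _)
        (fun a b ha hb => by rw [D.Z_add]; exact ha.mul_right hb)
        (fun i n => by rw [D.Z_single]; exact (hgz i).pow_right n) _
    show ρ g (D.Z _ u) = D.Z _ u
    rw [Heis.comm_apply hz, hgU u hu]
  obtain ⟨a₁, ha₁, ha₁0⟩ : ∃ a ∈ D.U, a ≠ 0 := by
    by_contra h
    push Not at h
    have h10 : (1 : AddMonoid.End V) = 0 := D.eq_of_slots fun l u hu => by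
      rw [h u hu, map_zero, map_zero, map_zero]
    exact one_ne_zero h10
  haveI : Nontrivial D.U := ⟨⟨⟨a₁, ha₁⟩, 0, fun e => ha₁0 (congrArg Subtype.val e)⟩⟩
  have hcardF : ∃ n : ℕ+, Nat.card F = p ^ (n : ℕ) := by
    haveI : Fintype F := Fintype.ofFinite F
    obtain ⟨n, -, hn⟩ := FiniteField.card F p
    exact ⟨n, by rw [Nat.card_eq_fintype_card, hn]⟩
  have hF4 : e = 2 → Nat.card F % 4 = 3 := fun h => by
    haveI : Fintype F := Fintype.ofFinite F
    by_contra hF4
    rw [Nat.card_eq_fintype_card] at hF4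
    obtain ⟨m, hm⟩ := FiniteField.isSquare_neg_one_iff.2 hF4
    obtain ⟨-, -, -, -, β, α', -, -, hβn, hαn, hβα⟩ := hplaneE h
    obtain ⟨γ, hγ⟩ := isSquare_mul_of_not hβn hαn
    exact hβα ⟨m * γ, by rw [hγ, show -(γ * γ) = (-1 : F) * (γ * γ) by ring, hm]; ring⟩
  rcases Nat.eq_zero_or_pos s with rfl | hs1
  · -- the plane is the whole space
    rcases hR with rfl | ⟨v, u, rfl, hvu, hv, hu, hvu', horth⟩
    · exfalso
      apply hBne
      refine le_antisymm (fun b hb => ?_) hAB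
      have hbot : (⊤ : AddSubmonoid W) = ⊥ := by
        rw [← hspan, Set.range_eq_empty, Set.range_eq_empty, Set.union_empty,
          Set.union_empty, AddSubmonoid.closure_empty]
      have hz : ∀ w : W, w = 0 := fun w => by
        have : w ∈ (⊥ : AddSubmonoid W) := hbot ▸ (trivial : w ∈ (⊤ : AddSubmonoid W))
        exact this
      have h1 : (QuotientGroup.mk (⟨b, hb⟩ : B) : B ⧸ A') = 1 :=
        congrArg Additive.toMul (hz (Additive.ofMul (QuotientGroup.mk (⟨b, hb⟩ : B) : B ⧸ A')))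
      exact Subgroup.mem_subgroupOf.mp ((QuotientGroup.eq_one_iff (⟨b, hb⟩ : B)).mp h1)
    obtain ⟨hq2, hv2⟩ := hbad v hv
    obtain ⟨-, hu2⟩ := hbad u hu
    subst hq2
    have hCA := hB2 rfl
    let K : Subgroup X :=
      { carrier := {g | (∀ r, Commute (ρ g) (σ r)) ∧ (∀ i, Commute (ρ g) (xs i)) ∧
          (∀ i, Commute (ρ g) (zs i)) ∧ ρ g a₁ = a₁}
        one_mem' := ⟨fun r => by rw [map_one]; exact Commute.one_left _,
          fun i => by rw [map_one]; exact Commute.one_left _,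
          fun i => by rw [map_one]; exact Commute.one_left _, by rw [map_one]; rfl⟩
        mul_mem' := fun {g h} hg hh => ⟨fun r => by rw [map_mul]; exact (hg.1 r).mul_left (hh.1 r),
          fun i => by rw [map_mul]; exact (hg.2.1 i).mul_left (hh.2.1 i),
          fun i => by rw [map_mul]; exact (hg.2.2.1 i).mul_left (hh.2.2.1 i), by
            rw [map_mul, CfsgLib.OddBase.mul_apply', hh.2.2.2, hg.2.2.2]⟩
        inv_mem' := fun {g} hg => by
          have hinv : ∀ f, Commute (ρ g) f → Commute (ρ g⁻¹) f := fun f hf => by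
            show ρ g⁻¹ * f = f * ρ g⁻¹
            calc ρ g⁻¹ * f = ρ g⁻¹ * (f * ρ g) * ρ g⁻¹ := by
                  rw [mul_assoc, mul_assoc, ← map_mul, mul_inv_cancel, map_one, mul_one]
              _ = _ := by rw [← hf.eq, ← mul_assoc (ρ g⁻¹), rho_inv_mul, one_mul]
          exact ⟨fun r => hinv _ (hg.1 r), fun i => hinv _ (hg.2.1 i), fun i => hinv _ (hg.2.2.1 i),
            by rw [← congrArg (ρ g⁻¹) hg.2.2.2, CfsgLib.OddBase.inv_apply]⟩ }
    let κ : X → W → W := fun g w =>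
      Additive.ofMul (QuotientGroup.mk (⟨g * lift w * g⁻¹, hBn.conj_mem _ (lift w).2 g⟩ : B) : B ⧸ A')
    have hκmk : ∀ (g : X) (b : B), κ g (Additive.ofMul (QuotientGroup.mk b : B ⧸ A')) =
        Additive.ofMul (QuotientGroup.mk (⟨g * b * g⁻¹, hBn.conj_mem _ b.2 g⟩ : B) : B ⧸ A') := by
      intro g b
      refine congrArg Additive.ofMul (QuotientGroup.eq.2 ?_)
      have := (QuotientGroup.eq (s := A')).1 (hlift (Additive.ofMul (QuotientGroup.mk b : B ⧸ A')))
      replace this := Subgroup.mem_subgroupOf.mp this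
      refine Subgroup.mem_subgroupOf.mpr ?_
      have h2 := hAn.conj_mem _ this g
      simp only [Subgroup.coe_mul, Subgroup.coe_inv] at h2 ⊢
      convert h2 using 1
      group
    have hκone : ∀ w, κ 1 w = w := fun w => by
      conv_lhs => rw [show w = Additive.ofMul (QuotientGroup.mk (lift w) : B ⧸ A') from
        (congrArg Additive.ofMul (hlift w)).symm, hκmk]
      conv_rhs => rw [show w = Additive.ofMul (QuotientGroup.mk (lift w) : B ⧸ A') from
        (congrArg Additive.ofMul (hlift w)).symm]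
      simp
    have hκmul : ∀ g h w, κ (g * h) w = κ g (κ h w) := fun g h w => by
      rw [show κ h w = Additive.ofMul (QuotientGroup.mk (⟨h * lift w * h⁻¹, hBn.conj_mem _ (lift w).2 h⟩ : B) : B ⧸ A') from rfl,
        hκmk]
      simp [κ, mul_assoc]
    have hκinj : ∀ g, Function.Injective (κ g) := fun g w w' e => by
      have := congrArg (κ g⁻¹) e
      rwa [← hκmul, ← hκmul, inv_mul_cancel, hκone, hκone] at this
    have hJconj : ∀ g, (∀ r, Commute (ρ g) (σ r)) → ∀ a b, c (κ g a) (κ g b) = c a b := by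
      intro g hg a b
      show J (lift (κ g a)) (lift (κ g b)) = J (lift a) (lift b)
      rw [hJmk _ ⟨g * lift a * g⁻¹, hBn.conj_mem _ (lift a).2 g⟩ _ (hlift (κ g a)),
        hJr _ _ ⟨g * lift b * g⁻¹, hBn.conj_mem _ (lift b).2 g⟩ (hlift (κ g b))]
      refine hJuniq _ _ _ ?_
      simp only [map_mul]
      calc ρ g * ρ (lift a) * ρ g⁻¹ * (ρ g * ρ (lift b) * ρ g⁻¹)
          = ρ g * (ρ (lift a) * ρ (lift b)) * ρ g⁻¹ := by
            simp only [mul_assoc]
            rw [← mul_assoc (ρ g⁻¹) (ρ g), rho_inv_mul, one_mul]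
        _ = ρ g * (σ (ζ ^ (J (lift a) (lift b)).val) * (ρ (lift b) * ρ (lift a))) * ρ g⁻¹ := by
            rw [hJeq]
        _ = _ := by
            rw [← mul_assoc (ρ g), (hg _).eq]
            simp only [mul_assoc]
            rw [← mul_assoc (ρ g⁻¹) (ρ g), rho_inv_mul, one_mul]
    have hκfix : ∀ g ∈ K, ∀ i, κ g (eW i) = eW i ∧ κ g (fW i) = fW i := by
      intro g hg i
      have h : ∀ w, Commute (ρ g) (τ w) → κ g w = w := fun w hw => by
        refine Eq.trans ?_ (congrArg Additive.ofMul (hlift w))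
        refine congrArg (fun b : B => Additive.ofMul (QuotientGroup.mk b : B ⧸ A')) (Subtype.ext (hρ ?_))
        show ρ (g * lift w * g⁻¹) = ρ (lift w)
        rw [map_mul, map_mul, hw.eq, mul_assoc, ← map_mul, mul_inv_cancel, map_one, mul_one]
      exact ⟨h _ (hcommτ _ hg.1 hg.2.1 hg.2.2.1 i).1, h _ (hcommτ _ hg.1 hg.2.1 hg.2.2.1 i).2⟩
    have hanti := form_anti c halt
    have hplane : ∀ w, (∀ i, c (eW i) w = 0 ∧ c (fW i) w = 0) → w = 0 ∨ w = v ∨ w = u ∨ w = v + u := by
      intro w hw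
      set i := c w u
      set j := - c w v
      have hcuv : c u v = -1 := by rw [hanti v u, hvu]
      have hsmul : ∀ (n : ZMod 2) (x y : W), c (n.val • x) y = n * c x y := fun n x y => by
        rw [map_nsmul, AddMonoidHom.nsmul_apply, nsmul_eq_mul, ZMod.natCast_val, ZMod.cast_id]
      have h0 : w - (i.val • v + j.val • u) = 0 := by
        refine hnd _ fun x => ?_
        have hx : x ∈ AddSubmonoid.closure (Set.range eW ∪ Set.range fW ∪ {v, u}) := hspan ▸ trivial
        induction hx using AddSubmonoid.closure_induction with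
        | mem y hy =>
          simp only [map_sub, map_add, AddMonoidHom.sub_apply, AddMonoidHom.add_apply, hsmul]
          rcases hy with (⟨k, rfl⟩ | ⟨k, rfl⟩) | hy
          · rw [hanti (eW k) w, (hw k).1, hanti (eW k) v, hanti (eW k) u, (horth k).1, (horth k).2.1]
            simp
          · rw [hanti (fW k) w, (hw k).2, hanti (fW k) v, hanti (fW k) u, (horth k).2.2.1,
              (horth k).2.2.2]
            simp
          · rcases hy with rfl | rfl
            · rw [halt, hcuv]; simp [j]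
            · rw [halt, hvu]; simp [i]
        | zero => rw [map_zero]
        | add y z _ _ hy hz => rw [map_add, hy, hz, add_zero]
      rw [sub_eq_zero] at h0
      have hi := ZMod.val_lt i
      have hj := ZMod.val_lt j
      rcases Nat.le_one_iff_eq_zero_or_eq_one.1 (Nat.le_of_lt_succ hi) with e1 | e1 <;>
        rcases Nat.le_one_iff_eq_zero_or_eq_one.1 (Nat.le_of_lt_succ hj) with e2 | e2 <;>
        rw [e1, e2] at h0 <;> simp only [zero_smul, one_smul, zero_add, add_zero] at h0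
      exacts [Or.inl h0, Or.inr (Or.inr (Or.inl h0)), Or.inr (Or.inl h0), Or.inr (Or.inr (Or.inr h0))]
    -- an element fixing the plane pointwise is trivial
    have hker : ∀ g ∈ K, κ g v = v → κ g u = u → g = 1 := by
      intro g hg hgv hgu
      have hsign : ∀ w, κ g w = w → ∃ i : ZMod 2, ρ g * τ w = σ (ζ ^ i.val) * (τ w * ρ g) := by
        intro w hw
        obtain ⟨r, -, hr⟩ := hclassA (lift w) ⟨g * lift w * g⁻¹, hBn.conj_mem _ (lift w).2 g⟩ (by
          rw [hlift]; exact (congrArg Additive.toMul hw).symm)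
        have hr' : ρ g * τ w = σ r * (τ w * ρ g) := by
          show ρ g * ρ (lift w : X) = σ r * (ρ (lift w : X) * ρ g)
          rw [← mul_assoc, ← hr, ← map_mul, ← map_mul]
          simp
        obtain ⟨β, hβ0, hβ⟩ := hτq w
        have h1 : r ^ 2 * β = β := hσ (by
          have e : σ β * ρ g = σ (r ^ 2 * β) * ρ g := by
            rw [← (hg.1 β).eq, ← hβ, pow_two, ← mul_assoc, hr', mul_assoc, mul_assoc (τ w), hr',
              ← mul_assoc (τ w) (σ r), ← (hτσ r w).eq, mul_assoc (σ r) (τ w), ← mul_assoc (σ r),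
              ← mul_assoc (τ w) (τ w), ← pow_two (τ w), hβ, ← mul_assoc, ← map_mul, ← map_mul,
              ← pow_two]
          have := congrArg (· * ρ g⁻¹) e
          simp only [mul_assoc, ← map_mul ρ, mul_inv_cancel, map_one, mul_one] at this
          exact this.symm)
        have h2 : r ^ 2 = 1 := mul_right_cancel₀ hβ0 (h1.trans (one_mul β).symm)
        obtain ⟨i, hi, hi'⟩ := hζ.eq_pow_of_pow_eq_one (ξ := r) h2
        exact ⟨i, by rw [ZMod.val_natCast_of_lt hi, hi']; exact hr'⟩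
      obtain ⟨iv, hiv⟩ := hsign v hgv
      obtain ⟨iu, hiu⟩ := hsign u hgu
      set wb : W := (-iu).val • v + iv.val • u
      have hsmulr : ∀ (n : ZMod 2) (x y : W), c x (n.val • y) = n * c x y := fun n x y => by
        rw [map_nsmul, nsmul_eq_mul, ZMod.natCast_val, ZMod.cast_id]
      have hwv : c wb v = -iv := by
        rw [hanti v wb, map_add, hsmulr, hsmulr, halt, hvu]; ring
      have hwu : c wb u = -iu := by
        rw [hanti u wb, map_add, hsmulr, hsmulr, halt, hanti v u, hvu]; ring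
      have hwe : ∀ i, c (eW i) wb = 0 ∧ c (fW i) wb = 0 := fun i => by
        simp only [wb, map_add, hsmulr, (horth i).1, (horth i).2.1, (horth i).2.2.1, (horth i).2.2.2,
          mul_zero, add_zero, and_self]
      have hbσ : ∀ r, Commute (ρ (lift wb : X)) (σ r) := fun r => (hτσ r wb).symm
      have hflip : ∀ w (i : ZMod 2), ρ g * τ w = σ (ζ ^ i.val) * (τ w * ρ g) → c wb w = -i →
          Commute (ρ (g * lift wb)) (τ w) := by
        intro w i h1 h2
        have h3 : τ wb * τ w = σ (ζ ^ (-i).val) * (τ w * τ wb) := by rw [hττ, h2]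
        show ρ (g * lift wb) * τ w = τ w * ρ (g * lift wb)
        rw [map_mul, show ρ (lift wb : X) = τ wb from rfl, mul_assoc, h3, ← mul_assoc (ρ g), (hg.1 _).eq,
          mul_assoc (σ _), ← mul_assoc (ρ g), h1, mul_assoc (σ (ζ ^ i.val)), ← mul_assoc (σ _),
          ← map_mul, ← hζadd, neg_add_cancel, ZMod.val_zero, pow_zero, map_one, one_mul, mul_assoc]
      have hgb : g * lift wb ∈ A := by
        refine hCA (hcent _ (fun r => by rw [map_mul]; exact (hg.1 r).mul_left (hbσ r)) (fun i => ?_)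
          (fun i => ?_) ?_)
        · rw [map_mul]
          exact (hg.2.1 i).mul_left (hgxz i (τ wb) (fun r => (hτσ r wb).symm)
            (hτcomm _ _ (hwe i).1).symm (hτcomm _ _ (hwe i).2).symm).1
        · rw [map_mul]
          exact (hg.2.2.1 i).mul_left (hgxz i (τ wb) (fun r => (hτσ r wb).symm)
            (hτcomm _ _ (hwe i).1).symm (hτcomm _ _ (hwe i).2).symm).2
        · rintro w (rfl | rfl)
          exacts [hflip _ iv hiv hwv, hflip _ iu hiu hwu]
      obtain ⟨r, hr⟩ := hA _ hgb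
      have hwbE : τ wb ∈ E := by
        let TE : AddSubmonoid W :=
          { carrier := {w | τ w ∈ E}
            zero_mem' := by
              obtain ⟨r, hr⟩ := hA _ (Subgroup.mem_subgroupOf.1
                ((QuotientGroup.eq_one_iff (lift 0)).1 (hlift 0)))
              exact show ρ _ ∈ E from hr ▸ hEσ r
            add_mem' := fun {w w'} hw hw' => by
              obtain ⟨r, -, hr⟩ := hτadd w w'
              exact show τ (w + w') ∈ E from hr ▸ E.mul_mem (hEσ r) (E.mul_mem hw hw') }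
        exact TE.add_mem (TE.nsmul_mem (show v ∈ TE from hER v (Or.inl rfl)) _)
          (TE.nsmul_mem (show u ∈ TE from hER u (Or.inr rfl)) _)
      obtain ⟨β, hβ0, hβ⟩ := hτq wb
      have hgE : ρ g = σ (r * β⁻¹) * τ wb := by
        have h1 : σ r * τ wb = σ β * ρ g := by
          rw [hr, map_mul, mul_assoc, show ρ (lift wb : X) = τ wb from rfl, ← pow_two, hβ, (hg.1 β).eq]
        rw [mul_comm r, map_mul, mul_assoc, h1, ← mul_assoc, ← map_mul, inv_mul_cancel₀ hβ0, map_one,
          one_mul]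
      have h1 : ρ g = σ 1 := hEeigen _ (hgE ▸ E.mul_mem (hEσ _) hwbE) 1 a₁ ha₁0 (by
        rw [map_one]; exact hg.2.2.2)
      exact hρ (by rw [h1, map_one, map_one])
    have hcard : Nat.card K ≤ 6 := by
      have hv0 : v ≠ 0 := fun z => by rw [z, map_zero, AddMonoidHom.zero_apply] at hvu; exact zero_ne_one hvu
      have hu0 : u ≠ 0 := fun z => by rw [z, map_zero] at hvu; exact zero_ne_one hvu
      let S : Finset (W × W) :=
        {(v, u), (v, v + u), (u, v), (u, v + u), (v + u, v), (v + u, u)}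
      have hmem : ∀ g : K, (κ g v, κ g u) ∈ S := by
        rintro ⟨g, hg⟩
        have himg : ∀ w, w ≠ 0 → (∀ i, c (eW i) w = 0 ∧ c (fW i) w = 0) →
            κ g w = v ∨ κ g w = u ∨ κ g w = v + u := fun w hw0 hw => by
          refine (hplane _ fun i => ?_).resolve_left fun z => hw0 (hκinj g (z.trans ?_))
          · refine ⟨?_, ?_⟩
            · rw [← (hκfix g hg i).1, hJconj g hg.1, (hw i).1]
            · rw [← (hκfix g hg i).2, hJconj g hg.1, (hw i).2]
          · refine ((hκmk g 1).trans ?_).symm.trans (congrArg (κ g) ?_)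
            · simp
              rfl
            · rfl
        have hne : κ g v ≠ κ g u := fun e => by
          have := hκinj g e
          rw [this, halt] at hvu
          exact zero_ne_one hvu
        rcases himg v hv0 (fun i => ⟨(horth i).1, (horth i).2.2.1⟩) with h1 | h1 | h1 <;>
          rcases himg u hu0 (fun i => ⟨(horth i).2.1, (horth i).2.2.2⟩) with h2 | h2 | h2 <;>
          rw [h1, h2] at hne ⊢ <;> first | exact absurd rfl hne | simp [S]
      have hinj : Function.Injective fun g : K => (⟨(κ g v, κ g u), hmem g⟩ : S) := by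
        intro g h e
        have e' := congrArg Subtype.val e
        simp only [Prod.mk.injEq] at e'
        have h1 : ∀ w, κ g w = κ h w → κ ((g⁻¹ * h : K) : X) w = w := fun w hw => by
          rw [Subgroup.coe_mul, Subgroup.coe_inv, hκmul, ← hw, ← hκmul, inv_mul_cancel, hκone]
        exact inv_mul_eq_one.1 (Subtype.ext (hker _ (g⁻¹ * h).2 (h1 v e'.1) (h1 u e'.2)))
      refine (Nat.card_le_card_of_injective _ hinj).trans ?_
      rw [Nat.card_eq_fintype_card, Fintype.card_coe]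
      exact Finset.card_le_six
    let T₁ : Subgroup X :=
      { carrier := {g | ρ g a₁ = a₁}
        one_mem' := by show ρ 1 a₁ = a₁; rw [map_one]; rfl
        mul_mem' := fun {g h} hg hh => by
          show ρ (g * h) a₁ = a₁
          rw [CfsgLib.OddBase.map_mul_apply, hh, hg]
        inv_mem' := fun {g} hg => by
          show ρ g⁻¹ a₁ = a₁
          conv_lhs => rw [← hg, CfsgLib.OddBase.inv_apply] }
    have hαeq : ∀ g r r', ρ g * σ r = σ r' * ρ g → α g r = r' := fun g r r' h => hσ (by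
      have := congrArg (· * ρ g⁻¹) ((hα g r).symm.trans h)
      simpa only [mul_assoc, ← map_mul ρ, mul_inv_cancel, map_one, mul_one] using this)
    have hαmul : ∀ g h, α (g * h) = (α g).comp (α h) := fun g h => RingHom.ext fun r => hαeq _ _ _ (by
      rw [map_mul, mul_assoc, hα, ← mul_assoc, hα, mul_assoc]
      rfl)
    have hαone : ∀ r, α 1 r = r := fun r => hαeq _ _ _ (by rw [map_one, one_mul, mul_one])
    have hKmem : ∀ g, ρ g a₁ = a₁ → (∀ r, α g r = r) → g ∈ K := fun g h1 h2 =>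
      ⟨fun r => (hα g r).trans (by rw [h2]), fun i => i.elim0, fun i => i.elim0, h1⟩
    let rep : Set.range (fun g : T₁ => α g) → T₁ := fun a => a.2.choose
    have hrep : ∀ a, α (rep a) = a.1 := fun a => a.2.choose_spec
    have hmemK : ∀ g : T₁, ((rep ⟨α g, g, rfl⟩ : T₁) : X)⁻¹ * g ∈ K := by
      intro g
      set g' : T₁ := rep ⟨α g, g, rfl⟩
      have he' : α (g' : X) = α g := hrep _
      refine hKmem _ (T₁.mul_mem (T₁.inv_mem g'.2) g.2) fun r => ?_
      rw [hαmul]
      show α (g' : X)⁻¹ (α g r) = r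
      rw [← he', ← RingHom.comp_apply, ← hαmul, inv_mul_cancel]
      exact hαone r
    obtain ⟨n, hn⟩ := hcardF
    have hTK : Nat.card T₁ ≤ n * Nat.card K := by
      haveI : Finite (F →+* F) := Finite.of_injective (fun f => (f : F → F)) DFunLike.coe_injective
      refine (Nat.card_le_card_of_injective
        (fun g : T₁ => ((⟨α g, g, rfl⟩, ⟨_, hmemK g⟩) : Set.range (fun g : T₁ => α g) × K)) ?_).trans ?_
      · intro g h e
        simp only [Prod.mk.injEq, Subtype.mk.injEq] at e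
        have e1 : (⟨α g, g, rfl⟩ : Set.range (fun g : T₁ => α g)) = ⟨α h, h, rfl⟩ := e.1
        have e2 := e.2
        rw [e1] at e2
        exact Subtype.ext (mul_left_cancel e2)
      · rw [Nat.card_prod]
        exact Nat.mul_le_mul_right _ ((Finite.card_subtype_le _).trans (card_ringHom_le p hn))
    have hv0 : v ≠ 0 := fun z => by
      rw [z, map_zero, AddMonoidHom.zero_apply] at hvu; exact zero_ne_one hvu
    have hu0 : u ≠ 0 := fun z => by rw [z, map_zero] at hvu; exact zero_ne_one hvu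
    have hvu0 : v + u ≠ 0 := fun z => by
      rw [eq_neg_of_add_eq_zero_right z, map_neg, halt, neg_zero] at hvu
      exact zero_ne_one hvu
    have hκ0 : ∀ g, κ g 0 = 0 := fun g => by
      refine (congrArg (κ g) (rfl : (0 : W) = Additive.ofMul (QuotientGroup.mk (1 : B) : B ⧸ A'))).trans
        ((hκmk g 1).trans ?_)
      simp
      rfl
    have hF4' : Nat.card F % 4 = 3 := hF4 (heR (Set.insert_nonempty _ _).ne_empty)
    have hT1 : Nat.card T₁ ≤ Nat.card F := by
      refine hTK.trans ?_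
      rw [hn] at hF4' ⊢
      have h3p : 3 ≤ p := by have := hp.out.two_le; omega
      rcases (show (n : ℕ) = 1 ∨ (n : ℕ) = 2 ∨ 3 ≤ (n : ℕ) by have := n.pos; omega) with h1 | h2 | h3
      · rw [h1, one_mul, pow_one]
        rw [h1, pow_one] at hF4'
        by_cases hp3 : p = 3
        · subst hp3
          let P3 := {w : W // w = v ∨ w = u ∨ w = v + u}
          have himg : ∀ (g : K) (w : P3), κ g w.1 = v ∨ κ g w.1 = u ∨ κ g w.1 = v + u := by
            intro g w
            refine (hplane (κ g w.1) fun i => i.elim0).resolve_left fun z => ?_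
            have hw : w.1 = 0 := hκinj g (z.trans (hκ0 g).symm)
            rcases w.2 with e' | e' | e' <;> rw [e'] at hw
            exacts [hv0 hw, hu0 hw, hvu0 hw]
          let act : K →* Equiv.Perm P3 :=
            MonoidHom.mk' (fun g => Equiv.ofBijective (fun w => ⟨κ g w.1, himg g w⟩)
              (Finite.injective_iff_bijective.1 fun w w' e' =>
                Subtype.ext (hκinj g (congrArg Subtype.val e')))) fun g h =>
              Equiv.ext fun w => Subtype.ext (hκmul g h w.1)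
          have hinj : Function.Injective act := (injective_iff_map_eq_one act).2 fun g hg =>
            Subtype.ext (hker g g.2
              (congrArg Subtype.val (Equiv.congr_fun hg ⟨v, Or.inl rfl⟩))
              (congrArg Subtype.val (Equiv.congr_fun hg ⟨u, Or.inr (Or.inl rfl)⟩)))
          have h6 : Nat.card (Equiv.Perm P3) ∣ 6 := by
            rw [Nat.card_perm, show (6 : ℕ) = Nat.factorial 3 from rfl]
            refine Nat.factorial_dvd_factorial ?_
            let ι : Fin 3 → P3 := ![⟨v, Or.inl rfl⟩, ⟨u, Or.inr (Or.inl rfl)⟩,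
              ⟨v + u, Or.inr (Or.inr rfl)⟩]
            have hι : Function.Surjective ι := by
              rintro ⟨w, rfl | rfl | rfl⟩
              exacts [⟨0, rfl⟩, ⟨1, rfl⟩, ⟨2, rfl⟩]
            exact (Nat.card_le_card_of_surjective ι hι).trans (Nat.card_fin 3).le
          have hd := (Subgroup.card_dvd_of_injective act hinj).trans h6
          have h3 : ¬ 3 ∣ Nat.card K := fun h => hc (h.trans (Subgroup.card_subgroup_dvd_card K))
          have hle := Nat.le_of_dvd (by norm_num) hd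
          interval_cases Nat.card K <;> omega
        · have := hp.out.two_le
          rcases (show p = 4 ∨ p = 5 ∨ p = 6 ∨ 7 ≤ p by omega) with h | h | h | h <;> omega
      · exfalso
        rw [h2, pow_two, Nat.mul_mod] at hF4'
        have hodd : p % 2 = 1 := hp.out.eq_two_or_odd.resolve_left hp2
        have : p % 4 = 1 ∨ p % 4 = 3 := by omega
        rcases this with h | h <;> rw [h] at hF4' <;> norm_num at hF4'
      · refine le_trans ?_ (Nat.pow_le_pow_left h3p _)
        refine le_trans (Nat.mul_le_mul_left _ hcard) ?_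
        generalize (n : ℕ) = m at h3
        induction m, h3 using Nat.le_induction with
        | base => norm_num
        | succ m hm ih => rw [pow_succ]; omega
    obtain ⟨-, hSE, -, -, β, -, hSS, -, hβn, -, -⟩ := hplaneE (heR (Set.insert_nonempty _ _).ne_empty)
    have hV2 : Nat.card F * Nat.card F ≤ Nat.card V := by
      rw [← Nat.card_prod]
      refine Nat.card_le_card_of_injective (fun r : F × F => σ r.1 a₁ + σ r.2 (S a₁)) ?_
      rintro ⟨x, y⟩ ⟨x', y'⟩ h
      simp only at h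
      have h' : σ (y - y') (S a₁) = σ (x' - x) a₁ := by
        rw [map_sub, map_sub]
        show σ y (S a₁) - σ y' (S a₁) = σ x' a₁ - σ x a₁
        rw [sub_eq_sub_iff_add_eq_add, add_comm, h]
      by_cases hy : y = y'
      · subst hy
        rw [sub_self, map_zero] at h'
        exact Prod.ext (sub_eq_zero.1 (D.sc_eq_zero h'.symm ha₁0)).symm rfl
      · exfalso
        have h1 := hEeigen S hSE ((y - y')⁻¹ * (x' - x)) a₁ ha₁0 (by
          rw [map_mul]
          show S a₁ = σ (y - y')⁻¹ (σ (x' - x) a₁)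
          rw [← h']
          exact (D.sc_inv_apply (sub_ne_zero.2 hy) _).symm)
        refine hβn ⟨(y - y')⁻¹ * (x' - x), hσ ?_⟩
        rw [← hSS, h1, map_mul σ ((y - y')⁻¹ * (x' - x))]
    letI : MulAction T₁ V :=
      { smul := fun g x => ρ (g : X) x
        one_smul := fun x => by show ρ (1 : X) x = x; rw [map_one]; rfl
        mul_smul := fun g h x => CfsgLib.OddBase.map_mul_apply ρ g h x }
    obtain ⟨b, hb⟩ := exists_one_point (T := T₁) (W := V) hT1 fun g hg => by
      by_cases hid : ∀ r, α g r = r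
      · obtain ⟨x₀, hx₀⟩ : ∃ x : V, ρ (g : X) x ≠ x := by
          by_contra h
          push Not at h
          exact hg (Subtype.ext (hρ ((ext_end h).trans (map_one ρ).symm)))
        rw [← Nat.card_prod]
        refine Nat.card_le_card_of_injective
          (fun r : MulAction.fixedBy V g × F => (r.1 : V) + σ r.2 x₀) ?_
        rintro ⟨y, r⟩ ⟨y', r'⟩ h
        simp only at h
        by_cases hr : r = r'
        · subst hr
          exact Prod.ext (Subtype.ext (add_right_cancel h)) rfl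
        exfalso
        have e2 := congrArg (ρ (g : X)) h
        rw [map_add, map_add, show ρ (g : X) (y : V) = y from y.2,
          show ρ (g : X) (y' : V) = y' from y'.2,
          Heis.comm_apply (show Commute (ρ (g : X)) (σ r) from (hα g r).trans (by rw [hid])),
          Heis.comm_apply (show Commute (ρ (g : X)) (σ r') from (hα g r').trans (by rw [hid]))] at e2
        have e3 : σ (r - r') (ρ (g : X) x₀ - x₀) = 0 := by
          rw [map_sub σ]
          show σ r (_ - _) - σ r' (_ - _) = 0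
          rw [map_sub, map_sub]
          linear_combination (norm := abel) e2 - h
        exact sub_ne_zero.2 hr (D.sc_eq_zero e3 (sub_ne_zero.2 hx₀))
      · push Not at hid
        obtain ⟨θ, hθ⟩ := hid
        have h1 : Nat.card (MulAction.fixedBy V g) * Nat.card (MulAction.fixedBy V g) ≤ Nat.card V := by
          rw [← Nat.card_prod]
          refine Nat.card_le_card_of_injective
            (fun r : MulAction.fixedBy V g × MulAction.fixedBy V g => (r.1 : V) + σ θ (r.2 : V)) ?_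
          rintro ⟨y, z⟩ ⟨y', z'⟩ h
          simp only at h
          have e2 := congrArg (ρ (g : X)) h
          rw [map_add, map_add, show ρ (g : X) (y : V) = y from y.2,
            show ρ (g : X) (y' : V) = y' from y'.2, ← CfsgLib.OddBase.mul_apply', hα,
            CfsgLib.OddBase.mul_apply', ← CfsgLib.OddBase.mul_apply' (ρ (g : X)) (σ θ) (z' : V), hα,
            CfsgLib.OddBase.mul_apply', show ρ (g : X) (z : V) = z from z.2,
            show ρ (g : X) (z' : V) = z' from z'.2] at e2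
          have e3 : σ (α g θ - θ) ((z : V) - z') = 0 := by
            rw [map_sub σ]
            show σ (α g θ) (_ - _) - σ θ (_ - _) = 0
            rw [map_sub, map_sub]
            linear_combination (norm := abel) e2 - h
          have hzz : (z : V) = z' := by
            by_contra hne
            exact hθ (sub_eq_zero.1 (D.sc_eq_zero e3 (sub_ne_zero.2 hne)))
          rw [hzz] at h
          exact Prod.ext (Subtype.ext (add_right_cancel h)) (Subtype.ext hzz)
        refine Nat.mul_self_le_mul_self_iff.1 ?_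
        calc Nat.card (MulAction.fixedBy V g) * Nat.card F *
              (Nat.card (MulAction.fixedBy V g) * Nat.card F)
            = Nat.card (MulAction.fixedBy V g) * Nat.card (MulAction.fixedBy V g) *
              (Nat.card F * Nat.card F) := by ring
          _ ≤ Nat.card V * Nat.card V := Nat.mul_le_mul h1 hV2
    refine ⟨a₁, b, fun g hga hgb => ?_⟩
    rw [show g = 1 from congrArg Subtype.val (hb ⟨g, hga⟩ hgb), map_one]
  -- the fixed space is smaller
  have hUlt : Nat.card D.U < Nat.card V := by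
    refine lt_of_le_of_ne (AddSubgroup.card_le_card_addGroup _) fun h => ?_
    have hmem : D.slot (Pi.single ⟨0, hs1⟩ 1) a₁ ∈ D.U :=
      AddSubgroup.eq_top_of_card_eq _ h ▸ AddSubgroup.mem_top _
    have := congrFun (D.slot_index_eq (c := Pi.single ⟨0, hs1⟩ 1) (d := 0) ha₁ hmem
      (by rw [D.slot_zero]; rfl) ha₁0) ⟨0, hs1⟩
    simp at this
  let Y : Subgroup X :=
    { carrier := {g | ∀ x, x ∈ D.U ↔ ρ g x ∈ D.U}
      one_mem' := fun x => by rw [map_one]; exact Iff.rfl
      mul_mem' := fun {g h} hg hh x => by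
        rw [CfsgLib.OddBase.map_mul_apply]
        exact (hh x).trans (hg _)
      inv_mem' := fun {g} hg x => by
        conv_lhs => rw [← CfsgLib.OddBase.apply_inv ρ g x]
        exact (hg _).symm }
  have hYU : Inv (ρ.comp Y.subtype) D.U := fun g x hx => (g.2 x).1 hx
  have hYc : ¬ p ∣ Nat.card Y := fun h => hc (h.trans (Subgroup.card_subgroup_dvd_card Y))
  obtain ⟨a, b, ha0', hab⟩ := exists_base_ne_zero (IH Y (haveI := hsolv; inferInstance) D.U hUlt p
    hp.out (fun x => Subtype.ext (hV x)) hYc (res (ρ.comp Y.subtype) D.U hYU))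
  have ha : (a : V) ∈ D.U := a.2
  have ha0 : (a : V) ≠ 0 := fun h => ha0' (Subtype.ext h)
  have hinj : ∀ g, Function.Injective (ρ g) := CfsgLib.OddBase.apply_injective ρ
  have finish : ∀ (n : ℕ) (cl : (Fin s → ZMod q) → ℕ), Colours D E (a : V) n → (∀ c, cl c ≤ n) →
      Pins {c : Fin s → ZMod q | c ≠ 0 ∧ cl c = 0} →
      (∀ g, (∀ x ∈ D.U, ρ g x = x) → ∀ h R, Shift D E (ρ g) h R →
        (∀ c, c ≠ 0 → cl (h c) = cl c) → ∀ c, h c = c) → HasBase ρ := by
    intro n cl hCol hcl hpins hrig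
    obtain ⟨w, hw⟩ := exists_vector hO ha ha0 (hEig _ ha0) hCol cl hcl hpins b.2
    refine ⟨a, w, fun g hga hgw => ?_⟩
    have hfw := fun (g : X) (h1 : ρ g (a : V) = a) (h2 : ρ g w = w) =>
      hw (ρ g) (α g) (hinj g) (hα g) (fun i => (hQ g i).1) (fun i => (hQ g i).2) h1 h2
    obtain ⟨hUmap, hgb, hrest⟩ := hfw g hga hgw
    obtain ⟨hUmap', -, -⟩ := hfw g⁻¹
      (by conv_lhs => rw [← hga, CfsgLib.OddBase.inv_apply])
      (by conv_lhs => rw [← hgw, CfsgLib.OddBase.inv_apply])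
    have hgY : g ∈ Y := fun x => ⟨hUmap x, fun h => by
      have := hUmap' _ h
      rwa [CfsgLib.OddBase.inv_apply] at this⟩
    have hfix : ∀ x ∈ D.U, ρ g x = x := fun x hx =>
      congrArg (fun f : AddMonoid.End D.U => ((f ⟨x, hx⟩ : D.U) : V))
        (hab ⟨g, hgY⟩ (Subtype.ext hga) (Subtype.ext hgb))
    obtain ⟨h, R', hS, hpres, hG⟩ := hrest hfix
    exact hG (hrig g hfix h R' hS hpres)
  haveI : Fintype F := Fintype.ofFinite F
  have hFp : p ∣ Nat.card F := by
    obtain ⟨n, hn⟩ := hcardF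
    rw [hn]
    exact dvd_pow_self p n.pos.ne'
  have hFodd : Nat.card F % 2 = 1 := by
    obtain ⟨n, hn⟩ := hcardF
    rw [hn, Nat.pow_mod, hp.out.eq_two_or_odd.resolve_left hp2]
    simp
  have hqd : q ∣ Nat.card F - 1 := by
    rw [hζ.eq_orderOf, Nat.card_eq_fintype_card]
    exact orderOf_dvd_of_pow_eq_one (FiniteField.pow_card_sub_one_eq_one ζ (hζ.ne_zero hq.ne_zero))
  by_cases hq2 : q = 2
  swap
  · obtain ⟨A₀, B₀, -, hA0, hB0, hdis, hpins, hrig⟩ := exists_odd_pattern (q := q) hq2 hs1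
    let cl : (Fin s → ZMod q) → ℕ := fun c => if c ∈ A₀ then 2 else if c ∈ B₀ then 0 else 1
    refine finish 2 cl ?_ (fun c => ?_) ?_ ?_
    · refine colours_of_powers (t := 1) hO ha ha0 (hEig _ ha0) ?_ ?_
      · obtain ⟨k, hk⟩ : ∃ k, q = 2 * k + 1 :=
          ⟨q / 2, by have := hq.eq_two_or_odd.resolve_left hq2; omega⟩
        refine ⟨k + 1, ?_⟩
        rw [one_mul, hk, Nat.choose_two_right, Nat.add_sub_cancel,
          show (2 * k + 1 + 1) * (2 * k + 1) = (2 * k + 1) * (k + 1) * 2 by ring,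
          Nat.mul_div_cancel _ two_pos]
      · rw [mul_one, Nat.gcd_eq_left hqd]
        have h2q : 2 * q ∣ Nat.card F - 1 :=
          ((Nat.coprime_primes Nat.prime_two hq).2 (Ne.symm hq2)).mul_dvd_of_dvd_of_dvd
            (Nat.dvd_of_mod_eq_zero (by omega)) hqd
        exact Nat.le_of_dvd (by have := Finite.one_lt_card (α := F); omega) h2q
    · simp only [cl]; split_ifs <;> omega
    · rw [show {c : Fin s → ZMod q | c ≠ 0 ∧ cl c = 0} = B₀ from Set.ext fun c => by
        refine ⟨fun hc' => ?_, fun hc' => ⟨fun e => hB0 (e ▸ hc'), ?_⟩⟩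
        · have h2 := hc'.2
          simp only [cl] at h2
          split_ifs at h2 with h3 h4
          exact h4
        · simp only [cl, if_neg (Set.disjoint_right.1 hdis hc'), if_pos hc']]
      exact hpins
    · intro g _ h R' hS hpres
      refine hrig h hS.inj (fun c hc' => ?_) fun c hc' => ?_
      · have h1 := hpres c fun e => hA0 (e ▸ hc')
        simp only [cl, if_pos hc'] at h1
        by_contra h3
        rw [if_neg h3] at h1
        split_ifs at h1 <;> omega
      · have h1 := hpres c fun e => hB0 (e ▸ hc')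
        simp only [cl, if_pos hc', if_neg (Set.disjoint_right.1 hdis hc')] at h1
        split_ifs at h1 with h3 h4
        exact h4
  subst hq2
  rcases (show s = 1 ∨ 5 ≤ s ∨ (2 ≤ s ∧ s ≤ 4) by omega) with rfl | hs5 | ⟨hs2, hs4⟩
  · refine finish 1 (fun _ => 1) (colours_one ha ha0) (fun _ => le_rfl) (by
      rw [show {c : Fin 1 → ZMod 2 | c ≠ 0 ∧ (1 : ℕ) = 0} = ∅ from by ext c; simp]
      exact pins_empty) fun g _ h R' hS _ c => ?_
    have h2 : ∀ c d : Fin 1 → ZMod 2, c ≠ 0 → d ≠ 0 → c = d := fun_one_eq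
    by_cases hc0 : c = 0
    · rw [hc0, map_zero]
    · exact h2 _ _ (fun z => hc0 (hS.inj (z.trans (map_zero h).symm))) hc0
  · obtain ⟨Z, hZ0, hrig, hpins⟩ := exists_rigid_pins hs5
    let cl : (Fin s → ZMod 2) → ℕ := fun c => if c ∈ Z then 0 else 1
    refine finish 1 cl (colours_one ha ha0) (fun c => by simp only [cl]; split_ifs <;> omega) ?_ ?_
    · rw [show {c : Fin s → ZMod 2 | c ≠ 0 ∧ cl c = 0} = Z from Set.ext fun c => by
        refine ⟨fun hc' => ?_, fun hc' => ⟨fun e => hZ0 (e ▸ hc'), by simp [cl, hc']⟩⟩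
        have := hc'.2
        simp only [cl] at this
        split_ifs at this with h3
        exact h3]
      exact hpins
    · intro g _ h R' hS hpres
      refine hrig h hS.inj fun c hc' => ?_
      have h1 := hpres c fun e => hZ0 (e ▸ hc')
      simp only [cl, if_pos hc'] at h1
      split_ifs at h1 with h3
      exact h3
  have hthree : Colours D E (a : V) 3 → HasBase ρ := fun hCol => by
    obtain ⟨cl, hcl, hpins, hrig⟩ := exists_three_colours hs2 hs4
    exact finish 3 cl hCol hcl hpins fun g _ h R' hS hpres => hrig h hS.inj hpres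
  by_cases hF359 : Nat.card F = 3 ∨ Nat.card F = 5 ∨ Nat.card F = 9
  swap
  · refine hthree (colours_of_powers (t := 2) hO ha ha0 (hEig _ ha0) ⟨3, rfl⟩ ?_)
    have h1 := Nat.gcd_dvd_left (2 * 2) (Nat.card F - 1)
    have h2 := Nat.gcd_dvd_right (2 * 2) (Nat.card F - 1)
    have h3 := Nat.le_of_dvd (by norm_num) h1
    have := Finite.one_lt_card (α := F)
    generalize Nat.gcd (2 * 2) (Nat.card F - 1) = d at h1 h2 h3
    interval_cases d <;> omega
  have he2F : e = 2 → Nat.card F = 3 := fun h => by have := hF4 h; omega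
  haveI : Finite (AddMonoid.End V) :=
    Finite.of_injective (fun f => (f : V → V)) DFunLike.coe_injective
  haveI : Finite E := inferInstance
  have hEcard : Nat.card E ≤ Nat.card F * (e * e) := by
    choose cc ii hii hff using fun f : E => hEform f f.2
    rw [show Nat.card F * (e * e) = Nat.card (F × Fin (e * e)) by rw [Nat.card_prod, Nat.card_fin]]
    refine Nat.card_le_card_of_injective (fun f => (cc f, (⟨ii f, hii f⟩ : Fin (e * e)))) fun f f' h => ?_
    simp only [Prod.mk.injEq, Fin.mk.injEq] at h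
    exact Subtype.ext (by rw [hff f, hff f', h.1, h.2])
  by_cases hspanU : ∀ x ∈ D.U, ∃ A₁ B₁ : F,
      x = D.sc A₁ a + (if e = 2 then D.sc B₁ (S a) else 0)
  swap
  · push Not at hspanU
    obtain ⟨y, hy, hyn⟩ := hspanU
    refine hthree ?_
    have hbig : 2 * (Nat.card F * (e * e)) < Nat.card D.U := by
      rcases he with h | h
      · refine lt_of_lt_of_le ?_ (Nat.card_le_card_of_injective
          (fun r : F × F => (⟨σ r.1 a + σ r.2 y, D.U.add_mem (D.sc_mem ha _) (D.sc_mem hy _)⟩ : D.U))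
          ?_)
        · rw [Nat.card_prod, h]
          rcases hF359 with e' | e' | e' <;> rw [e'] <;> norm_num
        rintro ⟨x₁, x₂⟩ ⟨y₁, y₂⟩ heq
        have heq' := congrArg Subtype.val heq
        simp only at heq'
        by_cases h2 : x₂ = y₂
        · subst h2
          exact Prod.ext (D.sc_cancel (add_right_cancel heq') ha0) rfl
        exfalso
        refine hyn ((x₂ - y₂)⁻¹ * (y₁ - x₁)) 0 ?_
        rw [if_neg (by omega), add_zero, D.sc_apply_mul]
        conv_lhs => rw [← D.sc_inv_apply (sub_ne_zero.2 h2) y]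
        congr 1
        rw [map_sub, map_sub]
        show σ x₂ y - σ y₂ y = σ y₁ _ - σ x₁ _
        linear_combination (norm := abel) heq'
      · obtain ⟨-, hSE, -, -, β, -, hSS, -, hβn, -, -⟩ := hplaneE h
        refine lt_of_lt_of_le ?_ (Nat.card_le_card_of_injective
          (fun r : F × F × F => (⟨σ r.1 a + σ r.2.1 (S a) + σ r.2.2 y, D.U.add_mem
            (D.U.add_mem (D.sc_mem ha _) (D.sc_mem (hO.mem_U hSE ha) _)) (D.sc_mem hy _)⟩ : D.U)) ?_)
        · rw [Nat.card_prod, Nat.card_prod, h, he2F h]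
          norm_num
        rintro ⟨x₁, x₂, x₃⟩ ⟨y₁, y₂, y₃⟩ heq
        have heq' := congrArg Subtype.val heq
        simp only at heq'
        have h3 : x₃ = y₃ := by
          by_contra h3
          refine hyn ((x₃ - y₃)⁻¹ * (y₁ - x₁)) ((x₃ - y₃)⁻¹ * (y₂ - x₂)) ?_
          rw [if_pos h, D.sc_apply_mul, D.sc_apply_mul, ← map_add]
          conv_lhs => rw [← D.sc_inv_apply (sub_ne_zero.2 h3) y]
          congr 1
          rw [map_sub, map_sub, map_sub]
          show σ x₃ y - σ y₃ y = (σ y₁ _ - σ x₁ _) + (σ y₂ _ - σ x₂ _)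
          linear_combination (norm := abel) heq'
        subst h3
        have h4 := add_right_cancel heq'
        have h2 : x₂ = y₂ := by
          by_contra h2
          have h1 := hEeigen S hSE ((x₂ - y₂)⁻¹ * (y₁ - x₁)) a ha0 (by
            conv_lhs => rw [← D.sc_inv_apply (sub_ne_zero.2 h2) (S a)]
            show σ _ _ = _
            rw [map_mul σ]
            show σ _ _ = σ _ (σ _ _)
            congr 1
            rw [map_sub, map_sub]
            show σ x₂ (S a) - σ y₂ (S a) = σ y₁ _ - σ x₁ _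
            linear_combination (norm := abel) h4)
          refine hβn ⟨(x₂ - y₂)⁻¹ * (y₁ - x₁), hσ ?_⟩
          rw [← hSS, h1, map_mul σ ((x₂ - y₂)⁻¹ * (y₁ - x₁))]
        subst h2
        rw [D.sc_cancel (add_right_cancel h4) ha0]
    obtain ⟨vv, hv1, hv2, hv3⟩ := exists_three_vectors hO hEig hEsq ha ha0 hEcard hbig
    exact colours_of_orbits vv (by norm_num) hv1 hv2 (fun j => hEig _ (hv2 j)) hv3
  by_cases h9 : Nat.card F = 9
  · -- two colours, no elements of order three
    have hp3 : p = 3 := by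
      have h1 : p ∣ 3 ^ 2 := by rw [show (3 : ℕ) ^ 2 = 9 by norm_num, ← h9]; exact hFp
      exact (Nat.prime_dvd_prime_iff_eq hp.out Nat.prime_three).1 (hp.out.dvd_of_dvd_pow h1)
    let H : Subgroup X :=
      { carrier := {g | ∀ x ∈ D.U, ρ g x = x}
        one_mem' := fun x _ => by rw [map_one]; rfl
        mul_mem' := fun {g h} hg hh x hx => by
          rw [CfsgLib.OddBase.map_mul_apply, hh x hx, hg x hx]
        inv_mem' := fun {g} hg x hx => by
          conv_lhs => rw [← hg x hx, CfsgLib.OddBase.inv_apply] }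
    obtain ⟨φ, hφ⟩ := exists_shiftHom (ρ.comp H.subtype) ha ha0 hO (fun g => hinj g)
      (fun g x hx => g.2 x hx) fun g =>
        exists_shift hO ha ha0 (hinj g)
          (diag hO ha ha0 (hEig _ ha0) (fun i => (hQ g i).1) (g.2 _ ha))
          (fun i => (hQ g i).2) (g.2 _ ha)
    have hHc : ¬ p ∣ Nat.card H := fun h => hc (h.trans (Subgroup.card_subgroup_dvd_card H))
    have hPn : NoThree (Set.range fun g => φ g) := by
      constructor
      · rintro _ ⟨g, rfl⟩
        exact CfsgLib.OddBase.apply_injective φ g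
      · rintro _ ⟨g, rfl⟩ _ ⟨g', rfl⟩
        exact ⟨g * g', map_mul φ g g'⟩
      · rintro _ ⟨g, rfl⟩ h3'
        have := eq_one_of_pow_prime φ Nat.prime_three (hp3 ▸ hHc) (g := g) (DFunLike.ext _ _ h3')
        intro c
        exact congrArg (fun f : AddMonoid.End _ => f c) this
    obtain ⟨cl, hcl, hpins, hrig⟩ := exists_two_colours hs2 hs4 hPn
    refine finish 2 cl (colours_of_powers (t := 2) hO ha ha0 (hEig _ ha0) ⟨3, rfl⟩
      (by rw [h9]; decide)) hcl hpins fun g hgU h R' hS hpres c => ?_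
    rw [← hφ ⟨g, hgU⟩ h R' hS c]
    exact hrig _ ⟨⟨g, hgU⟩, rfl⟩
      (fun c hc' => by
        show cl (φ ⟨g, hgU⟩ c) = _
        rw [show φ ⟨g, hgU⟩ c = h c from hφ ⟨g, hgU⟩ h R' hS c]; exact hpres c hc') c
  -- the exceptional cases
  have hFp' : Nat.card F = p := by
    rcases hF359 with h | h | h
    · rw [h] at hFp ⊢
      exact ((Nat.prime_dvd_prime_iff_eq hp.out Nat.prime_three).1 hFp).symm
    · rw [h] at hFp ⊢
      exact ((Nat.prime_dvd_prime_iff_eq hp.out (by norm_num)).1 hFp).symm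
    · exact absurd h h9
  have hp35 : p = 3 ∨ p = 5 := by omega
  obtain ⟨r, rfl⟩ : ∃ r, s = r + 2 := ⟨s - 2, by omega⟩
  have hpeel : ∀ (u' v' : AddMonoid.End V), Frame D E (a : V) e u' v' → HasBase ρ := fun u' v' hfr =>
    peel (p := p) ρ hc hFp' (by omega) D hO ha ha0 hfr (by
      rcases hp35 with h | h
      · exact Or.inl ⟨h, he⟩
      · exact Or.inr ⟨h, he.resolve_right fun h2 => by have := he2F h2; omega⟩)
      fun g => ⟨fun i => (hQ g i).1, fun i => (hQ g i).2, hQE g⟩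
  rcases he with h1 | h2
  · refine hpeel 1 1 ⟨Or.inl h1, fun f hf => ?_, fun h => absurd h (by omega), fun x hx => ?_⟩
    · obtain ⟨c, i, hi, rfl⟩ := hEform f hf
      refine ⟨c, i, hi, ?_⟩
      rw [h1, mul_one, Nat.lt_one_iff] at hi
      subst hi
      simp [kk]
      rfl
    · obtain ⟨A₁, B₁, hx⟩ := hspanU x hx
      exact ⟨A₁, 0, by rw [hx, if_neg (by omega), if_neg (by omega)]⟩
  obtain ⟨-, hSE, hTE, hST, β, α', hSS, hTT, hβn, hαn, -⟩ := hplaneE h2
  have hF3 := he2F h2
  have hneg : ∀ x : F, ¬ IsSquare x → x = -1 := by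
    intro x hx
    have hx0 : x ≠ 0 := fun h => hx (h ▸ IsSquare.zero)
    have h2' : x * x = 1 := by
      have := FiniteField.pow_card_sub_one_eq_one x hx0
      rwa [← Nat.card_eq_fintype_card, hF3, pow_two] at this
    exact (mul_self_eq_one_iff.1 h2').resolve_left fun h => hx (h ▸ IsSquare.one)
  obtain rfl := hneg β hβn
  obtain rfl := hneg α' hαn
  have hsq1 : ∀ x : F, x ≠ 0 → x * x = 1 := fun x hx => by
    have := FiniteField.pow_card_sub_one_eq_one x hx
    rwa [← Nat.card_eq_fintype_card, hF3, pow_two] at this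
  obtain ⟨A₁, B₁, hTa⟩ := hspanU (T a) (hO.mem_U hTE ha)
  rw [if_pos h2] at hTa
  have hSSa : ∀ x, S (S x) = -x := fun x => by
    show (S * S) x = _
    rw [hSS, map_neg, map_one]
    rfl
  have hTTa : ∀ x, T (T x) = -x := fun x => by
    show (T * T) x = _
    rw [hTT, map_neg, map_one]
    rfl
  have hTSa : T (S a) = D.sc B₁ a - D.sc A₁ (S a) := by
    have e1 : T * S = σ (-1) * (S * T) := by
      rw [hST, ← mul_assoc, ← map_mul, neg_one_mul, neg_neg, map_one, one_mul]
    show (T * S) a = _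
    rw [e1, map_neg, map_one]
    show -(S (T a)) = _
    rw [hTa, map_add, Heis.comm_apply (hO.comm_sc S hSE A₁), Heis.comm_apply (hO.comm_sc S hSE B₁),
      hSSa, map_neg]
    abel
  have hcoef : A₁ ≠ 0 ∧ B₁ ≠ 0 := by
    have e1 := hTTa a
    rw [hTa, map_add, Heis.comm_apply (hO.comm_sc T hTE A₁), Heis.comm_apply (hO.comm_sc T hTE B₁),
      hTa, hTSa, map_add, map_sub, ← D.sc_apply_mul, ← D.sc_apply_mul, ← D.sc_apply_mul,
      ← D.sc_apply_mul, mul_comm B₁ A₁] at e1
    have e2 : D.sc (A₁ * A₁ + B₁ * B₁ + 1) (a : V) = 0 := by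
      simp only [map_add, map_one]
      show D.sc (A₁ * A₁) (a : V) + D.sc (B₁ * B₁) (a : V) + (a : V) = 0
      linear_combination (norm := abel) e1
    have e3 := D.sc_eq_zero e2 ha0
    constructor <;> intro h0 <;> subst h0
    · exact hβn ⟨B₁, by linear_combination -e3⟩
    · exact hβn ⟨A₁, by linear_combination -e3⟩
  have hAA := hsq1 A₁ hcoef.1
  have hABAB := hsq1 (A₁ * B₁) (mul_ne_zero hcoef.1 hcoef.2)
  set u' : AddMonoid.End V := D.sc (A₁ * B₁) * S with hu'
  set v' : AddMonoid.End V := D.sc A₁ * T with hv'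
  have hSu : S = D.sc (A₁ * B₁) * u' := by
    rw [hu', ← mul_assoc, ← map_mul, hABAB, map_one, one_mul]
  have hTv : T = D.sc A₁ * v' := by rw [hv', ← mul_assoc, ← map_mul, hAA, map_one, one_mul]
  refine hpeel u' v' ⟨Or.inr h2, fun f hf => ?_, fun _ => ⟨E.mul_mem (hO.scal _) hSE,
    E.mul_mem (hO.scal _) hTE, ?_, ?_, ?_, ?_⟩, fun x hx => ?_⟩
  · obtain ⟨c, i, hi, rfl⟩ := hEform f hf
    rw [h2] at hi ⊢
    obtain ⟨k0, k1, k2, k3⟩ := kk_values S T
    obtain ⟨l0, l1, l2, l3⟩ := kk_values u' v'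
    interval_cases i
    · exact ⟨c, 0, hi, by rw [k0, l0]⟩
    · refine ⟨c * (A₁ * B₁), 1, hi, ?_⟩
      rw [k1, l1, hSu, map_mul D.sc c, mul_assoc]
    · refine ⟨c * A₁, 2, hi, ?_⟩
      rw [k2, l2, hTv, map_mul D.sc c, mul_assoc]
    · refine ⟨c * (A₁ * B₁ * A₁), 3, hi, ?_⟩
      have hu'c : Commute (D.sc A₁) u' := (hO.comm_sc u' (E.mul_mem (hO.scal _) hSE) A₁).symm
      rw [k3, l3, hSu, hTv, mul_assoc (D.sc (A₁ * B₁)) u', ← mul_assoc u', ← hu'c.eq,
        mul_assoc (D.sc A₁), ← mul_assoc (D.sc (A₁ * B₁)), ← map_mul, map_mul D.sc c, mul_assoc]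
      rfl
  · show D.sc (A₁ * B₁) (S (D.sc (A₁ * B₁) (S a))) = -(a : V)
    rw [Heis.comm_apply (hO.comm_sc S hSE _), ← D.sc_apply_mul, hABAB, D.sc_one_apply, hSSa]
  · show D.sc A₁ (T a) = (a : V) + D.sc (A₁ * B₁) (S a)
    rw [hTa, map_add, ← D.sc_apply_mul, hAA, D.sc_one_apply, ← D.sc_apply_mul]
  · show D.sc A₁ (T (D.sc (A₁ * B₁) (S a))) = (a : V) - D.sc (A₁ * B₁) (S a)
    rw [Heis.comm_apply (hO.comm_sc T hTE _), hTSa, ← D.sc_apply_mul, map_sub, ← D.sc_apply_mul,
      ← D.sc_apply_mul,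
      show A₁ * (A₁ * B₁) * B₁ = (A₁ * A₁) * (B₁ * B₁) by ring, hAA, hsq1 B₁ hcoef.2,
      show A₁ * (A₁ * B₁) * A₁ = (A₁ * A₁) * (A₁ * B₁) by ring, hAA, one_mul, one_mul,
      D.sc_one_apply]
  · intro r h
    have h1 := hEeigen u' (E.mul_mem (hO.scal _) hSE) r a ha0 h
    refine hβn ⟨r * (A₁ * B₁), hσ ?_⟩
    rw [← hSS, hSu, h1]
    show σ (A₁ * B₁) * σ r * (σ (A₁ * B₁) * σ r) = _
    simp only [← map_mul]
    congr 1
    ring
  · obtain ⟨C₁, C₂, hx⟩ := hspanU x hx
    rw [if_pos h2] at hx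
    refine ⟨C₁, C₂ * (A₁ * B₁), ?_⟩
    rw [if_pos h2, hx, hu']
    show _ = _ + D.sc (C₂ * (A₁ * B₁)) (D.sc (A₁ * B₁) (S a))
    rw [← D.sc_apply_mul, mul_assoc C₂, hABAB, mul_one]

end CfsgLib.CoprimeBase
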