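import Cfsg.Agent.Lib.CoprimeBase.Colour

/-!
# Two vectors for an imprimitive coprime solvable group
-/

set_option autoImplicit false

universe u

namespace CfsgLib.CoprimeBase

open CfsgLib.OddBase (Inv CR HasBase res res_apply map_mul_apply inv_apply apply_inv ext_end
  mul_apply' one_apply')

variable {X : Type u} [Group X] {V : Type u} [AddCommGroup V] (ρ : X →* AddMonoid.End V)

/-- Colours with trivial stabilizer in an odd prime field. -/
theorem exists_colours {p : ℕ} [hp : Fact p.Prime] (hp2 : p ≠ 2) [Finite X]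
    (hX : Group.IsSolvable X) (hc : ¬ p ∣ Nat.card X) {ι : Type u} [Finite ι] [Nonempty ι]
    (σ : X →* Equiv.Perm ι) : ∃ col : ι → ZMod p, ∀ g, (∀ i, col i = col (σ g i)) → σ g = 1 := by
  rcases (show p = 3 ∨ 5 ≤ p by
    have := hp.out.two_le
    have : p ≠ 4 := fun e => absurd (e ▸ hp.out) (by norm_num)
    omega) with rfl | h5
  · obtain ⟨F, hF⟩ := exists_three (Nat.card ι) X hX hc ι le_rfl σ
    exact ⟨F, fun g hg => hF g fun i => (hg i).symm⟩
  · obtain ⟨F, hF⟩ := CfsgLib.SolBase.exists_five (Nat.card ι) (CfsgLib.SolBase.smallBase3 _) X hX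
      ι le_rfl σ
    refine ⟨fun i => ((F 0 i : ℕ) : ZMod p), fun g hg => (hF 0 0 g fun i => ?_).2⟩
    have := (ZMod.natCast_eq_natCast_iff' _ _ p).1 (hg i)
    rw [Nat.mod_eq_of_lt (by omega), Nat.mod_eq_of_lt (by omega)] at this
    exact Fin.ext this.symm

/-- A base gives one inequivalent base for each element of the prime field. -/
theorem exists_pairs [Finite X] [Nontrivial V] {p : ℕ} [hp : Fact p.Prime]
    (hV : ∀ x : V, p • x = 0) (hc : ¬ p ∣ Nat.card X) (h : HasBase ρ) :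
    ∃ pr : ZMod p → Fin 2 → V, ∀ c d g, (∀ k, ρ g (pr c k) = pr d k) → c = d ∧ ρ g = 1 := by
  obtain ⟨v, w, hv, hvw⟩ := exists_base_ne_zero h
  refine ⟨fun c => ![v, w + c.val • v], fun c d g hg => ?_⟩
  have e1 : ρ g v = v := hg 0
  have e2 : ρ g w + c.val • v = w + d.val • v := by
    have := hg 1
    simpa [map_add, map_nsmul, e1] using this
  have hit : ∀ n : ℕ, ρ (g ^ n) v = v ∧ ρ (g ^ n) w + n • (c.val • v) = w + n • (d.val • v) := by
    intro n
    induction n with
    | zero => exact ⟨by rw [pow_zero, map_one]; rfl, by simp [one_apply']⟩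
    | succ n ih =>
      obtain ⟨i1, i2⟩ := ih
      refine ⟨by rw [pow_succ', map_mul_apply, i1, e1], ?_⟩
      have i3 := congrArg (ρ g) i2
      simp only [map_add, map_nsmul, e1] at i3
      rw [pow_succ', map_mul_apply, succ_nsmul, succ_nsmul]
      linear_combination (norm := abel) i3 + e2
  have hg1 : ρ g = 1 := by
    refine eq_one_of_pow_prime ρ hp.out hc ?_
    rw [← map_pow]
    refine hvw _ (hit p).1 ?_
    simpa [hV] using (hit p).2
  refine ⟨?_, hg1⟩
  rw [hg1, one_apply', add_right_inj] at e2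
  have ho : addOrderOf v = p := addOrderOf_eq_prime (hV v) hv
  have := nsmul_eq_nsmul_iff_modEq.1 e2
  rw [ho, Nat.ModEq, Nat.mod_eq_of_lt c.val_lt, Nat.mod_eq_of_lt d.val_lt] at this
  exact ZMod.val_injective p this

/-- The imprimitive case. -/
theorem hasBase_of_blocks [Finite X] [Finite V] {p : ℕ} [hp : Fact p.Prime] (hp2 : p ≠ 2)
    (hV : ∀ x : V, p • x = 0) (hc : ¬ p ∣ Nat.card X) (hX : Group.IsSolvable X)
    (IH : SmallBaseC.{u, u} (Nat.card V)) (hirr : ∀ U, Inv ρ U → U = ⊥ ∨ U = ⊤)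
    {ι : Type u} [Fintype ι] [DecidableEq ι] (hι : 2 ≤ Fintype.card ι) (e : ι → AddMonoid.End V)
    (hidem : ∀ i, e i * e i = e i) (horth : ∀ i j, i ≠ j → e i * e j = 0) (hne : ∀ i, e i ≠ 0)
    (hsum : ∑ i, e i = 1) (σ : X →* Equiv.Perm ι) (hσ : ∀ g i, ρ g * e i = e (σ g i) * ρ g)
    (i₀ : ι) (htr : ∀ i, ∃ g, σ g i₀ = i) : HasBase ρ := by
  classical
  have hσ' : ∀ g i x, ρ g (e i x) = e (σ g i) (ρ g x) := fun g i x =>
    congrArg (fun f : AddMonoid.End V => f x) (hσ g i)
  have hid : ∀ i x, e i (e i x) = e i x := fun i x =>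
    congrArg (fun f : AddMonoid.End V => f x) (hidem i)
  have hor : ∀ i j x, i ≠ j → e i (e j x) = 0 := fun i j x h =>
    congrArg (fun f : AddMonoid.End V => f x) (horth i j h)
  have hdec : ∀ x, ∑ i, e i x = x := fun x => by
    have := congrArg (fun f : AddMonoid.End V => f x) hsum
    simp only [AddMonoid.End.coe_one, id_eq] at this
    conv_rhs => rw [← this]
    exact (AddMonoidHom.finsetSum_apply e Finset.univ x).symm
  let W : AddSubgroup V := AddMonoidHom.range (e i₀)
  have hWfix : ∀ x ∈ W, e i₀ x = x := by rintro _ ⟨y, rfl⟩; exact hid i₀ y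
  have hWne : ∀ i, ∃ x, e i x ≠ 0 := fun i => by
    by_contra h
    push Not at h
    exact hne i (ext_end h)
  choose z hz using hWne
  haveI : Nontrivial W := ⟨⟨⟨_, z i₀, rfl⟩, 0, fun h => hz i₀ (congrArg Subtype.val h)⟩⟩
  obtain ⟨j, hj⟩ := Fintype.exists_ne_of_one_lt_card (by omega : 1 < Fintype.card ι) i₀
  have hWlt : Nat.card W < Nat.card V := by
    have hne : W ≠ ⊤ := by
      intro h
      have := hWfix (e j (z j)) (h ▸ AddSubgroup.mem_top _)
      rw [hor _ _ _ (Ne.symm hj)] at this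
      exact hz j this.symm
    exact lt_of_le_of_ne (AddSubgroup.card_le_card_addGroup W)
      fun h => hne (AddSubgroup.eq_top_of_card_eq W h)
  -- the top group
  haveI : Nonempty ι := ⟨i₀⟩
  obtain ⟨col, hcol⟩ := exists_colours hp2 hX hc σ
  -- the stabilizer of the first block
  let H : Subgroup X :=
    { carrier := {g | σ g i₀ = i₀}
      one_mem' := by simp
      mul_mem' := fun {g h} hg hh => by
        show σ (g * h) i₀ = i₀
        rw [map_mul, Equiv.Perm.mul_apply, show σ h i₀ = i₀ from hh]; exact hg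
      inv_mem' := fun {g} hg => by
        show σ g⁻¹ i₀ = i₀
        rw [map_inv, Equiv.Perm.inv_eq_iff_eq]
        exact (show σ g i₀ = i₀ from hg).symm }
  have hHW : Inv (ρ.comp H.subtype) W := by
    rintro h x ⟨y, rfl⟩
    have h1 := hσ' h i₀ y
    rw [show σ (h : X) i₀ = i₀ from h.2] at h1
    exact ⟨ρ h y, h1.symm⟩
  haveI := hX
  have hWexp : ∀ x : W, p • x = 0 := fun x => Subtype.ext (hV x)
  have hcH : ¬ p ∣ Nat.card H := fun h => hc (h.trans (Subgroup.card_subgroup_dvd_card H))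
  obtain ⟨pr, hpr⟩ := exists_pairs (res (ρ.comp H.subtype) W hHW) hWexp hcH
    (IH H inferInstance W hWlt p hp.out hWexp hcH _)
  choose t ht using htr
  let v : Fin 2 → V := fun k => ∑ i, ρ (t i) (pr (col i) k : W)
  have comp : ∀ (f : ι → W) i, e i (∑ k, ρ (t k) (f k : V)) = ρ (t i) (f i : V) := by
    intro f i
    rw [map_sum, Finset.sum_eq_single i]
    · rw [← hWfix _ (f i).2, hσ', ht, hid]
    · intro k _ hk
      rw [← hWfix _ (f k).2, hσ', ht, hor _ _ _ (Ne.symm hk)]
    · exact fun h => absurd (Finset.mem_univ i) h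
  refine ⟨v 0, v 1, fun g h0 h1' => ?_⟩
  have hgv : ∀ k, ρ g (v k) = v k := fun k => by fin_cases k <;> assumption
  have key : ∀ i, col i = col (σ g i) ∧
      ∀ x ∈ W, ρ g (ρ (t i) x) = ρ (t (σ g i)) x := by
    intro i
    have hh : σ ((t (σ g i))⁻¹ * g * t i) i₀ = i₀ := by
      rw [map_mul, map_mul, map_inv, Equiv.Perm.mul_apply, Equiv.Perm.mul_apply, ht,
        Equiv.Perm.inv_eq_iff_eq, ht]
    have h1 : ∀ (f : ι → W), ρ g (∑ k, ρ (t k) (f k : V)) = ∑ k, ρ (t k) (f k : V) →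
        res (ρ.comp H.subtype) W hHW ⟨_, hh⟩ (f i) = f (σ g i) := fun f hf => Subtype.ext (by
      show ρ ((t (σ g i))⁻¹ * g * t i) (f i : V) = f (σ g i)
      rw [map_mul_apply, map_mul_apply, ← comp f i, hσ', hf, comp, inv_apply])
    obtain ⟨hci, hone⟩ := hpr (col i) (col (σ g i)) ⟨_, hh⟩
      fun k => h1 (fun l => pr (col l) k) (hgv k)
    refine ⟨hci, fun x hx => ?_⟩
    have := congrArg (fun f : AddMonoid.End W => ((f ⟨x, hx⟩ : W) : V)) hone
    simp only [res_apply, MonoidHom.comp_apply, Subgroup.coe_subtype, one_apply'] at this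
    rw [map_mul_apply, map_mul_apply] at this
    conv_rhs => rw [← this]
    rw [apply_inv]
  have hσg : σ g = 1 := hcol g fun i => (key i).1
  refine ext_end fun x => ?_
  rw [one_apply', ← hdec x, map_sum]
  refine Finset.sum_congr rfl fun i _ => ?_
  obtain ⟨y, hy, hyi⟩ : ∃ y ∈ W, ρ (t i) y = e i x := by
    refine ⟨e i₀ (ρ (t i)⁻¹ x), ⟨_, rfl⟩, ?_⟩
    rw [hσ', ht, apply_inv]
  rw [← hyi, (key i).2 y hy, hσg, Equiv.Perm.one_apply]

end CfsgLib.CoprimeBase
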