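import Cfsg.Agent.Lib.CoprimeBase.Basic

/-!
# Computing in a space with two normalised pairs
-/

set_option autoImplicit false

universe u

namespace CfsgLib.CoprimeBase.Model

open CfsgLib.OddBase (ext_end)

/-- An operator: a scalar, an extra index and the exponents of the two kinds of generators. -/
abbrev Op := ℕ × ℕ × ℕ × ℕ

/-- A candidate for the second vector with the data used to find its stabiliser. -/
structure Cert where
  /-- The candidate. -/
  b : List ℕ
  /-- Its coordinates. -/
  co : List ℕ
  /-- Operators whose products move the first vector to a basis. -/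
  gs : List Op
  /-- That basis. -/
  basis : List (List ℕ)
  /-- The standard basis in these coordinates. -/
  T : List (List ℕ)
  /-- The images under the generators, in coordinates. -/
  hc : List (List ℕ)
  /-- The non-trivial stabilisers. -/
  stab : List (List (List ℕ))

/-- A configuration with its certificate. -/
structure Cfg where
  /-- The prime. -/
  p : ℕ
  /-- The dimension of a slot. -/
  e : ℕ
  /-- The square of the first shift. -/
  d0 : ℕ
  /-- The square of the second shift. -/
  d1 : ℕ
  /-- The first vector. -/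
  a : List ℕ
  /-- The images of the first vector. -/
  tr : List (List ℕ)
  /-- Vectors in further orbits. -/
  others : List (List ℕ)
  /-- Candidates for the second vector. -/
  certs : List Cert

namespace Cfg

variable (C : Cfg)

/-- The dimension. -/
def N : ℕ := 4 * C.e

/-- Reduced vectors. -/
def IsVec (x : List ℕ) : Prop := x.length = C.N ∧ ∀ v ∈ x, v < C.p

instance (x : List ℕ) : Decidable (C.IsVec x) := inferInstanceAs (Decidable (_ ∧ _))

/-- A sign change. -/
def xg (i : ℕ) (x : List ℕ) : List ℕ := (List.range C.N).map fun j =>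
  if (j / C.e).testBit i then (C.p - x.getD j 0) % C.p else x.getD j 0

/-- A shift. -/
def zg (i : ℕ) (x : List ℕ) : List ℕ := (List.range C.N).map fun j =>
  if (j / C.e).testBit i then x.getD (((j / C.e) ^^^ 2 ^ i) * C.e + j % C.e) 0
  else x.getD (((j / C.e) ^^^ 2 ^ i) * C.e + j % C.e) 0 * (if i = 0 then C.d0 else C.d1) % C.p

/-- The first extra operator. -/
def ug (x : List ℕ) : List ℕ := (List.range C.N).map fun j =>
  if j % 2 = 0 then (C.p - x.getD (j + 1) 0) % C.p else x.getD (j - 1) 0

/-- The second extra operator. -/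
def vg (x : List ℕ) : List ℕ := (List.range C.N).map fun j =>
  if j % 2 = 0 then (x.getD j 0 + x.getD (j + 1) 0) % C.p
  else (x.getD (j - 1) 0 + C.p - x.getD j 0) % C.p

/-- A scalar. -/
def scale (r : ℕ) (x : List ℕ) : List ℕ := x.map fun v => r * v % C.p

/-- The extra part. -/
def eApp (i : ℕ) (x : List ℕ) : List ℕ :=
  let y := if i.testBit 1 then C.vg x else x
  if i.testBit 0 then C.ug y else y

/-- The shift part. -/
def zApp (l : ℕ) (x : List ℕ) : List ℕ :=
  let y := if l.testBit 1 then C.zg 1 x else x
  if l.testBit 0 then C.zg 0 y else y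

/-- The diagonal part. -/
def xApp (k : ℕ) (x : List ℕ) : List ℕ :=
  let y := if k.testBit 1 then C.xg 1 x else x
  if k.testBit 0 then C.xg 0 y else y

/-- An operator applied to a vector. -/
def op (o : Op) (x : List ℕ) : List ℕ :=
  C.scale o.1 (C.xApp o.2.2.1 (C.zApp o.2.2.2 (C.eApp o.2.1 x)))

/-- All operators. -/
def ops : List Op :=
  (List.range' 1 (C.p - 1)).flatMap fun r => (List.range (C.e * C.e)).flatMap fun i =>
    (List.range 4).flatMap fun k => (List.range 4).map fun l => (r, i, k, l)

/-- The generators. -/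
def hs : List Op :=
  [(1, 0, 1, 0), (1, 0, 2, 0), (1, 0, 0, 1), (1, 0, 0, 2)] ++
    (if C.e = 2 then [(1, 1, 0, 0), (1, 2, 0, 0)] else [])

/-- A linear combination. -/
def lin (co : List ℕ) (imgs : List (List ℕ)) : List ℕ := (List.range C.N).map fun r =>
  (((List.range C.N).map fun j => co.getD j 0 * (imgs.getD j []).getD r 0).sum) % C.p

/-- A unit vector. -/
def unit (j : ℕ) : List ℕ := (List.range C.N).map fun i => if i = j then 1 else 0

/-- The identity matrix. -/
def idM : List (List ℕ) := (List.range C.N).map C.unit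

/-- The product of two matrices given by columns. -/
def mulM (A B : List (List ℕ)) : List (List ℕ) := B.map fun c => C.lin c A

/-- A power of a matrix. -/
def powM (A : List (List ℕ)) : ℕ → List (List ℕ)
  | 0 => C.idM
  | k + 1 => C.mulM A (powM A k)

/-- The matrix has an element of order `p` among its powers. -/
def hasP (A : List (List ℕ)) : Bool :=
  [1, 2, 4, 5, 8, 10, 16].any fun k =>
    !(C.powM A k == C.idM) && C.powM A (C.p * k) == C.idM

/-- The products moving the first vector. -/
def spanList : List Op → List (List ℕ) → List (List ℕ)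
  | [], L => L
  | g :: gs, L => spanList gs (L ++ L.map (C.op g))

/-- The test at a leaf. -/
def leaf (c : Cert) (imgs : List (List ℕ)) : Bool :=
  !(C.lin c.co imgs == c.b) || !(c.hc.all fun h => C.tr.contains (C.lin h imgs))
    || (let M := (List.range C.N).map fun j => C.lin (c.T.getD j []) imgs
        M == C.idM || c.stab.contains M || C.hasP M)

/-- The candidate is already known to move. -/
def moved (c : Cert) (imgs : List (List ℕ)) : Bool :=
  (c.co.drop imgs.length).all (· == 0) && !(C.lin c.co imgs == c.b)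

/-- Search through the possible images of the chosen operators. -/
def go (c : Cert) : List Op → List (Op × Op) → List (List ℕ) → Bool
  | [], _, imgs => C.leaf c imgs
  | g :: rest, done, imgs => C.moved c imgs || C.ops.all fun f =>
      !(C.op f (C.op f C.a) == C.op g (C.op g C.a)) ||
      !(done.all fun q => (C.op f (C.op q.2 C.a) == C.op q.2 (C.op f C.a)) ==
        (C.op g (C.op q.1 C.a) == C.op q.1 (C.op g C.a))) ||
      go c rest (done ++ [(g, f)]) (imgs ++ imgs.map (C.op f))

/-- No choice of stabilisers avoids an element of order `p`. -/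
def tuples : List (List (List (List ℕ))) → List (List (List ℕ)) → Bool
  | [], _ => false
  | L :: rest, ch => L.all fun g =>
      ch.any (fun x => C.hasP (C.mulM x g)) || tuples rest (g :: ch)

/-- One certificate is consistent. -/
def checkCert (c : Cert) : Bool :=
  decide (c.gs.length = C.e + 1) && (C.spanList c.gs [C.a] == c.basis)
  && decide ((C.hs.map fun h => C.op h C.a) = c.hc.map fun h => C.lin h c.basis)
  && decide (∀ j < C.N, C.lin (c.T.getD j []) c.basis = C.unit j)
  && (c.gs.all fun g => (C.ops.contains g) &&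
    (List.range C.p).any fun r => C.op g (C.op g C.a) == C.scale r C.a)
  && decide (C.IsVec c.b) && (C.lin c.co c.basis == c.b) && C.go c c.gs [] [C.a]

/-- Everything but the single certificates. -/
def checkBase : Bool :=
  decide (1 < C.p) && decide (C.IsVec C.a) && decide (C.e = 1 ∨ C.e = 2)
  && (C.ops.map (fun o => C.op o C.a) == C.tr) && (C.hs.all fun h => C.ops.contains h)
  && C.tuples (C.certs.map fun c => c.stab) []

/-- Everything checked. -/
def check : Bool := C.checkBase && C.certs.all C.checkCert

/-- No operator but the scalars fixes the line of the vector. -/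
def genB (x : List ℕ) : Bool :=
  C.ops.all fun o => (o.2.1 == 0 && o.2.2.1 == 0 && o.2.2.2 == 0) ||
    ((List.range C.p).all fun r => !(C.op o x == C.scale r x))

/-- No operator moves the first vector to the second. -/
def sepB (x y : List ℕ) : Bool := C.ops.all fun o => !(C.op o x == y)

/-- The vectors of the further orbits are as required. -/
def extra : Bool :=
  C.genB C.a && decide (C.others.length = C.p / 2) &&
  ((C.a :: C.others).all fun x => decide (C.IsVec x) && !(C.scale 0 x == x)) &&
  ((C.a :: C.others).all fun x => (C.a :: C.others).all fun y => x == y || C.sepB x y) &&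
  decide (C.a :: C.others).Nodup && (C.p == 3 || C.others.all C.genB)

theorem length_map_range (f : ℕ → ℕ) : ((List.range C.N).map f).length = C.N := by simp

theorem isVec_map_range (f : ℕ → ℕ) (hf : ∀ j < C.N, f j < C.p) :
    C.IsVec ((List.range C.N).map f) := by
  refine ⟨C.length_map_range f, fun v hv => ?_⟩
  obtain ⟨j, hj, rfl⟩ := List.mem_map.1 hv
  exact hf j (List.mem_range.1 hj)

theorem getD_lt {x : List ℕ} (hp : 0 < C.p) (hx : C.IsVec x) (j : ℕ) : x.getD j 0 < C.p := by
  rcases Nat.lt_or_ge j x.length with h | h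
  · simpa [List.getD_eq_getElem?_getD, h] using hx.2 _ (List.getElem_mem h)
  · simpa [List.getD_eq_getElem?_getD, h] using hp

theorem isVec_lin (hp : 0 < C.p) (co : List ℕ) (imgs : List (List ℕ)) :
    C.IsVec (C.lin co imgs) := C.isVec_map_range _ fun _ _ => Nat.mod_lt _ hp

theorem isVec_unit (hp : 1 < C.p) (j : ℕ) : C.IsVec (C.unit j) :=
  C.isVec_map_range _ fun i _ => by split <;> omega

theorem isVec_op {o : Op} {x : List ℕ} (hp : 0 < C.p) (hx : C.IsVec x) : C.IsVec (C.op o x) := by
  have hx' : ∀ i y, C.IsVec y → C.IsVec (C.xg i y) := fun i y hy => C.isVec_map_range _ fun j _ => by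
    split
    exacts [Nat.mod_lt _ hp, C.getD_lt hp hy _]
  have hz : ∀ i y, C.IsVec y → C.IsVec (C.zg i y) := fun i y hy => C.isVec_map_range _ fun j _ => by
    split
    exacts [C.getD_lt hp hy _, Nat.mod_lt _ hp]
  have hu : ∀ y, C.IsVec y → C.IsVec (C.ug y) := fun y hy => C.isVec_map_range _ fun j _ => by
    split
    exacts [Nat.mod_lt _ hp, C.getD_lt hp hy _]
  have hv : ∀ y, C.IsVec y → C.IsVec (C.vg y) := fun y hy => C.isVec_map_range _ fun j _ => by
    split
    all_goals exact Nat.mod_lt _ hp
  have hE : C.IsVec (C.eApp o.2.1 x) := by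
    dsimp only [eApp]; split_ifs
    exacts [hu _ (hv _ hx), hu _ hx, hv _ hx, hx]
  have hZ : C.IsVec (C.zApp o.2.2.2 (C.eApp o.2.1 x)) := by
    dsimp only [zApp]; split_ifs
    exacts [hz _ _ (hz _ _ hE), hz _ _ hE, hz _ _ hE, hE]
  have hX : C.IsVec (C.xApp o.2.2.1 (C.zApp o.2.2.2 (C.eApp o.2.1 x))) := by
    dsimp only [xApp]; split_ifs
    exacts [hx' _ _ (hx' _ _ hZ), hx' _ _ hZ, hx' _ _ hZ, hZ]
  refine ⟨by simp [op, scale, hX.1], fun v hv => ?_⟩
  obtain ⟨w, -, rfl⟩ := List.mem_map.1 hv
  exact Nat.mod_lt _ hp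

variable {W : Type u} [AddCommGroup W] (bas : ℕ → W)

/-- The vector with given coordinates. -/
def val (x : List ℕ) : W := ∑ i ∈ Finset.range C.N, x.getD i 0 • bas i

theorem val_map (f : ℕ → ℕ) :
    C.val bas ((List.range C.N).map f) = ∑ i ∈ Finset.range C.N, f i • bas i :=
  Finset.sum_congr rfl fun i hi => by
    simp [List.getD_eq_getElem?_getD, Finset.mem_range.1 hi]

theorem val_unit {j : ℕ} (hj : j < C.N) : C.val bas (C.unit j) = bas j := by
  rw [unit, val_map]
  simp [hj]

theorem sum_range_list (f : ℕ → ℕ) (n : ℕ) :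
    ((List.range n).map f).sum = ∑ j ∈ Finset.range n, f j := by
  induction n with
  | zero => simp
  | succ n ih => rw [List.range_succ, List.map_append, List.sum_append, Finset.sum_range_succ, ih]; simp

theorem val_lin (hW : ∀ w : W, C.p • w = 0) (co : List ℕ) (imgs : List (List ℕ)) :
    C.val bas (C.lin co imgs) =
      ∑ j ∈ Finset.range C.N, co.getD j 0 • C.val bas (imgs.getD j []) := by
  have hmod : ∀ (n : ℕ) (w : W), (n % C.p) • w = n • w := fun n w => by
    conv_rhs => rw [← Nat.div_add_mod n C.p, add_smul, mul_smul, hW, zero_add]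
  rw [lin, val_map]
  simp only [hmod, sum_range_list, Finset.sum_smul, mul_smul, val, Finset.smul_sum]
  rw [Finset.sum_comm]

/-- A model of the operators of the space. -/
structure Realises (real : Op → AddMonoid.End W) : Prop where
  exp : ∀ w : W, C.p • w = 0
  inj : ∀ x y, C.IsVec x → C.IsVec y → C.val bas x = C.val bas y → x = y
  surj : ∀ w : W, ∃ x, C.IsVec x ∧ C.val bas x = w
  op : ∀ o ∈ C.ops, ∀ x, C.IsVec x → real o (C.val bas x) = C.val bas (C.op o x)

variable {bas} {real : Op → AddMonoid.End W}

theorem spanList_getD : ∀ (gs : List Op) (L : List (List ℕ)) {j : ℕ}, j < L.length →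
    (C.spanList gs L).getD j [] = L.getD j []
  | [], L, j, _ => rfl
  | g :: gs, L, j, hj => by
      rw [spanList, spanList_getD gs _ (by rw [List.length_append]; omega)]
      simp [List.getD_eq_getElem?_getD, List.getElem?_append_left hj]

theorem spanList_length : ∀ (gs : List Op) (L : List (List ℕ)),
    (C.spanList gs L).length = 2 ^ gs.length * L.length
  | [], L => by simp [spanList]
  | g :: gs, L => by
      rw [spanList, spanList_length gs, List.length_append, List.length_map, List.length_cons,
        pow_succ]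
      ring

section Sound

variable (hR : C.Realises bas real) (hc : C.check = true)

include hR hc

theorem facts : 1 < C.p ∧ C.IsVec C.a ∧ (C.e = 1 ∨ C.e = 2) ∧
    C.ops.map (fun o => C.op o C.a) = C.tr ∧ (∀ h ∈ C.hs, h ∈ C.ops) ∧
    C.tuples (C.certs.map fun c => c.stab) [] = true ∧
    ∀ c ∈ C.certs, c.gs.length = C.e + 1 ∧ C.spanList c.gs [C.a] = c.basis ∧
      (C.hs.map fun h => C.op h C.a) = (c.hc.map fun h => C.lin h c.basis) ∧
      (∀ j < C.N, C.lin (c.T.getD j []) c.basis = C.unit j) ∧
      (∀ g ∈ c.gs, g ∈ C.ops ∧ ∃ r < C.p, C.op g (C.op g C.a) = C.scale r C.a) ∧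
      C.IsVec c.b ∧ C.lin c.co c.basis = c.b ∧ C.go c c.gs [] [C.a] = true := by
  simp only [check, checkBase, checkCert, Bool.and_eq_true, decide_eq_true_eq, List.all_eq_true, beq_iff_eq,
    List.any_eq_true, List.contains_iff_mem, List.mem_range] at hc
  obtain ⟨⟨⟨⟨⟨⟨h0, h1⟩, h2⟩, h3⟩, h4⟩, h6⟩, h5⟩ := hc
  refine ⟨h0, h1, h2, h3, h4, h6, fun c hm => ?_⟩
  obtain ⟨⟨⟨⟨⟨⟨⟨a0, a1⟩, a2⟩, a3⟩, a4⟩, a5⟩, a6⟩, a7⟩ := h5 c hm
  exact ⟨a0, a1, a2, a3, a4, a5, a6, a7⟩

theorem val_scale {r : ℕ} {x : List ℕ} (hx : C.IsVec x) :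
    C.val bas (C.scale r x) = r • C.val bas x := by
  rw [val, val, Finset.smul_sum]
  refine Finset.sum_congr rfl fun i hi => ?_
  rw [Finset.mem_range, ← hx.1] at hi
  simp only [scale, List.getD_eq_getElem?_getD, List.getElem?_map, List.getElem?_eq_getElem hi,
    Option.map_some, Option.getD_some]
  conv_lhs => rw [← zero_add ((r * x[i] % C.p) • bas i), ← hR.exp ((r * x[i] / C.p) • bas i),
    ← mul_smul, ← add_smul, Nat.div_add_mod, mul_smul]

/-- The images of the chosen vectors, followed through the search. -/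
theorem leaf_of_map {c : Cert} (hm : c ∈ C.certs) {G : AddMonoid.End W} (hG : Function.Injective G)
    (hGa : G (C.val bas C.a) = C.val bas C.a)
    (hGb : G (C.val bas c.b) = C.val bas c.b)
    (hGop : ∀ o ∈ C.ops, ∃ o' ∈ C.ops, ∀ w, G (real o w) = real o' (G w)) :
    ∃ imgs : List (List ℕ), C.leaf c imgs = true ∧
      (∀ co, G (C.val bas (C.lin co c.basis)) = C.val bas (C.lin co imgs)) ∧
      ∀ o ∈ C.ops, ∃ o' ∈ C.ops, G (C.val bas (C.op o C.a)) = C.val bas (C.op o' C.a) := by
  obtain ⟨hp, ha, he, -, -, -, hcert⟩ := C.facts hR hc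
  obtain ⟨hlen, hspan, -, -, hgs, hb, hco, hgo⟩ := hcert c hm
  have hp0 : 0 < C.p := by omega
  have hmove : ∀ g ∈ C.ops, ∀ f ∈ C.ops, (∀ w, G (real g w) = real f (G w)) → ∀ x y, C.IsVec x →
      C.IsVec y → G (C.val bas x) = C.val bas y →
      G (C.val bas (C.op g x)) = C.val bas (C.op f y) := by
    intro g hg f hf hfe x y hx hy e
    rw [← hR.op g hg x hx, hfe, e, hR.op f hf y hy]
  have key : ∀ (rest : List Op) (done : List (Op × Op)) (Bs imgs : List (List ℕ)),
      (∀ g ∈ rest, g ∈ c.gs) →
      (∀ q ∈ done, q.1 ∈ c.gs ∧ q.2 ∈ C.ops ∧ ∀ w, G (real q.1 w) = real q.2 (G w)) →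
      Bs.length = imgs.length →
      (∀ j < Bs.length, C.IsVec (Bs.getD j []) ∧ C.IsVec (imgs.getD j []) ∧
        G (C.val bas (Bs.getD j [])) = C.val bas (imgs.getD j [])) →
      C.spanList rest Bs = c.basis → C.go c rest done imgs = true → ∃ out, C.leaf c out = true ∧
        (C.spanList rest Bs).length = out.length ∧
        ∀ j < out.length, G (C.val bas ((C.spanList rest Bs).getD j [])) =
          C.val bas (out.getD j []) := by
    intro rest
    induction rest with
    | nil =>
      intro done Bs imgs _ _ hl hj _ hgo'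
      exact ⟨imgs, hgo', hl, fun j hjlt => (hj j (hl.symm ▸ hjlt)).2.2⟩
    | cons g rest ih =>
      intro done Bs imgs hrest hdone hl hj hsp hgo'
      have hgC := hrest g List.mem_cons_self
      obtain ⟨hgo1, r, hr, hsq⟩ := hgs g hgC
      obtain ⟨f, hf, hfe⟩ := hGop g hgo1
      have hmv : C.moved c imgs = false := by
        rw [← Bool.not_eq_true]
        intro hmv
        simp only [moved, Bool.and_eq_true, List.all_eq_true, beq_iff_eq, Bool.not_eq_true',
          beq_eq_false_iff_ne, ne_eq] at hmv
        refine hmv.2 (hR.inj _ _ (C.isVec_lin hp0 _ _) hb ?_)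
        have hb' : G (C.val bas (C.lin c.co c.basis)) = C.val bas (C.lin c.co c.basis) := by
          rw [hco]; exact hGb
        conv_rhs => rw [← hco, ← hb']
        rw [C.val_lin bas hR.exp, C.val_lin bas hR.exp, map_sum]
        refine Finset.sum_congr rfl fun j _ => ?_
        rw [map_nsmul]
        rcases Nat.lt_or_ge j imgs.length with hjl | hjl
        · have hjB : j < Bs.length := hl.symm ▸ hjl
          rw [← (hj j hjB).2.2, ← hsp, spanList_getD C _ _ hjB]
        · have hz : c.co.getD j 0 = 0 := by
            rcases Nat.lt_or_ge j c.co.length with hjc | hjc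
            · have : c.co[j] ∈ c.co.drop imgs.length :=
                List.mem_drop_iff_getElem.2 ⟨j - imgs.length, by omega, by simp [Nat.add_sub_cancel' hjl]⟩
              simpa [List.getD_eq_getElem?_getD, hjc] using hmv.1 _ this
            · simp [List.getD_eq_getElem?_getD, hjc]
          rw [hz, zero_smul, zero_smul]
      rw [go, hmv, Bool.false_or] at hgo'
      simp only [List.all_eq_true, Bool.or_eq_true, Bool.not_eq_true', beq_eq_false_iff_ne,
        ne_eq] at hgo'
      have e1 : G (C.val bas (C.op g C.a)) = C.val bas (C.op f C.a) :=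
        hmove g hgo1 f hf hfe _ _ ha ha hGa
      have hsq' : C.op f (C.op f C.a) = C.op g (C.op g C.a) := by
        refine hR.inj _ _ (C.isVec_op hp0 (C.isVec_op hp0 ha)) (C.isVec_op hp0 (C.isVec_op hp0 ha)) ?_
        rw [← hmove g hgo1 f hf hfe _ _ (C.isVec_op hp0 ha) (C.isVec_op hp0 ha) e1, hsq,
          C.val_scale hR hc ha, map_nsmul, hGa]
      have hcomm : (done.all fun q => (C.op f (C.op q.2 C.a) == C.op q.2 (C.op f C.a)) ==
          (C.op g (C.op q.1 C.a) == C.op q.1 (C.op g C.a))) = true := by
        rw [List.all_eq_true]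
        intro q hq
        obtain ⟨hq1, hq2, hqe⟩ := hdone q hq
        have hq1' := (hgs _ hq1).1
        have e2 : G (C.val bas (C.op q.1 C.a)) = C.val bas (C.op q.2 C.a) :=
          hmove _ hq1' _ hq2 hqe _ _ ha ha hGa
        have m1 := hmove g hgo1 f hf hfe _ _ (C.isVec_op hp0 ha) (C.isVec_op hp0 ha) e2
        have m2 := hmove _ hq1' _ hq2 hqe _ _ (C.isVec_op hp0 ha) (C.isVec_op hp0 ha) e1
        have hiff : C.op f (C.op q.2 C.a) = C.op q.2 (C.op f C.a) ↔
            C.op g (C.op q.1 C.a) = C.op q.1 (C.op g C.a) := by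
          constructor
          · intro h
            refine hR.inj _ _ (C.isVec_op hp0 (C.isVec_op hp0 ha))
              (C.isVec_op hp0 (C.isVec_op hp0 ha)) (hG ?_)
            rw [m1, m2, h]
          · intro h
            refine hR.inj _ _ (C.isVec_op hp0 (C.isVec_op hp0 ha))
              (C.isVec_op hp0 (C.isVec_op hp0 ha)) ?_
            rw [← m1, ← m2, h]
        rw [beq_iff_eq, Bool.eq_iff_iff, beq_iff_eq, beq_iff_eq]
        exact hiff
      have hgo'' := ((hgo' f hf).resolve_left fun h => h.elim (fun h => h hsq')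
        fun h => by rw [hcomm] at h; exact Bool.noConfusion h)
      refine ih (done ++ [(g, f)]) (Bs ++ Bs.map (C.op g)) (imgs ++ imgs.map (C.op f))
        (fun x hx => hrest x (List.mem_cons_of_mem _ hx)) ?_ (by simp [hl]) ?_ hsp hgo''
      · intro q hq
        rcases List.mem_append.1 hq with hq | hq
        · exact hdone q hq
        · obtain rfl := List.mem_singleton.1 hq
          exact ⟨hgC, hf, hfe⟩
      · intro j hjlt
        rcases Nat.lt_or_ge j Bs.length with h | h
        · obtain ⟨a1, a2, a3⟩ := hj j h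
          simp only [List.getD_eq_getElem?_getD, List.getElem?_append_left h,
            List.getElem?_append_left (hl ▸ h)]
          simp only [List.getD_eq_getElem?_getD] at a1 a2 a3
          exact ⟨a1, a2, a3⟩
        · have hlt : j - Bs.length < Bs.length := by
            rw [List.length_append, List.length_map] at hjlt; omega
          obtain ⟨a1, a2, a3⟩ := hj _ hlt
          have hlt' : j - Bs.length < imgs.length := hl ▸ hlt
          simp only [List.getD_eq_getElem?_getD, List.getElem?_append_right h,
            List.getElem?_append_right (hl ▸ h), ← hl, List.getElem?_map,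
            List.getElem?_eq_getElem hlt, List.getElem?_eq_getElem hlt', Option.map_some,
            Option.getD_some] at a1 a2 a3 ⊢
          exact ⟨C.isVec_op hp0 a1, C.isVec_op hp0 a2, hmove g hgo1 f hf hfe _ _ a1 a2 a3⟩
  obtain ⟨out, hleaf, hlen', hout⟩ := key c.gs [] [C.a] [C.a] (fun g hg => hg)
    (fun q hq => by simp at hq) rfl (fun j hj => by
      obtain rfl : j = 0 := by simpa using hj
      simpa using ⟨ha, hGa⟩) hspan hgo
  have hN : out.length = C.N := by
    rw [← hlen', C.spanList_length, hlen, List.length_singleton, mul_one, N]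
    rcases he with e | e <;> rw [e] <;> norm_num
  refine ⟨out, hleaf, fun co => ?_, fun o ho => ?_⟩
  · rw [C.val_lin bas hR.exp, C.val_lin bas hR.exp, map_sum]
    refine Finset.sum_congr rfl fun j hj => ?_
    rw [map_nsmul, ← hspan, hout j (hN ▸ Finset.mem_range.1 hj)]
  · obtain ⟨o', ho', he'⟩ := hGop o ho
    exact ⟨o', ho', hmove o ho o' ho' he' _ _ ha ha hGa⟩

theorem mulM_val {M : List (List ℕ)} {G : AddMonoid.End W} (hM : ∀ j < C.N,
    G (bas j) = C.val bas (M.getD j [])) {x : List ℕ} :
    G (C.val bas x) = C.val bas (C.lin x M) := by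
  rw [C.val_lin bas hR.exp, val, map_sum]
  exact Finset.sum_congr rfl fun j hj => by rw [map_nsmul, hM j (Finset.mem_range.1 hj)]

/-- One of the candidate second vectors is good for a group of order prime to `p`. -/
theorem exists_second {Y : Type u} [Group Y] [Finite Y] (hp : C.p.Prime)
    (hY : ¬ C.p ∣ Nat.card Y) (φ : Y →* AddMonoid.End W)
    (hop : ∀ g, ∀ o ∈ C.ops, ∃ o' ∈ C.ops, ∀ w, φ g (real o w) = real o' (φ g w))
    (hfix : ∀ g, φ g (C.val bas C.a) = C.val bas C.a) :
    ∃ b : W, ∀ g, φ g b = b → φ g = 1 := by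
  classical
  obtain ⟨hp1, ha, he, htr, hhs, htup, hcert⟩ := C.facts hR hc
  have hp0 : 0 < C.p := by omega
  have hginj : ∀ g, Function.Injective (φ g) := CfsgLib.OddBase.apply_injective φ
  have hmat : ∀ g, ∃ M : List (List ℕ), M.length = C.N ∧ (∀ j < C.N, C.IsVec (M.getD j [])) ∧
      ∀ j < C.N, φ g (bas j) = C.val bas (M.getD j []) := by
    intro g
    choose x hx hx' using fun j => hR.surj (φ g (bas j))
    refine ⟨(List.range C.N).map x, by simp, fun j hj => ?_, fun j hj => ?_⟩ <;>
      simp [List.getD_eq_getElem?_getD, hj, hx, hx']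
  choose M hMlen hMvec hM using hmat
  have hext : ∀ (A B : List (List ℕ)), A.length = C.N → B.length = C.N →
      (∀ j < C.N, C.IsVec (A.getD j [])) → (∀ j < C.N, C.IsVec (B.getD j [])) →
      (∀ j < C.N, C.val bas (A.getD j []) = C.val bas (B.getD j [])) → A = B := by
    intro A B hA hB hA' hB' h
    refine List.ext_getElem (hA.trans hB.symm) fun j h1 h2 => ?_
    have := hR.inj _ _ (hA' j (hA ▸ h1)) (hB' j (hA ▸ h1)) (h j (hA ▸ h1))
    simpa [List.getD_eq_getElem?_getD, h1, h2] using this
  have hidM : ∀ g, φ g = 1 ↔ M g = C.idM := by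
    intro g
    refine ⟨fun e => hext _ _ (hMlen g) (by simp [idM]) (hMvec g) (fun j hj => ?_) (fun j hj => ?_),
      fun e => ext_end fun w => ?_⟩
    · simpa [idM, List.getD_eq_getElem?_getD, hj] using C.isVec_unit hp1 j
    · rw [← hM g j hj, e, show C.idM.getD j [] = C.unit j by
        simp [idM, List.getD_eq_getElem?_getD, hj], C.val_unit bas hj]
      rfl
    · obtain ⟨x, hx, rfl⟩ := hR.surj w
      rw [C.mulM_val hR hc (hM g), e, C.val_lin bas hR.exp, CfsgLib.OddBase.one_apply', val]
      refine Finset.sum_congr rfl fun j hj => ?_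
      rw [show C.idM.getD j [] = C.unit j by
        simp [idM, List.getD_eq_getElem?_getD, Finset.mem_range.1 hj],
        C.val_unit bas (Finset.mem_range.1 hj)]
  have hmul : ∀ g h, M (g * h) = C.mulM (M g) (M h) := by
    intro g h
    refine hext _ _ (hMlen _) (by simp [mulM, hMlen]) (hMvec _) (fun j hj => ?_) fun j hj => ?_
    · have hj' : j < (M h).length := (hMlen h).symm ▸ hj
      simpa [mulM, List.getD_eq_getElem?_getD, hj'] using C.isVec_lin hp0 _ _
    · have hj' : j < (M h).length := (hMlen h).symm ▸ hj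
      rw [← hM _ j hj, CfsgLib.OddBase.map_mul_apply, hM h j hj, C.mulM_val hR hc (hM g)]
      simp [mulM, List.getD_eq_getElem?_getD, hj']
  have hpow : ∀ g k, M (g ^ k) = C.powM (M g) k := by
    intro g k
    induction k with
    | zero => rw [pow_zero]; exact (hidM 1).1 (map_one φ)
    | succ k ih => rw [pow_succ', hmul, ih]; rfl
  have hnoP : ∀ g, C.hasP (M g) = false := by
    intro g
    rw [← Bool.not_eq_true]
    intro hb
    simp only [hasP, List.any_eq_true, Bool.and_eq_true, Bool.not_eq_true', beq_eq_false_iff_ne,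
      beq_iff_eq, ← hpow, ne_eq, ← hidM] at hb
    obtain ⟨k, -, h1, h2⟩ := hb
    refine h1 (eq_one_of_pow_prime φ hp hY ?_)
    rw [← map_pow, ← pow_mul, mul_comm]
    exact h2
  by_contra hcon
  push Not at hcon
  -- one offending element for each certificate
  have hoff : ∀ c ∈ C.certs, ∃ g, M g ∈ c.stab := by
    intro c hcc
    obtain ⟨g, hgb, hg1⟩ := hcon (C.val bas c.b)
    refine ⟨g, ?_⟩
    obtain ⟨-, -, hhc, hT, -, hb, hco, -⟩ := hcert c hcc
    obtain ⟨imgs, hleaf, hlin, hopa⟩ := C.leaf_of_map hR hc hcc (hginj g) (hfix g) hgb (hop g)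
    simp only [leaf, List.all_eq_true, Bool.or_eq_true, Bool.not_eq_true', beq_eq_false_iff_ne,
      ne_eq, beq_iff_eq, List.contains_iff_mem] at hleaf
    have h1 : C.lin c.co imgs = c.b :=
      hR.inj _ _ (C.isVec_lin hp0 _ _) hb (by
        rw [← hlin, hco, hgb])
    have h2 : ((c.hc.all fun h => C.tr.contains (C.lin h imgs)) = true) := by
      rw [List.all_eq_true]
      intro h hh
      rw [List.contains_iff_mem, ← htr]
      obtain ⟨o, ho, e⟩ : ∃ o ∈ C.hs, C.op o C.a = C.lin h c.basis := by
        have : C.lin h c.basis ∈ C.hs.map fun o => C.op o C.a :=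
          hhc.symm ▸ List.mem_map.2 ⟨h, hh, rfl⟩
        exact List.mem_map.1 this
      obtain ⟨o', ho', he'⟩ := hopa o (hhs o ho)
      refine List.mem_map.2 ⟨o', ho', hR.inj _ _ (C.isVec_op hp0 ha) (C.isVec_lin hp0 _ _) ?_⟩
      rw [← hlin, ← e, he']
    have hMe : (List.range C.N).map (fun j => C.lin (c.T.getD j []) imgs) = M g := by
      refine hext _ _ (by simp) (hMlen g) (fun j hj => ?_) (hMvec g) fun j hj => ?_
      · simpa [List.getD_eq_getElem?_getD, hj] using C.isVec_lin hp0 _ _
      · rw [← hM g j hj, ← C.val_unit bas hj, ← hT j hj, hlin]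
        simp [List.getD_eq_getElem?_getD, hj]
    have := hleaf
    rw [hMe] at this
    simp only [h1, not_true_eq_false, h2, Bool.true_eq_false, hnoP, Bool.false_eq_true, or_false,
      false_or] at this
    exact this.resolve_left fun e => hg1 ((hidM g).2 e)
  have key : ∀ (Ls : List (List (List (List ℕ)))) (ch : List Y), (∀ L ∈ Ls, ∃ g, M g ∈ L) →
      C.tuples Ls (ch.map M) = false := by
    intro Ls
    induction Ls with
    | nil => exact fun ch _ => rfl
    | cons L rest ih =>
      intro ch hLs
      obtain ⟨g, hg⟩ := hLs L List.mem_cons_self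
      rw [← Bool.not_eq_true]
      intro hb
      simp only [tuples, List.all_eq_true, Bool.or_eq_true, List.any_eq_true, List.mem_map] at hb
      rcases hb _ hg with ⟨_, ⟨k, -, rfl⟩, hk⟩ | hk
      · rw [← hmul, hnoP] at hk
        exact Bool.false_ne_true hk
      · rw [← List.map_cons, ih (g :: ch) fun L' hL' => hLs L' (List.mem_cons_of_mem _ hL')] at hk
        exact Bool.false_ne_true hk
  refine Bool.false_ne_true (((key _ []) ?_).symm.trans htup)
  intro L hL
  obtain ⟨c, hcc, rfl⟩ := List.mem_map.1 hL
  exact hoff c hcc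

end Sound

end Cfg

end CfsgLib.CoprimeBase.Model
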