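import Cfsg.Agent.Lib.CoprimeBase.Model

/-!
# The configurations with their certificates
-/

set_option autoImplicit false
set_option maxHeartbeats 4000000

namespace CfsgLib.CoprimeBase.Model

/-- A certificate. -/
def cfg3111c0 : Cert where
  b := [2, 1, 2, 0]
  co := [1, 0, 1, 1]
  gs := [(1, 0, 0, 1), (1, 0, 1, 0)]
  basis := [[2, 1, 0, 2], [1, 2, 2, 0], [2, 2, 0, 1], [1, 1, 2, 0]]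
  T := [[1, 0, 1, 0], [0, 1, 0, 2], [1, 1, 1, 1], [1, 1, 2, 2]]
  hc := [[0, 0, 1, 0], [0, 2, 1, 1], [0, 1, 0, 0], [0, 2, 1, 2]]
  stab := [[[0, 2, 0, 0], [2, 0, 0, 0], [0, 0, 1, 0], [0, 0, 0, 1]],
    [[1, 1, 1, 1], [1, 1, 2, 2], [1, 2, 2, 1], [1, 2, 1, 2]],
    [[2, 2, 1, 1], [2, 2, 2, 2], [1, 2, 2, 1], [1, 2, 1, 2]]]

/-- A certificate. -/
def cfg3111c1 : Cert where
  b := [0, 2, 0, 1]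
  co := [1, 0, 2, 0]
  gs := [(1, 0, 0, 1), (1, 0, 1, 0)]
  basis := [[2, 1, 0, 2], [1, 2, 2, 0], [2, 2, 0, 1], [1, 1, 2, 0]]
  T := [[1, 0, 1, 0], [0, 1, 0, 2], [1, 1, 1, 1], [1, 1, 2, 2]]
  hc := [[0, 0, 1, 0], [0, 2, 1, 1], [0, 1, 0, 0], [0, 2, 1, 2]]
  stab := [[[1, 0, 0, 0], [0, 1, 0, 0], [0, 0, 2, 0], [0, 0, 0, 1]],
    [[1, 0, 0, 0], [0, 0, 0, 2], [0, 0, 1, 0], [0, 2, 0, 0]],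
    [[1, 0, 0, 0], [0, 0, 0, 2], [0, 0, 2, 0], [0, 2, 0, 0]]]

/-- A certificate. -/
def cfg3111c2 : Cert where
  b := [0, 2, 1, 0]
  co := [1, 0, 1, 2]
  gs := [(1, 0, 0, 1), (1, 0, 1, 0)]
  basis := [[2, 1, 0, 2], [1, 2, 2, 0], [2, 2, 0, 1], [1, 1, 2, 0]]
  T := [[1, 0, 1, 0], [0, 1, 0, 2], [1, 1, 1, 1], [1, 1, 2, 2]]
  hc := [[0, 0, 1, 0], [0, 2, 1, 1], [0, 1, 0, 0], [0, 2, 1, 2]]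
  stab := [[[2, 2, 2, 1], [2, 2, 1, 2], [2, 1, 2, 2], [1, 2, 2, 2]],
    [[0, 0, 0, 1], [0, 1, 0, 0], [0, 0, 1, 0], [1, 0, 0, 0]],
    [[1, 2, 2, 2], [2, 2, 1, 2], [2, 1, 2, 2], [2, 2, 2, 1]]]

/-- A configuration. -/
def cfg3111 : Cfg where
  p := 3
  e := 1
  d0 := 1
  d1 := 1
  a := [2, 1, 0, 2]
  tr := [[2, 1, 0, 2],
    [1, 2, 2, 0],
    [0, 2, 2, 1],
    [2, 0, 1, 2],
    [2, 2, 0, 1],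
    [1, 1, 2, 0],
    [0, 1, 2, 2],
    [2, 0, 1, 1],
    [2, 1, 0, 1],
    [1, 2, 1, 0],
    [0, 2, 1, 2],
    [2, 0, 2, 1],
    [2, 2, 0, 2],
    [1, 1, 1, 0],
    [0, 1, 1, 1],
    [2, 0, 2, 2],
    [1, 2, 0, 1],
    [2, 1, 1, 0],
    [0, 1, 1, 2],
    [1, 0, 2, 1],
    [1, 1, 0, 2],
    [2, 2, 1, 0],
    [0, 2, 1, 1],
    [1, 0, 2, 2],
    [1, 2, 0, 2],
    [2, 1, 2, 0],
    [0, 1, 2, 1],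
    [1, 0, 1, 2],
    [1, 1, 0, 1],
    [2, 2, 2, 0],
    [0, 2, 2, 2],
    [1, 0, 1, 1]]
  others := [[0, 2, 0, 2]]
  certs := [cfg3111c0, cfg3111c1, cfg3111c2]

theorem cfg3111_check : cfg3111.check = true := by decide +kernel

theorem cfg3111_extra : cfg3111.extra = true := by decide +kernel

/-- A certificate. -/
def cfg5111c0 : Cert where
  b := [2, 4, 3, 3]
  co := [2, 1, 4, 0]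
  gs := [(1, 0, 0, 1), (1, 0, 1, 0)]
  basis := [[1, 1, 3, 0], [1, 1, 0, 3], [1, 4, 3, 0], [1, 4, 0, 2]]
  T := [[0, 3, 0, 3], [3, 0, 2, 0], [1, 4, 1, 4], [4, 1, 1, 4]]
  hc := [[0, 0, 1, 0], [0, 1, 4, 1], [0, 1, 0, 0], [0, 4, 2, 2]]
  stab := []

/-- A configuration. -/
def cfg5111 : Cfg where
  p := 5
  e := 1
  d0 := 1
  d1 := 1
  a := [1, 1, 3, 0]
  tr := [[1, 1, 3, 0],
    [1, 1, 0, 3],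
    [3, 0, 1, 1],
    [0, 3, 1, 1],
    [1, 4, 3, 0],
    [1, 4, 0, 2],
    [3, 0, 1, 4],
    [0, 2, 1, 4],
    [1, 1, 2, 0],
    [1, 1, 0, 2],
    [3, 0, 4, 4],
    [0, 3, 4, 4],
    [1, 4, 2, 0],
    [1, 4, 0, 3],
    [3, 0, 4, 1],
    [0, 2, 4, 1],
    [2, 2, 1, 0],
    [2, 2, 0, 1],
    [1, 0, 2, 2],
    [0, 1, 2, 2],
    [2, 3, 1, 0],
    [2, 3, 0, 4],
    [1, 0, 2, 3],
    [0, 4, 2, 3],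
    [2, 2, 4, 0],
    [2, 2, 0, 4],
    [1, 0, 3, 3],
    [0, 1, 3, 3],
    [2, 3, 4, 0],
    [2, 3, 0, 1],
    [1, 0, 3, 2],
    [0, 4, 3, 2],
    [3, 3, 4, 0],
    [3, 3, 0, 4],
    [4, 0, 3, 3],
    [0, 4, 3, 3],
    [3, 2, 4, 0],
    [3, 2, 0, 1],
    [4, 0, 3, 2],
    [0, 1, 3, 2],
    [3, 3, 1, 0],
    [3, 3, 0, 1],
    [4, 0, 2, 2],
    [0, 4, 2, 2],
    [3, 2, 1, 0],
    [3, 2, 0, 4],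
    [4, 0, 2, 3],
    [0, 1, 2, 3],
    [4, 4, 2, 0],
    [4, 4, 0, 2],
    [2, 0, 4, 4],
    [0, 2, 4, 4],
    [4, 1, 2, 0],
    [4, 1, 0, 3],
    [2, 0, 4, 1],
    [0, 3, 4, 1],
    [4, 4, 3, 0],
    [4, 4, 0, 3],
    [2, 0, 1, 1],
    [0, 2, 1, 1],
    [4, 1, 3, 0],
    [4, 1, 0, 2],
    [2, 0, 1, 4],
    [0, 3, 1, 4]]
  others := [[0, 1, 3, 1], [1, 2, 1, 4]]
  certs := [cfg5111c0]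

theorem cfg5111_check : cfg5111.check = true := by decide +kernel

theorem cfg5111_extra : cfg5111.extra = true := by decide +kernel

/-- A certificate. -/
def cfg5112c0 : Cert where
  b := [4, 2, 0, 4]
  co := [0, 2, 4, 1]
  gs := [(1, 0, 0, 1), (1, 0, 0, 2)]
  basis := [[4, 4, 2, 0], [4, 4, 0, 2], [4, 0, 4, 4], [0, 4, 4, 4]]
  T := [[4, 4, 1, 2], [4, 4, 2, 1], [2, 4, 4, 4], [4, 2, 4, 4]]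
  hc := [[4, 3, 4, 2], [3, 4, 4, 4], [0, 1, 0, 0], [0, 0, 1, 0]]
  stab := []

/-- A configuration. -/
def cfg5112 : Cfg where
  p := 5
  e := 1
  d0 := 1
  d1 := 2
  a := [4, 4, 2, 0]
  tr := [[4, 4, 2, 0],
    [4, 4, 0, 2],
    [4, 0, 4, 4],
    [0, 4, 4, 4],
    [4, 1, 2, 0],
    [4, 1, 0, 3],
    [4, 0, 4, 1],
    [0, 1, 4, 1],
    [4, 4, 3, 0],
    [4, 4, 0, 3],
    [4, 0, 1, 1],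
    [0, 4, 1, 1],
    [4, 1, 3, 0],
    [4, 1, 0, 2],
    [4, 0, 1, 4],
    [0, 1, 1, 4],
    [3, 3, 4, 0],
    [3, 3, 0, 4],
    [3, 0, 3, 3],
    [0, 3, 3, 3],
    [3, 2, 4, 0],
    [3, 2, 0, 1],
    [3, 0, 3, 2],
    [0, 2, 3, 2],
    [3, 3, 1, 0],
    [3, 3, 0, 1],
    [3, 0, 2, 2],
    [0, 3, 2, 2],
    [3, 2, 1, 0],
    [3, 2, 0, 4],
    [3, 0, 2, 3],
    [0, 2, 2, 3],
    [2, 2, 1, 0],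
    [2, 2, 0, 1],
    [2, 0, 2, 2],
    [0, 2, 2, 2],
    [2, 3, 1, 0],
    [2, 3, 0, 4],
    [2, 0, 2, 3],
    [0, 3, 2, 3],
    [2, 2, 4, 0],
    [2, 2, 0, 4],
    [2, 0, 3, 3],
    [0, 2, 3, 3],
    [2, 3, 4, 0],
    [2, 3, 0, 1],
    [2, 0, 3, 2],
    [0, 3, 3, 2],
    [1, 1, 3, 0],
    [1, 1, 0, 3],
    [1, 0, 1, 1],
    [0, 1, 1, 1],
    [1, 4, 3, 0],
    [1, 4, 0, 2],
    [1, 0, 1, 4],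
    [0, 4, 1, 4],
    [1, 1, 2, 0],
    [1, 1, 0, 2],
    [1, 0, 4, 4],
    [0, 1, 4, 4],
    [1, 4, 2, 0],
    [1, 4, 0, 3],
    [1, 0, 4, 1],
    [0, 4, 4, 1]]
  others := [[1, 4, 2, 1], [0, 3, 1, 2]]
  certs := [cfg5112c0]

theorem cfg5112_check : cfg5112.check = true := by decide +kernel

theorem cfg5112_extra : cfg5112.extra = true := by decide +kernel

/-- A certificate. -/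
def cfg5121c0 : Cert where
  b := [3, 3, 0, 3]
  co := [4, 0, 0, 4]
  gs := [(1, 0, 0, 1), (1, 0, 0, 2)]
  basis := [[2, 3, 4, 0], [1, 2, 0, 4], [4, 0, 2, 3], [0, 4, 1, 2]]
  T := [[0, 3, 2, 1], [1, 0, 2, 2], [2, 1, 0, 3], [2, 2, 1, 0]]
  hc := [[0, 0, 3, 3], [0, 2, 0, 1], [0, 1, 0, 0], [0, 0, 1, 0]]
  stab := []

/-- A configuration. -/
def cfg5121 : Cfg where
  p := 5
  e := 1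
  d0 := 2
  d1 := 1
  a := [2, 3, 4, 0]
  tr := [[2, 3, 4, 0],
    [1, 2, 0, 4],
    [4, 0, 2, 3],
    [0, 4, 1, 2],
    [2, 2, 4, 0],
    [1, 3, 0, 1],
    [4, 0, 2, 2],
    [0, 1, 1, 3],
    [2, 3, 1, 0],
    [1, 2, 0, 1],
    [4, 0, 3, 2],
    [0, 4, 4, 3],
    [2, 2, 1, 0],
    [1, 3, 0, 4],
    [4, 0, 3, 3],
    [0, 1, 4, 2],
    [4, 1, 3, 0],
    [2, 4, 0, 3],
    [3, 0, 4, 1],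
    [0, 3, 2, 4],
    [4, 4, 3, 0],
    [2, 1, 0, 2],
    [3, 0, 4, 4],
    [0, 2, 2, 1],
    [4, 1, 2, 0],
    [2, 4, 0, 2],
    [3, 0, 1, 4],
    [0, 3, 3, 1],
    [4, 4, 2, 0],
    [2, 1, 0, 3],
    [3, 0, 1, 1],
    [0, 2, 3, 4],
    [1, 4, 2, 0],
    [3, 1, 0, 2],
    [2, 0, 1, 4],
    [0, 2, 3, 1],
    [1, 1, 2, 0],
    [3, 4, 0, 3],
    [2, 0, 1, 1],
    [0, 3, 3, 4],
    [1, 4, 3, 0],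
    [3, 1, 0, 3],
    [2, 0, 4, 1],
    [0, 2, 2, 4],
    [1, 1, 3, 0],
    [3, 4, 0, 2],
    [2, 0, 4, 4],
    [0, 3, 2, 1],
    [3, 2, 1, 0],
    [4, 3, 0, 1],
    [1, 0, 3, 2],
    [0, 1, 4, 3],
    [3, 3, 1, 0],
    [4, 2, 0, 4],
    [1, 0, 3, 3],
    [0, 4, 4, 2],
    [3, 2, 4, 0],
    [4, 3, 0, 4],
    [1, 0, 2, 3],
    [0, 1, 1, 2],
    [3, 3, 4, 0],
    [4, 2, 0, 1],
    [1, 0, 2, 2],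
    [0, 4, 1, 3]]
  others := [[0, 2, 1, 1], [3, 1, 2, 0]]
  certs := [cfg5121c0]

theorem cfg5121_check : cfg5121.check = true := by decide +kernel

theorem cfg5121_extra : cfg5121.extra = true := by decide +kernel

/-- A certificate. -/
def cfg5122c0 : Cert where
  b := [2, 3, 1, 1]
  co := [4, 1, 0, 3]
  gs := [(1, 0, 0, 1), (1, 0, 0, 2)]
  basis := [[1, 0, 2, 4], [0, 1, 3, 2], [4, 3, 1, 0], [1, 4, 0, 1]]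
  T := [[3, 4, 2, 0], [3, 3, 0, 2], [4, 0, 3, 4], [0, 4, 3, 3]]
  hc := [[1, 3, 1, 1], [0, 3, 4, 0], [0, 1, 0, 0], [0, 0, 1, 0]]
  stab := []

/-- A configuration. -/
def cfg5122 : Cfg where
  p := 5
  e := 1
  d0 := 2
  d1 := 2
  a := [1, 0, 2, 4]
  tr := [[1, 0, 2, 4],
    [0, 1, 3, 2],
    [4, 3, 1, 0],
    [1, 4, 0, 1],
    [1, 0, 2, 1],
    [0, 4, 3, 3],
    [4, 2, 1, 0],
    [1, 1, 0, 4],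
    [1, 0, 3, 1],
    [0, 1, 2, 3],
    [4, 3, 4, 0],
    [1, 4, 0, 4],
    [1, 0, 3, 4],
    [0, 4, 2, 2],
    [4, 2, 4, 0],
    [1, 1, 0, 1],
    [2, 0, 4, 3],
    [0, 2, 1, 4],
    [3, 1, 2, 0],
    [2, 3, 0, 2],
    [2, 0, 4, 2],
    [0, 3, 1, 1],
    [3, 4, 2, 0],
    [2, 2, 0, 3],
    [2, 0, 1, 2],
    [0, 2, 4, 1],
    [3, 1, 3, 0],
    [2, 3, 0, 3],
    [2, 0, 1, 3],
    [0, 3, 4, 4],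
    [3, 4, 3, 0],
    [2, 2, 0, 2],
    [3, 0, 1, 2],
    [0, 3, 4, 1],
    [2, 4, 3, 0],
    [3, 2, 0, 3],
    [3, 0, 1, 3],
    [0, 2, 4, 4],
    [2, 1, 3, 0],
    [3, 3, 0, 2],
    [3, 0, 4, 3],
    [0, 3, 1, 4],
    [2, 4, 2, 0],
    [3, 2, 0, 2],
    [3, 0, 4, 2],
    [0, 2, 1, 1],
    [2, 1, 2, 0],
    [3, 3, 0, 3],
    [4, 0, 3, 1],
    [0, 4, 2, 3],
    [1, 2, 4, 0],
    [4, 1, 0, 4],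
    [4, 0, 3, 4],
    [0, 1, 2, 2],
    [1, 3, 4, 0],
    [4, 4, 0, 1],
    [4, 0, 2, 4],
    [0, 4, 3, 2],
    [1, 2, 1, 0],
    [4, 1, 0, 1],
    [4, 0, 2, 1],
    [0, 1, 3, 3],
    [1, 3, 1, 0],
    [4, 4, 0, 4]]
  others := [[1, 4, 0, 3], [2, 2, 2, 3]]
  certs := [cfg5122c0]

theorem cfg5122_check : cfg5122.check = true := by decide +kernel

theorem cfg5122_extra : cfg5122.extra = true := by decide +kernel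

/-- A certificate. -/
def cfg3211c0 : Cert where
  b := [0, 0, 0, 1, 0, 1, 0, 1]
  co := [2, 2, 0, 1, 0, 0, 0, 0]
  gs := [(1, 0, 0, 2), (1, 3, 3, 0), (1, 0, 1, 1)]
  basis := [[1, 0, 2, 2, 0, 1, 1, 1], [0, 1, 1, 1, 1, 0, 2, 2], [2, 1, 0, 2, 2, 2, 0, 2], [1, 1, 0, 1, 1, 2, 0, 1], [2, 2, 2, 0, 1, 1, 0, 2], [1, 1, 0, 2, 2, 2, 2, 0], [0, 2, 1, 2, 0, 2, 1, 1], [0, 1, 2, 2, 0, 1, 2, 1]]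
  T := [[2, 0, 1, 2, 2, 0, 0, 2], [1, 1, 0, 2, 2, 2, 1, 2], [2, 0, 0, 2, 1, 0, 2, 1], [2, 2, 1, 2, 2, 2, 0, 1], [0, 2, 1, 2, 0, 2, 1, 0], [1, 1, 1, 0, 2, 2, 1, 2], [0, 2, 1, 0, 0, 1, 2, 1], [2, 2, 1, 2, 2, 2, 2, 0]]
  hc := [[2, 2, 1, 1, 2, 1, 2, 2], [1, 2, 0, 2, 1, 2, 2, 0], [2, 1, 2, 2, 1, 1, 2, 2], [0, 1, 0, 0, 0, 0, 0, 0], [0, 0, 1, 2, 0, 2, 2, 1], [1, 0, 0, 2, 0, 1, 1, 2]]
  stab := [[[2, 1, 0, 1, 1, 1, 2, 0], [0, 1, 1, 2, 1, 0, 1, 1], [1, 1, 1, 0, 1, 2, 0, 1], [1, 0, 2, 2, 0, 2, 1, 2], [0, 1, 1, 2, 2, 0, 2, 2], [1, 2, 0, 2, 1, 1, 2, 0], [2, 0, 1, 1, 0, 2, 1, 2], [1, 1, 1, 0, 2, 1, 0, 2]]]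

/-- A certificate. -/
def cfg3211c1 : Cert where
  b := [0, 0, 0, 1, 0, 1, 0, 2]
  co := [0, 2, 2, 0, 0, 0, 0, 0]
  gs := [(1, 0, 1, 0), (1, 1, 0, 2), (1, 0, 0, 1)]
  basis := [[1, 0, 2, 2, 0, 1, 1, 1], [1, 0, 1, 1, 0, 1, 2, 2], [2, 0, 2, 1, 0, 1, 1, 2], [2, 0, 1, 2, 0, 1, 2, 1], [2, 2, 1, 0, 1, 1, 0, 1], [1, 1, 1, 0, 2, 2, 0, 1], [2, 1, 2, 0, 1, 2, 0, 1], [1, 2, 2, 0, 2, 1, 0, 1]]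
  T := [[1, 1, 2, 2, 0, 0, 0, 0], [1, 1, 1, 1, 2, 1, 1, 2], [0, 0, 0, 0, 1, 1, 2, 2], [2, 1, 1, 2, 1, 1, 1, 1], [1, 1, 2, 2, 1, 2, 1, 2], [1, 1, 1, 1, 0, 0, 0, 0], [1, 2, 1, 2, 1, 1, 2, 2], [0, 0, 0, 0, 1, 1, 1, 1]]
  hc := [[0, 1, 0, 0, 0, 0, 0, 0], [0, 0, 2, 0, 2, 2, 0, 0], [0, 0, 0, 0, 1, 0, 0, 0], [0, 1, 0, 0, 0, 0, 2, 1], [0, 0, 0, 1, 1, 2, 0, 0], [1, 0, 0, 2, 0, 0, 2, 1]]
  stab := [[[1, 0, 0, 0, 0, 0, 0, 0], [0, 1, 0, 0, 0, 0, 0, 0], [0, 0, 0, 0, 0, 0, 2, 0], [0, 0, 0, 0, 0, 0, 0, 2], [0, 0, 0, 0, 1, 0, 0, 0], [0, 0, 0, 0, 0, 1, 0, 0], [0, 0, 2, 0, 0, 0, 0, 0], [0, 0, 0, 2, 0, 0, 0, 0]]]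

/-- A configuration. -/
def cfg3211 : Cfg where
  p := 3
  e := 2
  d0 := 1
  d1 := 1
  a := [1, 0, 2, 2, 0, 1, 1, 1]
  tr := [[1, 0, 2, 2, 0, 1, 1, 1],
    [2, 2, 1, 0, 1, 1, 0, 1],
    [0, 1, 1, 1, 1, 0, 2, 2],
    [1, 1, 0, 1, 2, 2, 1, 0],
    [1, 0, 1, 1, 0, 1, 2, 2],
    [2, 2, 2, 0, 1, 1, 0, 2],
    [0, 1, 2, 2, 1, 0, 1, 1],
    [1, 1, 0, 2, 2, 2, 2, 0],
    [1, 0, 2, 2, 0, 2, 2, 2],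
    [2, 2, 1, 0, 2, 2, 0, 2],
    [0, 1, 1, 1, 2, 0, 1, 1],
    [1, 1, 0, 1, 1, 1, 2, 0],
    [1, 0, 1, 1, 0, 2, 1, 1],
    [2, 2, 2, 0, 2, 2, 0, 1],
    [0, 1, 2, 2, 2, 0, 2, 2],
    [1, 1, 0, 2, 1, 1, 1, 0],
    [0, 1, 1, 2, 2, 0, 2, 1],
    [1, 2, 0, 1, 2, 1, 2, 0],
    [2, 0, 2, 1, 0, 1, 1, 2],
    [2, 1, 2, 0, 1, 2, 0, 1],
    [0, 1, 2, 1, 2, 0, 1, 2],
    [1, 2, 0, 2, 2, 1, 1, 0],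
    [2, 0, 1, 2, 0, 1, 2, 1],
    [2, 1, 1, 0, 1, 2, 0, 2],
    [0, 1, 1, 2, 1, 0, 1, 2],
    [1, 2, 0, 1, 1, 2, 1, 0],
    [2, 0, 2, 1, 0, 2, 2, 1],
    [2, 1, 2, 0, 2, 1, 0, 2],
    [0, 1, 2, 1, 1, 0, 2, 1],
    [1, 2, 0, 2, 1, 2, 2, 0],
    [2, 0, 1, 2, 0, 2, 1, 2],
    [2, 1, 1, 0, 2, 1, 0, 1],
    [1, 1, 1, 0, 1, 2, 2, 0],
    [1, 0, 1, 1, 2, 0, 1, 2],
    [1, 2, 2, 0, 1, 1, 1, 0],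
    [2, 0, 1, 2, 1, 0, 1, 1],
    [1, 1, 2, 0, 1, 2, 1, 0],
    [1, 0, 2, 2, 2, 0, 2, 1],
    [1, 2, 1, 0, 1, 1, 2, 0],
    [2, 0, 2, 1, 1, 0, 2, 2],
    [1, 1, 1, 0, 2, 1, 1, 0],
    [1, 0, 1, 1, 1, 0, 2, 1],
    [1, 2, 2, 0, 2, 2, 2, 0],
    [2, 0, 1, 2, 2, 0, 2, 2],
    [1, 1, 2, 0, 2, 1, 2, 0],
    [1, 0, 2, 2, 1, 0, 1, 2],
    [1, 2, 1, 0, 2, 2, 1, 0],
    [2, 0, 2, 1, 2, 0, 1, 1],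
    [2, 1, 0, 1, 1, 1, 0, 2],
    [0, 1, 2, 1, 0, 2, 1, 1],
    [1, 1, 0, 2, 2, 1, 0, 1],
    [0, 2, 1, 1, 0, 1, 2, 1],
    [2, 1, 0, 2, 1, 1, 0, 1],
    [0, 1, 1, 2, 0, 2, 2, 2],
    [1, 1, 0, 1, 2, 1, 0, 2],
    [0, 2, 2, 2, 0, 1, 1, 2],
    [2, 1, 0, 1, 2, 2, 0, 1],
    [0, 1, 2, 1, 0, 1, 2, 2],
    [1, 1, 0, 2, 1, 2, 0, 2],
    [0, 2, 1, 1, 0, 2, 1, 2],
    [2, 1, 0, 2, 2, 2, 0, 2],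
    [0, 1, 1, 2, 0, 1, 1, 1],
    [1, 1, 0, 1, 1, 2, 0, 1],
    [0, 2, 2, 2, 0, 2, 2, 1],
    [2, 0, 1, 1, 0, 2, 2, 2],
    [1, 1, 2, 0, 2, 2, 0, 2],
    [0, 2, 2, 2, 2, 0, 1, 1],
    [2, 2, 0, 2, 1, 1, 2, 0],
    [2, 0, 2, 2, 0, 2, 1, 1],
    [1, 1, 1, 0, 2, 2, 0, 1],
    [0, 2, 1, 1, 2, 0, 2, 2],
    [2, 2, 0, 1, 1, 1, 1, 0],
    [2, 0, 1, 1, 0, 1, 1, 1],
    [1, 1, 2, 0, 1, 1, 0, 1],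
    [0, 2, 2, 2, 1, 0, 2, 2],
    [2, 2, 0, 2, 2, 2, 1, 0],
    [2, 0, 2, 2, 0, 1, 2, 2],
    [1, 1, 1, 0, 1, 1, 0, 2],
    [0, 2, 1, 1, 1, 0, 1, 1],
    [2, 2, 0, 1, 2, 2, 2, 0],
    [0, 2, 2, 1, 1, 0, 1, 2],
    [2, 1, 0, 2, 1, 2, 1, 0],
    [1, 0, 1, 2, 0, 2, 2, 1],
    [1, 2, 1, 0, 2, 1, 0, 2],
    [0, 2, 1, 2, 1, 0, 2, 1],
    [2, 1, 0, 1, 1, 2, 2, 0],
    [1, 0, 2, 1, 0, 2, 1, 2],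
    [1, 2, 2, 0, 2, 1, 0, 1],
    [0, 2, 2, 1, 2, 0, 2, 1],
    [2, 1, 0, 2, 2, 1, 2, 0],
    [1, 0, 1, 2, 0, 1, 1, 2],
    [1, 2, 1, 0, 1, 2, 0, 1],
    [0, 2, 1, 2, 2, 0, 1, 2],
    [2, 1, 0, 1, 2, 1, 1, 0],
    [1, 0, 2, 1, 0, 1, 2, 1],
    [1, 2, 2, 0, 1, 2, 0, 2],
    [2, 2, 2, 0, 2, 1, 1, 0],
    [2, 0, 2, 2, 1, 0, 2, 1],
    [2, 1, 1, 0, 2, 2, 2, 0],
    [1, 0, 2, 1, 2, 0, 2, 2],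
    [2, 2, 1, 0, 2, 1, 2, 0],
    [2, 0, 1, 1, 1, 0, 1, 2],
    [2, 1, 2, 0, 2, 2, 1, 0],
    [1, 0, 1, 2, 2, 0, 1, 1],
    [2, 2, 2, 0, 1, 2, 2, 0],
    [2, 0, 2, 2, 2, 0, 1, 2],
    [2, 1, 1, 0, 1, 1, 1, 0],
    [1, 0, 2, 1, 1, 0, 1, 1],
    [2, 2, 1, 0, 1, 2, 1, 0],
    [2, 0, 1, 1, 2, 0, 2, 1],
    [2, 1, 2, 0, 1, 1, 2, 0],
    [1, 0, 1, 2, 1, 0, 2, 2],
    [1, 2, 0, 2, 2, 2, 0, 1],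
    [0, 2, 1, 2, 0, 1, 2, 2],
    [2, 2, 0, 1, 1, 2, 0, 2],
    [0, 1, 2, 2, 0, 2, 1, 2],
    [1, 2, 0, 1, 2, 2, 0, 2],
    [0, 2, 2, 1, 0, 1, 1, 1],
    [2, 2, 0, 2, 1, 2, 0, 1],
    [0, 1, 1, 1, 0, 2, 2, 1],
    [1, 2, 0, 2, 1, 1, 0, 2],
    [0, 2, 1, 2, 0, 2, 1, 1],
    [2, 2, 0, 1, 2, 1, 0, 1],
    [0, 1, 2, 2, 0, 1, 2, 1],
    [1, 2, 0, 1, 1, 1, 0, 1],
    [0, 2, 2, 1, 0, 2, 2, 2],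
    [2, 2, 0, 2, 2, 1, 0, 2],
    [0, 1, 1, 1, 0, 1, 1, 2]]
  others := [[0, 2, 2, 2, 2, 2, 1, 1]]
  certs := [cfg3211c0, cfg3211c1]

theorem cfg3211_extra : cfg3211.extra = true := by decide +kernel

end CfsgLib.CoprimeBase.Model
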