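import Cfsg.Agent.Lib.CoprimeBase.Main
import Cfsg.Agent.Lib.Coprime.Action
import Cfsg.Agent.Lib.PSolvable.Omega

/-!
# Two points for a solvable group acting coprimely

For every subgroup `B` of the acting group the fixed points in `K` are as many as the fixed points in
the product of invariant Sylow subgroups, so both have equally many pairs with a given stabilizer.
-/

set_option autoImplicit false
set_option maxHeartbeats 800000

universe u

open Pointwise
open scoped commutatorElement

namespace CfsgLib.CoprimeBase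

theorem card_split {L : Type*} [PartialOrder L] [Fintype L] [DecidableEq L]
    [DecidableRel (fun a b : L => a < b)] {γ : Type*} [Finite γ] (k : γ → L) (l : L) :
    Nat.card {a // l ≤ k a} = Nat.card {a // k a = l} +
      ∑ m ∈ Finset.univ.filter (fun m => l < m), Nat.card {a // k a = m} := by
  classical
  haveI := Fintype.ofFinite γ
  simp only [Nat.card_eq_fintype_card, Fintype.card_subtype]
  rw [Finset.card_eq_sum_card_fiberwise (f := k)
    (t := insert l (Finset.univ.filter fun m => l < m)) (fun a ha => ?_),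
    Finset.sum_insert (by simp)]
  · refine congrArg₂ (· + ·) (congrArg Finset.card ?_)
      (Finset.sum_congr rfl fun m hm => congrArg Finset.card ?_)
    · ext a
      simp only [Finset.mem_filter, Finset.mem_univ, true_and]
      exact ⟨fun e => e.2, fun e => ⟨e.ge, e⟩⟩
    · ext a
      simp only [Finset.mem_filter, Finset.mem_univ, true_and] at hm ⊢
      exact ⟨fun e => e.2, fun e => ⟨e ▸ hm.le, e⟩⟩
  · have ha' : l ≤ k a := (Finset.mem_filter.mp ha).2
    rcases ha'.eq_or_lt with e | e
    · exact Finset.mem_insert.2 (Or.inl e.symm)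
    · exact Finset.mem_insert_of_mem (Finset.mem_filter.2 ⟨Finset.mem_univ _, e⟩)

/-- Equal numbers above every point give equal fibres. -/
theorem card_fibre_eq {L : Type*} [PartialOrder L] [Finite L] {α β : Type*} [Finite α] [Finite β]
    (f : α → L) (g : β → L) (h : ∀ l, Nat.card {a // l ≤ f a} = Nat.card {b // l ≤ g b}) :
    ∀ l, Nat.card {a // f a = l} = Nat.card {b // g b = l} := by
  classical
  haveI := Fintype.ofFinite L
  intro l
  refine wellFounded_gt.induction
    (C := fun l => Nat.card {a // f a = l} = Nat.card {b // g b = l}) l fun l ih => ?_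
  have h1 := h l
  rw [card_split f l, card_split g l,
    Finset.sum_congr rfl fun m hm => ih m (Finset.mem_filter.mp hm).2] at h1
  exact Nat.add_right_cancel h1

variable {G : Type u} [Group G] [Finite G]

/-- The fixed points in an invariant Sylow subgroup form the `p`-part of the fixed points. -/
theorem card_inf_centralizer_sylow {p : ℕ} [Fact p.Prime] {A K B : Subgroup G}
    (hAK : A ≤ Subgroup.normalizer (K : Set G)) (hcop : (Nat.card A).Coprime (Nat.card K))
    (hsol : Group.IsSolvable A) (hBA : B ≤ A) (P : Sylow p K)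
    (hP : A ≤ Subgroup.normalizer ((P : Subgroup K).map K.subtype : Set G)) :
    Nat.card ((P : Subgroup K).map K.subtype ⊓ Subgroup.centralizer (B : Set G) : Subgroup G) =
      p ^ (Nat.card (K ⊓ Subgroup.centralizer (B : Set G) : Subgroup G)).factorization p := by
  set F := K ⊓ Subgroup.centralizer (B : Set G) with hF
  set S := (P : Subgroup K).map K.subtype with hS
  have hle : S ⊓ Subgroup.centralizer (B : Set G) ≤ F :=
    inf_le_inf_right _ (Subgroup.map_subtype_le _)
  have hp' : IsPGroup p ↥(S ⊓ Subgroup.centralizer (B : Set G)) :=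
    (P.2.map K.subtype).to_le inf_le_left
  obtain ⟨Q, hQ⟩ := (hp'.comap_of_injective F.subtype F.subtype_injective).exists_le_sylow
  have hQF : (Q : Subgroup F).map F.subtype ≤ F := Subgroup.map_subtype_le _
  have hQB : B ≤ Subgroup.normalizer ((Q : Subgroup F).map F.subtype : Set G) := fun b hb => by
    refine Subgroup.centralizer_le_normalizer _ ?_
    rw [Subgroup.mem_centralizer_iff]
    intro x hx
    exact (Subgroup.mem_centralizer_iff.mp (hQF hx).2 b hb).symm
  have hBK := hBA.trans hAK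
  have hcopB : (Nat.card B).Coprime (Nat.card K) :=
    hcop.coprime_dvd_left (Subgroup.card_dvd_of_le hBA)
  haveI := hsol
  have hsolB : Group.IsSolvable B :=
    Group.isSolvable_of_isSolvable_injective (f := Subgroup.inclusion hBA) (Subgroup.inclusion_injective hBA)
  obtain ⟨S', hQS', hS'B⟩ := CfsgLib.Coprime.exists_invariant_sylow_ge hBK hcopB (Or.inl hsolB)
    (hQF.trans inf_le_left) (Q.2.map _) hQB
  obtain ⟨c, hc, hce⟩ := CfsgLib.Coprime.invariant_sylow_conj hBK hcopB (Or.inl hsolB) P S'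
    (hBA.trans hP) hS'B
  have hS' : (S' : Subgroup K).map K.subtype = MulAut.conj (c : G) • S := by
    rw [← hce, CfsgLib.Coprime.map_subtype_conj_smul_sylow]
  have h1 : (Q : Subgroup F).map F.subtype ≤
      MulAut.conj (c : G) • (S ⊓ Subgroup.centralizer (B : Set G)) := by
    intro x hx
    have hxS : x ∈ MulAut.conj (c : G) • S := hS' ▸ hQS' hx
    rw [CfsgLib.Coprime.mem_conj_smul_iff] at hxS ⊢
    exact ⟨hxS, (Subgroup.centralizer (B : Set G)).mul_mem ((Subgroup.centralizer (B : Set G)).mul_mem ((Subgroup.centralizer (B : Set G)).inv_mem hc) (hQF hx).2) hc⟩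
  have h2 : Nat.card ((Q : Subgroup F).map F.subtype) ≤
      Nat.card (S ⊓ Subgroup.centralizer (B : Set G) : Subgroup G) :=
    (Nat.le_of_dvd Nat.card_pos (Subgroup.card_dvd_of_le h1)).trans
      (CfsgLib.Coprime.card_conj_smul _ _).le
  rw [Subgroup.card_map_of_injective F.subtype_injective] at h2
  have h3 : Nat.card (S ⊓ Subgroup.centralizer (B : Set G) : Subgroup G) ≤ Nat.card (Q : Subgroup F) := by
    rw [← Nat.card_congr (Subgroup.subgroupOfEquivOfLe hle).toEquiv]
    exact Nat.le_of_dvd Nat.card_pos (Subgroup.card_dvd_of_le hQ)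
  rw [le_antisymm h3 h2, Q.card_eq_multiplicity]

/-- A solvable group acting coprimely on a `p`-group has two points whose common stabilizer is
trivial on it. -/
theorem exists_pair_pgroup {p : ℕ} [hp : Fact p.Prime] {A S : Subgroup G}
    (hAS : A ≤ Subgroup.normalizer (S : Set G)) (hsol : Group.IsSolvable A)
    (hc : ¬ p ∣ Nat.card A) (hS : IsPGroup p S) :
    ∃ x ∈ S, ∃ y ∈ S, ∀ B : Subgroup G, B ≤ A → B ≤ Subgroup.centralizer {x, y} →
      B ≤ Subgroup.centralizer (S : Set G) := by
  obtain ⟨hcomm, hpow⟩ := CfsgLib.PSolvable.commutator_le_frattini hS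
  let Φ := frattini S
  letI : CommGroup (S ⧸ Φ) :=
    { (inferInstance : Group (S ⧸ Φ)) with
      mul_comm := fun a b => by
        obtain ⟨a, rfl⟩ := QuotientGroup.mk'_surjective Φ a
        obtain ⟨b, rfl⟩ := QuotientGroup.mk'_surjective Φ b
        rw [← map_mul, ← map_mul, QuotientGroup.mk'_apply, QuotientGroup.mk'_apply, QuotientGroup.eq]
        have e : (a * b)⁻¹ * (b * a) = ⁅b⁻¹, a⁻¹⁆ := by rw [commutatorElement_def]; group
        rw [e]
        exact hcomm (Subgroup.commutator_mem_commutator (Subgroup.mem_top _) (Subgroup.mem_top _)) }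
  let act : A → S →* S := fun a => (S.normalizerMonoidHom ⟨a, hAS a.2⟩).toMonoidHom
  have hact : ∀ (a : A) (k : S), ((act a k : S) : G) = a * k * a⁻¹ := fun a k => rfl
  have hΦ : ∀ a, Φ ≤ Φ.comap (act a) := fun a =>
    (Subgroup.characteristic_iff_le_comap.mp inferInstance) (S.normalizerMonoidHom ⟨a, hAS a.2⟩)
  let σ : A →* AddMonoid.End (Additive (S ⧸ Φ)) :=
    { toFun := fun a => MonoidHom.toAdditive (QuotientGroup.map Φ Φ (act a) (hΦ a))
      map_one' := by
        refine CfsgLib.OddBase.ext_end fun v => ?_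
        obtain ⟨k, rfl⟩ : ∃ k, Additive.ofMul (QuotientGroup.mk' Φ k) = v := by
          obtain ⟨k, hk⟩ := QuotientGroup.mk'_surjective Φ (Additive.toMul v)
          exact ⟨k, by rw [hk]; rfl⟩
        show Additive.ofMul (QuotientGroup.mk' Φ (act 1 k)) = Additive.ofMul (QuotientGroup.mk' Φ k)
        exact congrArg _ (congrArg _ (Subtype.ext (by rw [hact]; simp)))
      map_mul' := fun a b => by
        refine CfsgLib.OddBase.ext_end fun v => ?_
        obtain ⟨k, rfl⟩ : ∃ k, Additive.ofMul (QuotientGroup.mk' Φ k) = v := by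
          obtain ⟨k, hk⟩ := QuotientGroup.mk'_surjective Φ (Additive.toMul v)
          exact ⟨k, by rw [hk]; rfl⟩
        show Additive.ofMul (QuotientGroup.mk' Φ (act (a * b) k)) =
          Additive.ofMul (QuotientGroup.mk' Φ (act a (act b k)))
        exact congrArg _ (congrArg _ (Subtype.ext (by rw [hact, hact, hact]; simp [mul_assoc]))) }
  obtain ⟨u, v, huv⟩ := hasBase_of_coprime hsol hp.out (V := Additive (S ⧸ Φ)) (fun w => by
    obtain ⟨k, hk⟩ := QuotientGroup.mk'_surjective Φ (Additive.toMul w)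
    rw [show w = Additive.ofMul (QuotientGroup.mk' Φ k) by rw [hk]; rfl, ← ofMul_pow, ← map_pow,
      QuotientGroup.mk'_apply, (QuotientGroup.eq_one_iff _).mpr (hpow k), ofMul_one]) hc σ
  obtain ⟨x, hx⟩ := QuotientGroup.mk'_surjective Φ (Additive.toMul u)
  obtain ⟨y, hy⟩ := QuotientGroup.mk'_surjective Φ (Additive.toMul v)
  refine ⟨x, x.2, y, y.2, fun B hBA hB => ?_⟩
  have hfix : ∀ (a : A) (k : S), (a : G) * k = k * a → act a k = k := fun a k h =>
    Subtype.ext (by rw [hact, h]; simp)
  refine CfsgLib.Coprime.le_centralizer_of_frattini (hBA.trans hAS) ?_ fun a ha k hk => ?_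
  · obtain ⟨n, hn⟩ := IsPGroup.iff_card.mp hS
    refine Nat.Coprime.coprime_dvd_right (Subgroup.card_subgroup_dvd_card Φ) ?_
    rw [hn]
    exact (Nat.Coprime.pow_right n ((hp.out.coprime_iff_not_dvd.mpr fun h =>
      hc (h.trans (Subgroup.card_dvd_of_le hBA))).symm))
  · have hσ : σ ⟨a, hBA ha⟩ = 1 := huv _
      (by
        rw [show u = Additive.ofMul (QuotientGroup.mk' Φ x) by rw [hx]; rfl]
        show Additive.ofMul (QuotientGroup.mk' Φ (act ⟨a, hBA ha⟩ x)) = _
        rw [hfix ⟨a, hBA ha⟩ x (Subgroup.mem_centralizer_iff.mp (hB ha) (x : G) (Or.inl rfl)).symm])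
      (by
        rw [show v = Additive.ofMul (QuotientGroup.mk' Φ y) by rw [hy]; rfl]
        show Additive.ofMul (QuotientGroup.mk' Φ (act ⟨a, hBA ha⟩ y)) = _
        rw [hfix ⟨a, hBA ha⟩ y (Subgroup.mem_centralizer_iff.mp (hB ha) (y : G) (Or.inr rfl)).symm])
    have h1 : QuotientGroup.mk' Φ (act ⟨a, hBA ha⟩ ⟨k, hk⟩) = QuotientGroup.mk' Φ ⟨k, hk⟩ :=
      congrArg Additive.toMul (congrArg
        (fun f : AddMonoid.End (Additive (S ⧸ Φ)) => f (Additive.ofMul (QuotientGroup.mk' Φ ⟨k, hk⟩))) hσ)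
    rw [QuotientGroup.mk'_apply, QuotientGroup.mk'_apply, QuotientGroup.eq] at h1
    refine ⟨act ⟨a, hBA ha⟩ ⟨k, hk⟩ * (⟨k, hk⟩ : S)⁻¹, ?_, by simp [hact]⟩
    refine (inferInstance : Φ.Normal).mem_comm ?_
    rw [show (⟨k, hk⟩ : S)⁻¹ * act ⟨a, hBA ha⟩ ⟨k, hk⟩ =
      ((act ⟨a, hBA ha⟩ ⟨k, hk⟩)⁻¹ * ⟨k, hk⟩)⁻¹ by group]
    exact Φ.inv_mem h1

/-- A solvable group acting coprimely has two points whose common stabilizer acts trivially. -/
theorem exists_pair {A K : Subgroup G} (hAK : A ≤ Subgroup.normalizer (K : Set G))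
    (hcop : (Nat.card A).Coprime (Nat.card K)) (hsol : Group.IsSolvable A) :
    ∃ x ∈ K, ∃ y ∈ K, ∀ a ∈ A, a * x = x * a → a * y = y * a →
      a ∈ Subgroup.centralizer (K : Set G) := by
  classical
  let I := {p // p ∈ (Nat.card K).primeFactors}
  haveI : ∀ i : I, Fact i.1.Prime := fun i => ⟨Nat.prime_of_mem_primeFactors i.2⟩
  choose P hP using fun i : I =>
    CfsgLib.Coprime.exists_invariant_sylow hAK hcop (Or.inl hsol) i.1
  let S : I → Subgroup G := fun i => (P i : Subgroup K).map K.subtype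
  choose x hx y hy hxy using fun i : I => exists_pair_pgroup (hP i) hsol
    (fun h => (Nat.prime_of_mem_primeFactors i.2).ne_one (Nat.eq_one_of_dvd_coprimes hcop h
      (Nat.dvd_of_mem_primeFactors i.2))) ((P i).2.map K.subtype)
  let st : (Unit ⊕ Unit → K) → Subgroup G := fun z =>
    A ⊓ Subgroup.centralizer (Set.range fun j => (z j : G))
  let st' : (Unit ⊕ Unit → ∀ i, S i) → Subgroup G := fun z =>
    A ⊓ Subgroup.centralizer (Set.range fun j : (Unit ⊕ Unit) × I => (z j.1 j.2 : G))
  have hle : ∀ B s, B ≤ A → (B ≤ A ⊓ Subgroup.centralizer s ↔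
      s ⊆ Subgroup.centralizer (B : Set G)) := fun B s hB => by
    rw [le_inf_iff, ← Subgroup.closure_le, Subgroup.le_centralizer_iff,
      Subgroup.centralizer_closure]
    exact ⟨fun h => h.2, fun h => ⟨hB, h⟩⟩
  have key : ∀ B, Nat.card {z // B ≤ st z} = Nat.card {z // B ≤ st' z} := by
    intro B
    by_cases hBA : B ≤ A
    · let F := fun T : Subgroup G => T ⊓ Subgroup.centralizer (B : Set G)
      have e1 : Nat.card {z // B ≤ st z} = Nat.card (Unit ⊕ Unit → F K) := by
        refine Nat.card_congr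
          { toFun := fun z j => ⟨z.1 j, (z.1 j).2, (hle B _ hBA).1 z.2 ⟨j, rfl⟩⟩
            invFun := fun z => ⟨fun j => ⟨z j, (z j).2.1⟩, (hle B _ hBA).2 (by
              rintro _ ⟨j, rfl⟩; exact (z j).2.2)⟩
            left_inv := fun z => rfl
            right_inv := fun z => rfl }
      have e2 : Nat.card {z // B ≤ st' z} = Nat.card (Unit ⊕ Unit → ∀ i, F (S i)) := by
        refine Nat.card_congr
          { toFun := fun z j i => ⟨z.1 j i, (z.1 j i).2, (hle B _ hBA).1 z.2 ⟨(j, i), rfl⟩⟩
            invFun := fun z => ⟨fun j i => ⟨z j i, (z j i).2.1⟩, (hle B _ hBA).2 (by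
              rintro _ ⟨⟨j, i⟩, rfl⟩; exact (z j i).2.2)⟩
            left_inv := fun z => rfl
            right_inv := fun z => rfl }
      rw [e1, e2, Nat.card_fun, Nat.card_fun, Nat.card_pi]
      congr 1
      set n := Nat.card (F K) with hn
      rw [Finset.prod_congr rfl fun i _ => card_inf_centralizer_sylow hAK hcop hsol hBA (P i) (hP i)]
      have hsub : n.factorization.support ⊆ (Nat.card K).primeFactors := by
        rw [Nat.support_factorization]
        exact Nat.primeFactors_mono (Subgroup.card_dvd_of_le inf_le_left) Nat.card_pos.ne'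
      rw [Finset.univ_eq_attach, Finset.prod_attach (Nat.card K).primeFactors
        (fun p => p ^ n.factorization p),
        ← Finsupp.prod_of_support_subset _ hsub (fun p k => p ^ k) (fun p _ => pow_zero p)]
      exact (Nat.prod_factorization_pow_eq_self Nat.card_pos.ne').symm
    · haveI : IsEmpty {z // B ≤ st z} := ⟨fun z => hBA (z.2.trans inf_le_left)⟩
      haveI : IsEmpty {z // B ≤ st' z} := ⟨fun z => hBA (z.2.trans inf_le_left)⟩
      simp
  have hK : ∀ a, (∀ i, a ∈ Subgroup.centralizer (S i : Set G)) →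
      a ∈ Subgroup.centralizer (K : Set G) := by
    intro a ha
    set T := (Subgroup.centralizer ({a} : Set G)).subgroupOf K with hT
    have hPT : ∀ i, (P i : Subgroup K) ≤ T := fun i k hk => by
      rw [hT, Subgroup.mem_subgroupOf, Subgroup.mem_centralizer_singleton_iff]
      exact Subgroup.mem_centralizer_iff.mp (ha i) _ (Subgroup.mem_map_of_mem _ hk)
    have hTtop : T = ⊤ := by
      refine Subgroup.index_eq_one.mp ?_
      by_contra h
      obtain ⟨q, hq, hqd⟩ := Nat.exists_prime_and_dvd h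
      have hqK : q ∈ (Nat.card K).primeFactors := Nat.mem_primeFactors.mpr
        ⟨hq, hqd.trans (Subgroup.index_dvd_card T), Nat.card_pos.ne'⟩
      exact (P ⟨q, hqK⟩).not_dvd_index (hqd.trans (Subgroup.index_dvd_of_le (hPT _)))
    rw [Subgroup.mem_centralizer_iff]
    intro k hk
    have : (⟨k, hk⟩ : K) ∈ T := hTtop ▸ Subgroup.mem_top _
    rw [hT, Subgroup.mem_subgroupOf, Subgroup.mem_centralizer_singleton_iff] at this
    exact this
  set C₀ := A ⊓ Subgroup.centralizer (K : Set G)
  let z₀ : Unit ⊕ Unit → ∀ i, S i :=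
    Sum.elim (fun _ i => ⟨x i, hx i⟩) (fun _ i => ⟨y i, hy i⟩)
  have hz : st' z₀ = C₀ := by
    refine le_antisymm ?_ ?_
    · intro a ha
      refine ⟨ha.1, hK a fun i => ?_⟩
      refine hxy i (Subgroup.zpowers a) (Subgroup.zpowers_le.mpr ha.1) ?_ (Subgroup.mem_zpowers a)
      rw [Subgroup.zpowers_le, Subgroup.mem_centralizer_iff]
      simp only [Set.mem_insert_iff, Set.mem_singleton_iff]
      rintro _ (rfl | rfl)
      exacts [Subgroup.mem_centralizer_iff.mp ha.2 _ ⟨(Sum.inl (), i), rfl⟩,
        Subgroup.mem_centralizer_iff.mp ha.2 _ ⟨(Sum.inr (), i), rfl⟩]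
    · intro a ha
      refine ⟨ha.1, Subgroup.mem_centralizer_iff.mpr ?_⟩
      rintro _ ⟨⟨j, i⟩, rfl⟩
      exact Subgroup.mem_centralizer_iff.mp ha.2 _
        (Subgroup.map_subtype_le _ (z₀ j i).2)
  have hfib := card_fibre_eq st st' key C₀
  haveI : Nonempty {z // st' z = C₀} := ⟨⟨_, hz⟩⟩
  have hpos : 0 < Nat.card {z // st z = C₀} := hfib ▸ Nat.card_pos
  obtain ⟨⟨z, hz'⟩⟩ := (Nat.card_pos_iff.mp hpos).1
  refine ⟨z (Sum.inl ()), (z _).2, z (Sum.inr ()), (z _).2, fun a ha h1 h2 => ?_⟩
  have : a ∈ st z := by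
    refine ⟨ha, Subgroup.mem_centralizer_iff.mpr ?_⟩
    rintro _ ⟨(⟨⟩ | ⟨⟩), rfl⟩
    exacts [h1.symm, h2.symm]
  exact (hz' ▸ this).2

end CfsgLib.CoprimeBase
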