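import Cfsg.Agent.Lib.CoprimeBase.Pairs
import Mathlib.GroupTheory.SemidirectProduct

/-!
# Two points with trivial common stabilizer for a faithful coprime action of a solvable group
-/

set_option autoImplicit false

namespace CfsgLib.CoprimeBase

theorem exists_two_points {A K : Type*} [Group A] [Finite A] [Group K] [Finite K]
    (φ : A →* MulAut K) (hφ : Function.Injective φ) (hA : Group.IsSolvable A)
    (hcop : (Nat.card A).Coprime (Nat.card K)) :
    ∃ x y : K, ∀ a : A, φ a x = x → φ a y = y → a = 1 := by
  haveI : Finite (K ⋊[φ] A) := Finite.of_equiv _ SemidirectProduct.equivProd.symm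
  let A' := (SemidirectProduct.inr : A →* K ⋊[φ] A).range
  let K' := (SemidirectProduct.inl : K →* K ⋊[φ] A).range
  haveI : K'.Normal := by
    show ((SemidirectProduct.inl : K →* K ⋊[φ] A).range).Normal
    rw [SemidirectProduct.range_inl_eq_ker_rightHom]
    infer_instance
  have hAK : A' ≤ Subgroup.normalizer (K' : Set (K ⋊[φ] A)) := by
    rw [Subgroup.normalizer_eq_top_iff.mpr ‹_›]
    exact le_top
  have hcop' : (Nat.card A').Coprime (Nat.card K') := by
    rw [← Nat.card_congr (MonoidHom.ofInjective SemidirectProduct.inr_injective).toEquiv,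
      ← Nat.card_congr (MonoidHom.ofInjective SemidirectProduct.inl_injective).toEquiv]
    exact hcop
  haveI := hA
  have hsol : Group.IsSolvable A' :=
    Group.isSolvable_of_surjective (MonoidHom.rangeRestrict_surjective _)
  have comm : ∀ (a : A) (k : K), φ a k = k →
      (SemidirectProduct.inr a : K ⋊[φ] A) * SemidirectProduct.inl k =
        SemidirectProduct.inl k * SemidirectProduct.inr a := fun a k h => by
    ext <;> simp [h]
  obtain ⟨_, ⟨x, rfl⟩, _, ⟨y, rfl⟩, h⟩ := exists_pair hAK hcop' hsol
  refine ⟨x, y, fun a hx hy => hφ (MulEquiv.ext fun k => ?_)⟩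
  have h1 := Subgroup.mem_centralizer_iff.mp (h _ ⟨a, rfl⟩ (comm a x hx) (comm a y hy))
    (SemidirectProduct.inl k) ⟨k, rfl⟩
  have h2 := congrArg SemidirectProduct.left h1
  simpa using h2.symm

end CfsgLib.CoprimeBase
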